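import Mathlib
import Cfsg.Agent.Lib.Perm.Small.OrbitCentralizer

/-!
# Counting lemmas for subgroups containing a Sylow normalizer
-/

set_option autoImplicit false
set_option linter.all false

open Subgroup MulAction
open scoped Pointwise

namespace CfsgLib.Char.MTwentyTwoOrder

universe u

variable {G : Type u} [Group G] [Finite G] {p : ℕ} [hp : Fact p.Prime]

/-- The order of a subgroup containing `P` and the congruence of its number of Sylow subgroups. -/
theorem sylow_split (P : Sylow p G) {H : Subgroup G} (hPH : (P : Subgroup G) ≤ H) :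
    ∃ j : ℕ, j % p = 1 ∧
      Nat.card H = j * Nat.card ↥(H ⊓ normalizer ((P : Subgroup G) : Set G)) := by
  refine ⟨(normalizer ((P : Subgroup G) : Set G)).relIndex H, ?_, ?_⟩
  · have h1 := card_sylow_modEq_one p H
    rw [Sylow.card_eq_index_normalizer (P.subtype hPH),
      show ((P.subtype hPH : Sylow p H) : Set H) = (((P : Subgroup G).subgroupOf H : Subgroup H) : Set H) from rfl,
      ← Subgroup.subgroupOf_normalizer_eq hPH, ← Subgroup.relIndex] at h1
    rwa [Nat.ModEq, Nat.one_mod_eq_one.2 hp.out.one_lt.ne'] at h1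
  · rw [← Subgroup.inf_relIndex_left H (normalizer ((P : Subgroup G) : Set G)), Subgroup.relIndex, mul_comm,
      ← Nat.card_congr (Subgroup.subgroupOfEquivOfLe (inf_le_left :
        H ⊓ normalizer ((P : Subgroup G) : Set G) ≤ H)).toEquiv]
    exact (Subgroup.card_mul_index _).symm

/-- A group of prime order normalising a subgroup whose non-trivial part it cannot permute freely centralizes some
non-trivial element of it. -/
theorem exists_fixed {g : G} (hg : orderOf g = p) {X : Subgroup G} (hX : g ∈ normalizer (X : Set G))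
    (hmod : ¬ Nat.card X ≡ 1 [MOD p]) : ∃ x ∈ X, x ≠ 1 ∧ Commute g x := by
  classical
  have hle : zpowers g ≤ normalizer (X : Set G) := zpowers_le.2 hX
  let act : MulAction ↥(zpowers g) ↥X := MulAction.compHom _ ((normalizerMonoidHom X).comp (inclusion hle))
  have hP : IsPGroup p ↥(zpowers g) := IsPGroup.of_card (n := 1) (by rw [Nat.card_zpowers, hg, pow_one])
  have h := hP.card_modEq_card_fixedPoints ↥X
  by_contra hno
  push Not at hno
  refine hmod (h.trans ?_)
  suffices hc : Nat.card (MulAction.fixedPoints ↥(zpowers g) ↥X) = 1 by rw [hc]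
  refine Nat.card_eq_one_iff_exists.2 ⟨⟨1, fun z => Subtype.ext ?_⟩, fun a => Subtype.ext (Subtype.ext ?_)⟩
  · show (z : G) * 1 * (z : G)⁻¹ = 1
    group
  · have hh : g * ((a : X) : G) * g⁻¹ = ((a : X) : G) := congrArg Subtype.val (a.2 ⟨g, mem_zpowers g⟩)
    by_contra hne
    exact hno _ (a : X).2 hne (mul_inv_eq_iff_eq_mul.1 hh)

/-- The centralizer of a subgroup of prime order with exactly one fixed point permutes the other orbits. -/
theorem cent_dvd_factorial_aux {α : Type u} [Finite α] [MulAction G α] [FaithfulSMul G α] (a₀ : α)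
    {P : Subgroup G} (hP : Nat.card P = p) {c : ℕ} (hC : Nat.card (centralizer (P : Set G)) = p * c)
    (hpc : ¬ p ∣ c) (h1 : P ≤ stabilizer G a₀) (h2 : centralizer (P : Set G) ≤ stabilizer G a₀)
    (hfix : ∀ a : α, (∀ x ∈ P, x • a = a) → a = a₀) {k : ℕ} (hcard : Nat.card α = p * k + 1) :
    c ∣ k.factorial := by
  classical
  haveI : FaithfulSMul ↥(stabilizer G a₀) ↥(SubMulAction.ofStabilizer G a₀) := ⟨fun {a b} hab => Subtype.ext
    (FaithfulSMul.eq_of_smul_eq_smul (α := α) fun q => by
      by_cases hq : q = a₀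
      · subst hq; exact a.2.trans b.2.symm
      · exact congrArg Subtype.val (hab ⟨q, hq⟩))⟩
  set P' := P.subgroupOf (stabilizer G a₀) with hP'
  have hP'c : Nat.card P' = p := by rw [hP', Nat.card_congr (subgroupOfEquivOfLe h1).toEquiv, hP]
  have hC' : Nat.card (centralizer (P' : Set ↥(stabilizer G a₀))) = p * c := by
    rw [← hC]
    refine Nat.card_congr
      { toFun := fun y => ⟨((y : ↥(stabilizer G a₀)) : G), mem_centralizer_iff.2 fun w hw =>
          congrArg Subtype.val (mem_centralizer_iff.1 y.2 ⟨w, h1 hw⟩ hw)⟩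
        invFun := fun y => ⟨⟨y, h2 y.2⟩, mem_centralizer_iff.2 fun w hw =>
          Subtype.ext (mem_centralizer_iff.1 y.2 (w : G) hw)⟩
        left_inv := fun y => rfl
        right_inv := fun y => rfl }
  have hfix' : Nat.card (MulAction.fixedPoints P' ↥(SubMulAction.ofStabilizer G a₀)) = 0 := by
    haveI : IsEmpty (MulAction.fixedPoints P' ↥(SubMulAction.ofStabilizer G a₀)) := ⟨fun q =>
      (q.1).2 (hfix _ fun x hx => congrArg Subtype.val (q.2 ⟨⟨x, h1 hx⟩, hx⟩))⟩
    exact Nat.card_of_isEmpty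
  have horb := CfsgLib.Perm.PrimeBlock.card_orbits (α := ↥(SubMulAction.ofStabilizer G a₀)) hP'c hfix'
  have e := SubMulAction.nat_card_ofStabilizer_add_one_eq (G := G) a₀
  rw [hcard] at e
  rw [show Nat.card ↥(SubMulAction.ofStabilizer G a₀) = p * k by omega, mul_zero, add_zero] at horb
  have hk := Nat.eq_of_mul_eq_mul_left hp.out.pos horb
  have := CfsgLib.Perm.PrimeBlock.dvd_factorial_orbits (α := ↥(SubMulAction.ofStabilizer G a₀)) hP'c hC' hpc
  rwa [hk] at this

/-- The centralizer of a Sylow subgroup of prime order in the action on the cosets of a subgroup containing its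
normalizer permutes the non-trivial cycles. -/
theorem cent_dvd_factorial [IsSimpleGroup G] (P : Sylow p G) (hP : Nat.card (P : Subgroup G) = p) {c : ℕ}
    (hC : Nat.card (centralizer ((P : Subgroup G) : Set G)) = p * c) (hpc : ¬ p ∣ c) {H : Subgroup G}
    (hH : H ≠ ⊤) (hNH : normalizer ((P : Subgroup G) : Set G) ≤ H) {k : ℕ} (hidx : H.index = p * k + 1) :
    c ∣ k.factorial := by
  classical
  have hne : ∃ (g : G) (a : G ⧸ H), g • a ≠ a := by
    obtain ⟨g, hg⟩ : ∃ g, g ∉ H := by
      by_contra hno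
      push Not at hno
      exact hH (eq_top_iff.2 fun g _ => hno g)
    refine ⟨g, ((1 : G) : G ⧸ H), fun e => hg ?_⟩
    rw [MulAction.Quotient.smul_coe, smul_eq_mul, mul_one, eq_comm, QuotientGroup.eq] at e
    simpa using e
  haveI := CfsgLib.Perm.PrimeBlock.faithful_of_nontrivial hne
  set a₀ : G ⧸ H := ((1 : G) : G ⧸ H) with ha₀
  have hPH : (P : Subgroup G) ≤ H := le_normalizer.trans hNH
  have hHs : stabilizer G a₀ = H := by
    ext g
    rw [mem_stabilizer_iff, ha₀, MulAction.Quotient.smul_coe, smul_eq_mul, mul_one, QuotientGroup.eq, mul_one,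
      inv_mem_iff]
  refine cent_dvd_factorial_aux a₀ hP hC hpc (hHs.symm ▸ hPH)
    (hHs.symm ▸ (centralizer_le_normalizer _).trans hNH) (fun q hq => ?_)
    (by rw [← Subgroup.index_eq_card, hidx])
  obtain ⟨g, rfl⟩ := QuotientGroup.mk_surjective q
  have hle : ((g⁻¹ • P : Sylow p G) : Subgroup G) ≤ H := by
    intro w hw
    rw [Sylow.coe_subgroup_smul] at hw
    obtain ⟨x, hx, rfl⟩ := hw
    have h1 : x • ((g : G) : G ⧸ H) = ((g : G) : G ⧸ H) := hq x hx
    rw [MulAction.Quotient.smul_coe, smul_eq_mul, eq_comm, QuotientGroup.eq] at h1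
    simpa [MulAut.conj_apply, mul_assoc] using h1
  obtain ⟨h, hh⟩ := MulAction.exists_smul_eq H ((g⁻¹ • P : Sylow p G).subtype hle) (P.subtype hPH)
  have hle' : (((h : G) • (g⁻¹ • P) : Sylow p G) : Subgroup G) ≤ H := by
    intro w hw
    rw [Sylow.coe_subgroup_smul] at hw
    obtain ⟨x, hx, rfl⟩ := hw
    exact H.mul_mem (H.mul_mem h.2 (hle hx)) (H.inv_mem h.2)
  have h2 : (h : G) • (g⁻¹ • P) = P := by
    refine Sylow.subtype_injective (hP := hle') (hQ := hPH) ?_
    rw [← hh, Sylow.smul_subtype]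
    rfl
  rw [← mul_smul, Sylow.smul_eq_iff_mem_normalizer] at h2
  have h3 := hNH h2
  rw [ha₀, QuotientGroup.eq, mul_one]
  exact (H.mul_mem_cancel_left h.2).1 h3

end CfsgLib.Char.MTwentyTwoOrder
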