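import Cfsg.Agent.Lib.Char.MTwentyTwoOrder.Setup
import Cfsg.Agent.Lib.Char.MTwentyTwoOrder.Counting

/-!
# The regular part of the centralizer of a Sylow subgroup of prime order
-/

set_option autoImplicit false
set_option linter.all false

open Cfsg Subgroup CfsgLib.Perm.PrimeBlock CfsgLib.Char.MEleven.Order CfsgLib.Char.MTwelveOrder

namespace CfsgLib.Char.MTwentyTwoOrder

universe u

variable {G : Type u} [Group G] [Fintype G] [IsSimpleGroup G] {p e c : ℕ} [hp : Fact p.Prime]
  (D : PData G p e c)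

/-- The regular elements of the centralizer form a subgroup of order `c` normalized by the Sylow normalizer. -/
theorem PData.exists_K : ∃ K : Subgroup G,
    (∀ y, y ∈ K ↔ y ∈ centralizer ((D.P : Subgroup G) : Set G) ∧ ¬ p ∣ orderOf y) ∧ Nat.card K = c ∧
      normalizer ((D.P : Subgroup G) : Set G) ≤ normalizer (K : Set G) := by
  classical
  obtain ⟨K, hK⟩ := CfsgLib.Block.Cyclic.exists_regular_subgroup (Q := (D.P : Subgroup G)) D.card_P
    (CfsgLib.Block.Cyclic.not_sq_dvd_of_sylow D.card_P)
  haveI : Fintype K := Fintype.ofFinite _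
  refine ⟨K, hK, ?_, fun g hg => ?_⟩
  · rw [← card_regCent D.P D.card_P D.cent_P, ← Fintype.card_coe, ← Nat.card_eq_fintype_card]
    exact Nat.card_congr (Equiv.subtypeEquivRight fun y => by rw [mem_regCent, hK])
  · rw [mem_normalizer_iff]
    intro w
    refine ⟨fun hw => CfsgLib.Block.Cyclic.conj_mem_K D.card_P hK hg ⟨w, hw⟩, fun hw => ?_⟩
    have h1 := CfsgLib.Block.Cyclic.conj_mem_K D.card_P hK (inv_mem hg) ⟨_, hw⟩
    rwa [show g⁻¹ * (g * w * g⁻¹) * g⁻¹⁻¹ = w by group] at h1

omit [IsSimpleGroup G] in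
/-- A subgroup unique of its order in a subgroup is normalized by what normalizes the latter. -/
theorem le_normalizer_of_unique {K R : Subgroup G} (hR : R ≤ K)
    (huniq : ∀ R' : Subgroup G, R' ≤ K → Nat.card R' = Nat.card R → R' = R) :
    normalizer (K : Set G) ≤ normalizer (R : Set G) := by
  intro g hg
  rw [mem_normalizer_iff_map_conj_eq]
  refine huniq _ ?_ (card_map_of_injective (MulAut.conj g).injective)
  rintro w ⟨x, hx, rfl⟩
  exact (mem_normalizer_iff.1 hg x).1 (hR hx)

/-- The normalizer of a non-trivial proper subgroup is proper. -/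
theorem normalizer_ne_top {X : Subgroup G} (h1 : X ≠ ⊥) (h2 : Nat.card X < Nat.card G) :
    normalizer (X : Set G) ≠ ⊤ := fun he => by
  rcases IsSimpleGroup.eq_bot_or_eq_top_of_normal _ (normalizer_eq_top_iff.1 he) with hb | ht
  · exact h1 hb
  · rw [ht, card_top] at h2
    exact lt_irrefl _ h2

include D in
/-- The order of a subgroup containing the Sylow normalizer. -/
theorem PData.above {M : Subgroup G} (hM : M ≠ ⊤) (hNM : normalizer ((D.P : Subgroup G) : Set G) ≤ M)
    (hpc : ¬ p ∣ c) : ∃ j, j % p = 1 ∧ Nat.card M = j * (e * (p * c)) ∧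
      (∀ k, M.index = p * k + 1 → c ∣ k.factorial) := by
  obtain ⟨j, hj, hcard⟩ := sylow_split D.P (le_normalizer.trans hNM)
  rw [inf_eq_right.2 hNM, D.norm_P] at hcard
  exact ⟨j, hj, hcard, fun k hk => cent_dvd_factorial D.P D.card_P D.cent_P hpc hM hNM hk⟩

end CfsgLib.Char.MTwentyTwoOrder
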