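import Cfsg.Agent.Lib.Char.MTwentyTwoOrder.SevenBound
import Cfsg.Agent.Lib.Perm.Small.Card168
import Cfsg.Agent.S1004

/-!
# Simple groups of order 443520: the Sylow 7-subgroup is self-centralizing
-/

set_option autoImplicit false
set_option linter.all false

open Cfsg Subgroup CfsgLib.Perm.PrimeBlock CfsgLib.Block CfsgLib.Char.MEleven.Order CfsgLib.Char.MTwelveOrder

namespace CfsgLib.Char.MTwentyTwoOrder

universe u

local instance fact_seven_main : Fact (Nat.Prime 7) := ⟨by norm_num⟩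
local instance fact_two_main : Fact (Nat.Prime 2) := ⟨Nat.prime_two⟩
local instance fact_eleven_main : Fact (Nat.Prime 11) := ⟨by norm_num⟩

set_option maxRecDepth 100000 in
theorem j56_table : ∀ j < 721, (720 % j = 0 ∧ j % 7 = 1 ∧ j % 2 = 0) → (j = 8 ∨ j = 36 ∨ j = 120) := by
  decide +kernel

variable {G : Type u} [Group G] [Fintype G]

/-- A 2-subgroup of a subgroup lies in one of the full 2-power order. -/
theorem exists_two_above {H A : Subgroup G} (hAH : A ≤ H) {a r : ℕ} (hH : Nat.card H = 2 ^ a * r) (hr : ¬ 2 ∣ r)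
    {b : ℕ} (hA : Nat.card A ∣ 2 ^ b) : ∃ U : Subgroup G, A ≤ U ∧ U ≤ H ∧ Nat.card U = 2 ^ a := by
  obtain ⟨k, -, hk⟩ := (Nat.dvd_prime_pow Nat.prime_two).1 hA
  have hp : IsPGroup 2 (A.subgroupOf H) := IsPGroup.of_card (n := k) (by
    rw [Nat.card_congr (subgroupOfEquivOfLe hAH).toEquiv, hk])
  obtain ⟨S, hS⟩ := hp.exists_le_sylow
  refine ⟨(S : Subgroup H).map H.subtype, fun x hx => ⟨⟨x, hAH hx⟩, hS hx, rfl⟩, map_subtype_le _, ?_⟩
  have hr0 : r ≠ 0 := fun h0 => hr (h0 ▸ dvd_zero 2)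
  rw [card_map_of_injective H.subtype_injective, S.card_eq_multiplicity, hH,
    Nat.factorization_mul (pow_ne_zero a (by norm_num)) hr0, Nat.Prime.factorization_pow Nat.prime_two]
  simp [Nat.factorization_eq_zero_of_not_dvd hr]

/-- The divisibility used for the subgroup bound. -/
theorem q_dvd {P M Y : Subgroup G} (hP : Nat.card P = 7) {a : ℕ} (hM : Nat.card M = 2 ^ a) (h1 : P ≤ Y)
    (h2 : M ≤ Y) : 2 ^ a * 7 ∣ Nat.card Y :=
  Nat.Coprime.mul_dvd_of_dvd_of_dvd (Nat.Coprime.pow_left a (by norm_num)) (hM ▸ card_dvd_of_le h2)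
    (hP ▸ card_dvd_of_le h1)

variable [IsSimpleGroup G] {e c : ℕ} (D : PData G 7 e c) {K : Subgroup G}

theorem le_cent_K (hK : ∀ y, y ∈ K ↔ y ∈ centralizer ((D.P : Subgroup G) : Set G) ∧ ¬ 7 ∣ orderOf y) :
    K ≤ centralizer ((D.P : Subgroup G) : Set G) := fun y hy => ((hK y).1 hy).1

theorem le_norm_of_cent {L : Subgroup G} (hL : L ≤ centralizer ((D.P : Subgroup G) : Set G)) :
    (D.P : Subgroup G) ≤ normalizer (L : Set G) := fun x hx => centralizer_le_normalizer _ (mem_centralizer_iff.2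
  fun y hy => (mem_centralizer_iff.1 (hL hy) x hx).symm)

include D in
/-- The structure of the Sylow 7-subgroup data with `c = 64`. -/
theorem seven_not_64 (h : Nat.card G = 443520) (D11 : PData G 11 5 1) (he : e = 3) (hc : c = 64) : False := by
  obtain ⟨K, hK, hKc, hNK⟩ := D.exists_K
  have hKc' : Nat.card K = 2 ^ 6 := by rw [hKc, hc]; norm_num
  have hK1 : K ≠ ⊥ := fun hb => by rw [hb, card_bot] at hKc'; norm_num at hKc'
  obtain ⟨W, hKW, -, hW⟩ := exists_two_above (H := (⊤ : Subgroup G)) (A := K) le_top (a := 7) (r := 3465)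
    (by rw [card_top, h]; norm_num) (by norm_num) (b := 6) (dvd_of_eq hKc')
  have hWN : W ≤ normalizer (K : Set G) := by
    haveI : (K.subgroupOf W).Normal := normal_of_index_eq_two (by
      have h1 := card_mul_index (K.subgroupOf W)
      rw [Nat.card_congr (subgroupOfEquivOfLe hKW).toEquiv, hKc', hW] at h1
      omega)
    exact (normal_subgroupOf_iff_le_normalizer hKW).1 inferInstance
  have hN : e * (7 * c) = 1344 := by rw [he, hc]
  refine no_big h D11 D (Or.inl ⟨hN, rfl⟩) hK1 (by rw [hKc']; norm_num) (le_normalizer.trans hNK)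
    (by rw [hW]; norm_num) hWN ?_
  rw [inf_eq_right.2 hNK, D.norm_P, hN]
  norm_num

include D in
/-- The structure of the Sylow 7-subgroup data with `c = 32`. -/
theorem seven_not_32 (h : Nat.card G = 443520) (D11 : PData G 11 5 1) (he : e = 6) (hc : c = 32) : False := by
  obtain ⟨K, hK, hKc, hNK⟩ := D.exists_K
  have hKc' : Nat.card K = 2 ^ 5 := by rw [hKc, hc]; norm_num
  have hN : e * (7 * c) = 1344 := by rw [he, hc]
  have hKN : K ≤ normalizer ((D.P : Subgroup G) : Set G) :=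
    (le_cent_K D hK).trans (centralizer_le_normalizer _)
  obtain ⟨U, hKU, hUN, hU⟩ := exists_two_above hKN (a := 6) (r := 21)
    (by rw [D.norm_P, hN]; norm_num) (by norm_num) (b := 5) (dvd_of_eq hKc')
  obtain ⟨W, hUW, -, hW⟩ := exists_two_above (H := (⊤ : Subgroup G)) (A := U) le_top (a := 7) (r := 3465)
    (by rw [card_top, h]; norm_num) (by norm_num) (b := 6) (dvd_of_eq hU)
  obtain ⟨s, hs, hsU⟩ : ∃ s ∈ W, s ∉ U := by
    by_contra hno
    push Not at hno
    have := card_le_of_le (show W ≤ U from hno)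
    rw [hU, hW] at this
    norm_num at this
  obtain ⟨hWL, hconj, -, -⟩ := inter_conj hUW (by rw [hW, hU]; norm_num) (hUN.trans hNK) hs hsU
  set X := K.map (MulAut.conj s).toMonoidHom with hX
  set L := K ⊓ X with hL
  have hXU : X ≤ U := by
    rintro w ⟨y, hy, rfl⟩
    exact (hconj y (hKU hy)).1
  have hL16 : 16 ≤ Nat.card L := by
    have h1 := Subgroup.relIndex_le_of_le_right (H := K) hXU (by
      exact index_ne_zero_of_finite)
    have h2 : K.relIndex U = 2 := by
      have h3 := card_mul_index (K.subgroupOf U)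
      rw [Nat.card_congr (subgroupOfEquivOfLe hKU).toEquiv, hKc', hU] at h3
      rw [relIndex]; omega
    have h4 := card_mul_index (K.subgroupOf X)
    rw [← inf_subgroupOf_right, Nat.card_congr (subgroupOfEquivOfLe (inf_le_right : K ⊓ X ≤ X)).toEquiv,
      inf_subgroupOf_right, hX, card_map_of_injective (MulEquiv.injective _), hKc', ← hX, ← relIndex] at h4
    rw [h2] at h1
    rw [← hL] at h4
    have := Nat.mul_le_mul_left (Nat.card L) h1
    omega
  refine no_big h D11 D (Or.inl ⟨hN, rfl⟩) (X := L) (fun hb => by rw [hb, card_bot] at hL16; omega)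
    ((card_dvd_of_le (inf_le_left : L ≤ K)).trans (by rw [hKc']; norm_num))
    (le_norm_of_cent D ((inf_le_left : L ≤ K).trans (le_cent_K D hK))) (by rw [hW]; norm_num) hWL ?_
  exact q_dvd D.card_P (a := 6) hU
    (le_inf (le_norm_of_cent D ((inf_le_left : L ≤ K).trans (le_cent_K D hK))) le_normalizer)
    (le_inf (hUW.trans hWL) hUN)

/-- The subgroups attached to a normalizer of `K` of order 1344. -/
theorem big_setup (h : Nat.card G = 443520) (D11 : PData G 11 5 1) (hN : e * (7 * c) = 168) (hc : c = 8 ∨ c = 4)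
    (hK : ∀ y, y ∈ K ↔ y ∈ centralizer ((D.P : Subgroup G) : Set G) ∧ ¬ 7 ∣ orderOf y) (hKc : Nat.card K = c)
    (hNK : normalizer ((D.P : Subgroup G) : Set G) ≤ normalizer (K : Set G))
    (hH : Nat.card (normalizer (K : Set G)) = 1344) :
    ∃ (U : Subgroup G) (s : G), Nat.card U = 64 ∧ U ≤ normalizer (K : Set G) ∧ K ≤ U ∧
      (∀ u ∈ U, s * u * s⁻¹ ∈ U ∧ s⁻¹ * u * s ∈ U) ∧ s * s ∈ U ∧ K.map (MulAut.conj s).toMonoidHom ≤ U ∧
      (∀ w ∈ K.map (MulAut.conj s).toMonoidHom, w ∈ K → w = 1) ∧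
      ∀ w ∈ K.map (MulAut.conj s).toMonoidHom, ∀ k ∈ K, k * w = w * k := by
  have hKN : K ≤ normalizer ((D.P : Subgroup G) : Set G) :=
    (le_cent_K D hK).trans (centralizer_le_normalizer _)
  have hKd : Nat.card K ∣ 2 ^ 3 := by rw [hKc]; rcases hc with rfl | rfl <;> norm_num
  obtain ⟨M0, hKM0, hM0N, hM0⟩ := exists_two_above hKN (a := 3) (r := 21)
    (by rw [D.norm_P, hN]; norm_num) (by norm_num) hKd
  obtain ⟨U, hM0U, hUH, hU⟩ := exists_two_above (hM0N.trans hNK) (a := 6) (r := 21)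
    (by rw [hH]; norm_num) (by norm_num) (b := 3) (dvd_of_eq hM0)
  obtain ⟨W, hUW, -, hW⟩ := exists_two_above (H := (⊤ : Subgroup G)) (A := U) le_top (a := 7) (r := 3465)
    (by rw [card_top, h]; norm_num) (by norm_num) (b := 6) (dvd_of_eq hU)
  obtain ⟨s, hs, hsU⟩ : ∃ s ∈ W, s ∉ U := by
    by_contra hno
    push Not at hno
    have := card_le_of_le (show W ≤ U from hno)
    rw [hU, hW] at this
    norm_num at this
  obtain ⟨hWL, hconj, hUX, hss⟩ := inter_conj hUW (by rw [hW, hU]; norm_num) hUH hs hsU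
  have hKU : K ≤ U := hKM0.trans hM0U
  set X := K.map (MulAut.conj s).toMonoidHom with hX
  have hXU : X ≤ U := by
    rintro w ⟨y, hy, rfl⟩
    exact (hconj y (hKU hy)).1
  have hbot : ∀ w ∈ X, w ∈ K → w = 1 := by
    intro w hw hwK
    by_contra hne
    have hPL := le_norm_of_cent D ((inf_le_left : K ⊓ X ≤ K).trans (le_cent_K D hK))
    refine no_big h D11 D (Or.inr ⟨hN, rfl⟩) (X := K ⊓ X)
      (fun hb => hne (mem_bot.1 (hb ▸ (⟨hwK, hw⟩ : w ∈ K ⊓ X))))
      ((card_dvd_of_le (inf_le_left : K ⊓ X ≤ K)).trans (hKd.trans (by norm_num))) hPL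
      (by rw [hW]; norm_num) hWL ?_
    exact q_dvd D.card_P (a := 3) hM0 (le_inf hPL le_normalizer) (le_inf ((hM0U.trans hUW).trans hWL) hM0N)
  refine ⟨U, s, by rw [hU]; norm_num, hUH, hKU, hconj, hss, hXU, hbot, fun w hw k hk => ?_⟩
  have h1 : k * w * k⁻¹ * w⁻¹ ∈ K := by
    have h2 := (mem_normalizer_iff.1 (hUH (hXU hw)) k⁻¹).1 (K.inv_mem hk)
    have h3 := K.mul_mem hk h2
    simpa [mul_assoc] using h3
  have h2 : k * w * k⁻¹ * w⁻¹ ∈ X := X.mul_mem ((mem_normalizer_iff.1 (hUX (hKU hk)) w).1 hw) (X.inv_mem hw)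
  exact mul_inv_eq_iff_eq_mul.1 (mul_inv_eq_one.1 (hbot _ h2 h1))

/-- The quotient of the normalizer of `K` when it has order 1344. -/
theorem quot_data (hN : e * (7 * c) = 168) (hc : c = 8 ∨ c = 4)
    (hK : ∀ y, y ∈ K ↔ y ∈ centralizer ((D.P : Subgroup G) : Set G) ∧ ¬ 7 ∣ orderOf y) (hKc : Nat.card K = c)
    (hNK : normalizer ((D.P : Subgroup G) : Set G) ≤ normalizer (K : Set G))
    (hH : Nat.card (normalizer (K : Set G)) = 1344) :
    Nat.card (↥(normalizer (K : Set G)) ⧸ K.subgroupOf (normalizer (K : Set G))) * c = 1344 ∧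
      ∃ Pb : Sylow 7 (↥(normalizer (K : Set G)) ⧸ K.subgroupOf (normalizer (K : Set G))),
        (∀ (x : G) (hx : x ∈ (D.P : Subgroup G)), QuotientGroup.mk' (K.subgroupOf (normalizer (K : Set G)))
          ⟨x, hNK (le_normalizer hx)⟩ ∈ (Pb : Subgroup (↥(normalizer (K : Set G)) ⧸ K.subgroupOf (normalizer (K : Set G))))) ∧
        Nat.card (Pb : Subgroup (↥(normalizer (K : Set G)) ⧸ K.subgroupOf (normalizer (K : Set G)))) = 7 ∧ centralizer ((Pb : Subgroup (↥(normalizer (K : Set G)) ⧸ K.subgroupOf (normalizer (K : Set G)))) : Set (↥(normalizer (K : Set G)) ⧸ K.subgroupOf (normalizer (K : Set G)))) ≤ Pb ∧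
        Nat.card (normalizer ((Pb : Subgroup (↥(normalizer (K : Set G)) ⧸ K.subgroupOf (normalizer (K : Set G)))) : Set (↥(normalizer (K : Set G)) ⧸ K.subgroupOf (normalizer (K : Set G))))) * c = 168 := by
  classical
  set H := normalizer (K : Set G) with hHdef
  set K' := K.subgroupOf H with hK'
  set π := QuotientGroup.mk' K' with hπ
  have hsurj : Function.Surjective π := QuotientGroup.mk'_surjective K'
  have hker : π.ker = K' := QuotientGroup.ker_mk' K'
  have hKH : K ≤ H := le_normalizer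
  have hQ : Nat.card (↥H ⧸ K') * c = 1344 := by
    rw [← hH, Subgroup.card_eq_card_quotient_mul_card_subgroup K',
      Nat.card_congr (subgroupOfEquivOfLe hKH).toEquiv, hKc]
  have hc0 : 0 < c := by rcases hc with rfl | rfl <;> norm_num
  have hPK : ∀ x ∈ (D.P : Subgroup G), x ∈ K → x = 1 := by
    intro x hx hxK
    have h1 := Subgroup.orderOf_dvd_natCard _ hx
    rw [D.card_P] at h1
    rcases (Nat.dvd_prime (by norm_num)).1 h1 with h2 | h2
    · exact orderOf_eq_one_iff.1 h2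
    · exact absurd h2.symm.dvd ((hK x).1 hxK).2
  have hPH : (D.P : Subgroup G) ≤ H := le_normalizer.trans hNK
  set P0 := ((D.P : Subgroup G).subgroupOf H).map π with hP0
  have hP0c : Nat.card P0 = 7 := by
    rw [← D.card_P, ← Nat.card_congr (subgroupOfEquivOfLe hPH).toEquiv]
    symm
    refine Nat.card_congr (Equiv.ofBijective (fun x => (⟨π x.1, mem_map_of_mem π x.2⟩ : P0)) ⟨?_, ?_⟩)
    · intro a b hab
      have h1 : π a.1 = π b.1 := congrArg Subtype.val hab
      have h2 : a.1⁻¹ * b.1 ∈ K' := by rw [← hker, MonoidHom.mem_ker, map_mul, map_inv, h1, inv_mul_cancel]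
      exact Subtype.ext (Subtype.ext (eq_of_inv_mul_eq_one
        (hPK _ ((D.P : Subgroup G).mul_mem ((D.P : Subgroup G).inv_mem a.2) b.2) h2)))
    · rintro ⟨w, x, hx, rfl⟩
      exact ⟨⟨x, hx⟩, rfl⟩
  obtain ⟨Pb, hPb⟩ := (IsPGroup.of_card (n := 1) (by rw [hP0c, pow_one]) : IsPGroup 7 P0).exists_le_sylow
  have hPbc : Nat.card (Pb : Subgroup (↥H ⧸ K')) = 7 := by
    have h1 : ¬ 7 ∣ Nat.card (↥H ⧸ K') / 7 := by
      have : Nat.card (↥H ⧸ K') = 1344 / c := (Nat.div_eq_of_eq_mul_left hc0 hQ.symm).symm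
      rw [this]; rcases hc with rfl | rfl <;> norm_num
    rw [Pb.card_eq_multiplicity]
    have : Nat.card (↥H ⧸ K') = 1344 / c := (Nat.div_eq_of_eq_mul_left hc0 hQ.symm).symm
    rw [this]
    rcases hc with rfl | rfl
    · rw [show 1344 / 8 = 7 ^ 1 * 24 by norm_num, Nat.factorization_mul (by norm_num) (by norm_num),
        Nat.Prime.factorization_pow (by norm_num)]
      simp [Nat.factorization_eq_zero_of_not_dvd (show ¬ 7 ∣ 24 by norm_num)]
    · rw [show 1344 / 4 = 7 ^ 1 * 48 by norm_num, Nat.factorization_mul (by norm_num) (by norm_num),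
        Nat.Prime.factorization_pow (by norm_num)]
      simp [Nat.factorization_eq_zero_of_not_dvd (show ¬ 7 ∣ 48 by norm_num)]
  have hPeq : (Pb : Subgroup (↥H ⧸ K')) = ((D.P : Subgroup G).subgroupOf H).map π :=
    (eq_of_le_of_card_ge hPb (by rw [hP0c, hPbc])).symm
  have hmemP : ∀ (a : G) (ha : a ∈ (D.P : Subgroup G)), π ⟨a, hPH ha⟩ ∈ (Pb : Subgroup (↥H ⧸ K')) := fun a ha => by
    rw [hPeq]
    exact mem_map_of_mem π (show (⟨a, hPH ha⟩ : H) ∈ (D.P : Subgroup G).subgroupOf H from ha)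
  refine ⟨hQ, Pb, fun x hx => ?_, hPbc, ?_, ?_⟩
  · exact hmemP x hx
  all_goals
    have hnorm : (normalizer ((Pb : Subgroup (↥H ⧸ K')) : Set (↥H ⧸ K'))).comap π =
        (normalizer ((D.P : Subgroup G) : Set G)).subgroupOf H := by
      ext h
      rw [mem_comap, mem_subgroupOf]
      have hfwd : ∀ g : H, π g ∈ normalizer ((Pb : Subgroup (↥H ⧸ K')) : Set (↥H ⧸ K')) →
          ∀ a : G, a ∈ (D.P : Subgroup G) → (g : G) * a * (g : G)⁻¹ ∈ (D.P : Subgroup G) := by
        intro g hg a ha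
        have h1 := (mem_normalizer_iff.1 hg (π ⟨a, hPH ha⟩)).1 (hmemP a ha)
        rw [hPeq] at h1
        obtain ⟨b, hb, hbe⟩ := h1
        rw [← map_inv, ← map_mul, ← map_mul] at hbe
        have h2 : b⁻¹ * (g * ⟨a, hPH ha⟩ * g⁻¹) ∈ K' := by
          rw [← hker, MonoidHom.mem_ker, map_mul, map_inv, hbe, inv_mul_cancel]
        set k : G := (b : G)⁻¹ * ((g : G) * a * (g : G)⁻¹) with hk
        have hkK : k ∈ K := h2
        have hbk : Commute (b : G) k := mem_centralizer_iff.1 (le_cent_K D hK hkK) b hb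
        have h7 : ∀ y ∈ (D.P : Subgroup G), y ^ 7 = 1 := fun y hy => orderOf_dvd_iff_pow_eq_one.1
          (D.card_P ▸ Subgroup.orderOf_dvd_natCard _ hy)
        have hk7 : k ^ 7 = 1 := by
          have he : (g : G) * a * (g : G)⁻¹ = (b : G) * k := by rw [hk]; group
          have h3 := congrArg (fun w : G => w ^ 7) he
          have hb7 : (b : G) ^ 7 = 1 := h7 _ hb
          simp only [conj_pow, h7 a ha, mul_one, mul_inv_cancel, hbk.mul_pow, hb7, one_mul] at h3
          exact h3.symm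
        have hk1 : k = 1 := by
          rcases (Nat.dvd_prime (by norm_num)).1 (orderOf_dvd_of_pow_eq_one hk7) with h4 | h4
          · exact orderOf_eq_one_iff.1 h4
          · exact absurd h4.symm.dvd ((hK k).1 hkK).2
        rw [hk, inv_mul_eq_one] at hk1
        rw [← hk1]
        exact hb
      constructor
      · intro hh
        rw [mem_normalizer_iff]
        intro a
        refine ⟨hfwd h hh a, fun ha => ?_⟩
        have h5 := hfwd h⁻¹ (by rw [map_inv]; exact inv_mem hh) _ ha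
        simpa [mul_assoc] using h5
      · intro hh
        rw [mem_normalizer_iff]
        intro w
        have hfwd' : ∀ g : H, (g : G) ∈ normalizer ((D.P : Subgroup G) : Set G) → ∀ w,
            w ∈ (Pb : Subgroup (↥H ⧸ K')) → π g * w * (π g)⁻¹ ∈ (Pb : Subgroup (↥H ⧸ K')) := by
          intro g hg w hw
          rw [hPeq] at hw ⊢
          obtain ⟨b, hb, rfl⟩ := hw
          rw [← map_inv, ← map_mul, ← map_mul]
          exact mem_map_of_mem π (show g * b * g⁻¹ ∈ (D.P : Subgroup G).subgroupOf H from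
            (mem_normalizer_iff.1 hg (b : G)).1 hb)
        refine ⟨hfwd' h hh w, fun hw => ?_⟩
        have h5 := hfwd' h⁻¹ (inv_mem hh) _ hw
        simpa [map_inv, mul_assoc] using h5
  · intro w hw
    obtain ⟨h, rfl⟩ := hsurj w
    have hhN : (h : G) ∈ normalizer ((D.P : Subgroup G) : Set G) := by
      have : h ∈ (normalizer ((Pb : Subgroup (↥H ⧸ K')) : Set (↥H ⧸ K'))).comap π :=
        centralizer_le_normalizer _ hw
      rw [hnorm] at this
      exact this
    have hhC : (h : G) ∈ centralizer ((D.P : Subgroup G) : Set G) := by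
      refine mem_centralizer_iff.2 fun a ha => ?_
      have h1 := mem_centralizer_iff.1 hw (π ⟨a, hPH ha⟩) (hmemP a ha)
      have h2 : (⟨a, hPH ha⟩ : H)⁻¹ * (h * ⟨a, hPH ha⟩ * h⁻¹) ∈ K' := by
        rw [← hker, MonoidHom.mem_ker, map_mul, map_mul, map_mul, map_inv, map_inv, ← h1]
        group
      have h3 := hPK _ ((D.P : Subgroup G).mul_mem ((D.P : Subgroup G).inv_mem ha)
        ((mem_normalizer_iff.1 hhN a).1 ha)) h2
      rw [inv_mul_eq_one, eq_mul_inv_iff_mul_eq] at h3
      exact h3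
    set C' := (centralizer ((D.P : Subgroup G) : Set G)).subgroupOf H with hC'
    have hCH : centralizer ((D.P : Subgroup G) : Set G) ≤ H := (centralizer_le_normalizer _).trans hNK
    have hle : π.ker ≤ C' := by
      rw [hker]
      exact fun y hy => le_cent_K D hK hy
    have hidx := index_map_eq C' hsurj hle
    have hC'c : Nat.card C' = 7 * c := by
      rw [hC', Nat.card_congr (subgroupOfEquivOfLe hCH).toEquiv, D.cent_P]
    have h1 := card_mul_index C'
    have h2 := card_mul_index (C'.map π)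
    rw [hidx] at h2
    rw [hC'c, hH] at h1
    have hmap : C'.map π = (Pb : Subgroup (↥H ⧸ K')) := by
      symm
      refine eq_of_le_of_card_ge (hPeq.le.trans (map_mono fun y hy => ?_)) ?_
      · refine mem_centralizer_iff.2 fun a ha => ?_
        haveI : IsCyclic (D.P : Subgroup G) := isCyclic_of_prime_card D.card_P
        letI : CommGroup (D.P : Subgroup G) := IsCyclic.commGroup
        exact congrArg Subtype.val (mul_comm (⟨a, ha⟩ : (D.P : Subgroup G)) ⟨(y : G), hy⟩)
      · rw [hPbc]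
        obtain ⟨i, hi⟩ : ∃ i, C'.index = i := ⟨_, rfl⟩
        rw [hi] at h1 h2
        rw [← h2] at hQ
        rcases hc with rfl | rfl <;> · have : i = 24 ∨ i = 48 := by omega
                                       rcases this with rfl | rfl <;> omega
    rw [← hmap]
    exact mem_map_of_mem π (show h ∈ C' from hhC)
  · have hi1 := index_comap_of_surjective (normalizer ((Pb : Subgroup (↥H ⧸ K')) : Set (↥H ⧸ K'))) hsurj
    rw [hnorm] at hi1
    have h1 := card_mul_index ((normalizer ((D.P : Subgroup G) : Set G)).subgroupOf H)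
    rw [Nat.card_congr (subgroupOfEquivOfLe hNK).toEquiv, D.norm_P, hN, hH, hi1] at h1
    have h2 := card_mul_index (normalizer ((Pb : Subgroup (↥H ⧸ K')) : Set (↥H ⧸ K')))
    rw [show (normalizer ((Pb : Subgroup (↥H ⧸ K')) : Set (↥H ⧸ K'))).index = 8 by omega] at h2
    rw [← h2] at hQ
    linarith

/-- The parameters `c = 8` with a normalizer of `K` of order 1344 are impossible. -/
theorem seven_not_8 (h : Nat.card G = 443520) (D11 : PData G 11 5 1) (hN : e * (7 * c) = 168) (hc : c = 8)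
    (hK : ∀ y, y ∈ K ↔ y ∈ centralizer ((D.P : Subgroup G) : Set G) ∧ ¬ 7 ∣ orderOf y) (hKc : Nat.card K = c)
    (hNK : normalizer ((D.P : Subgroup G) : Set G) ≤ normalizer (K : Set G))
    (hH : Nat.card (normalizer (K : Set G)) = 1344) : False := by
  classical
  obtain ⟨U, s, hU, hUH, hKU, hconj, hss, hXU, hbot, hcomm⟩ :=
    big_setup D h D11 hN (Or.inl hc) hK hKc hNK hH
  obtain ⟨hQ, Pb, hPmem, hPbc, hPbC, hPbN⟩ := quot_data D hN (Or.inl hc) hK hKc hNK hH
  set H := normalizer (K : Set G) with hHdef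
  set K' := K.subgroupOf H with hK'
  set π := QuotientGroup.mk' K' with hπ
  have hsurj : Function.Surjective π := QuotientGroup.mk'_surjective K'
  have hker : π.ker = K' := QuotientGroup.ker_mk' K'
  have hKN : K ≤ normalizer ((D.P : Subgroup G) : Set G) := (le_cent_K D hK).trans (centralizer_le_normalizer _)
  subst hc
  have hN21 := Nat.eq_of_mul_eq_mul_right (by norm_num : 0 < 8) (hPbN.trans (by norm_num : (168 : ℕ) = 21 * 8))
  have hQ168 : Nat.card (↥H ⧸ K') = 168 := by omega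
  haveI hsimple : IsSimpleGroup (↥H ⧸ K') := by
    refine simple_168 hQ168 Pb hPbc hPbC hN21 fun E hE hE8 => ?_
    haveI := hE
    set V := (E.comap π).map H.subtype with hV
    have hVc : Nat.card V = 64 := by
      rw [hV, card_map_of_injective H.subtype_injective]
      have h1 := card_mul_index (E.comap π)
      have h2 := card_mul_index E
      rw [index_comap_of_surjective E hsurj, hH] at h1
      rw [hE8, hQ168] at h2
      rw [show E.index = 21 by omega] at h1
      omega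
    have hHV : H ≤ normalizer (V : Set G) := by
      intro g hg
      rw [mem_normalizer_iff]
      have hfwd : ∀ g' : H, ∀ w ∈ V, (g' : G) * w * (g' : G)⁻¹ ∈ V := by
        rintro g' w ⟨v, hv, rfl⟩
        exact ⟨g' * v * g'⁻¹, (hE.comap π).conj_mem v hv g', rfl⟩
      intro w
      refine ⟨hfwd ⟨g, hg⟩ w, fun hw => ?_⟩
      simpa [mul_assoc] using hfwd ⟨g, hg⟩⁻¹ _ hw
    obtain ⟨W', hVW, -, hW'⟩ := exists_two_above (H := (⊤ : Subgroup G)) (A := V) le_top (a := 7) (r := 3465)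
      (by rw [card_top, h]; norm_num) (by norm_num) (b := 6) (by rw [hVc]; norm_num)
    have hW'N : W' ≤ normalizer (V : Set G) := by
      haveI : (V.subgroupOf W').Normal := normal_of_index_eq_two (by
        have h1 := card_mul_index (V.subgroupOf W')
        rw [Nat.card_congr (subgroupOfEquivOfLe hVW).toEquiv, hVc, hW'] at h1
        omega)
      exact (normal_subgroupOf_iff_le_normalizer hVW).1 inferInstance
    refine no_big h D11 D (Or.inr ⟨hN, rfl⟩) (X := V) (fun hb => by rw [hb, card_bot] at hVc; norm_num at hVc)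
      (by rw [hVc]; norm_num) ((le_normalizer.trans hNK).trans hHV) (by rw [hW']; norm_num) hW'N ?_
    rw [inf_eq_right.2 (hNK.trans hHV), D.norm_P, hN]
    norm_num
  -- every coset contains an element centralizing `K`
  set C := (centralizer (K : Set G)).subgroupOf H with hC
  haveI : C.Normal := ⟨fun n hn g => by
    refine mem_centralizer_iff.2 fun k hk => ?_
    have hk' : (g : G)⁻¹ * k * (g : G) ∈ K := by
      simpa using (mem_normalizer_iff.1 (H.inv_mem g.2) k).1 hk
    have h1 := mem_centralizer_iff.1 hn _ hk'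
    show k * ((g : G) * (n : G) * (g : G)⁻¹) = (g : G) * (n : G) * (g : G)⁻¹ * k
    calc k * ((g : G) * (n : G) * (g : G)⁻¹) = (g : G) * (((g : G)⁻¹ * k * g) * n) * (g : G)⁻¹ := by group
      _ = (g : G) * (n * ((g : G)⁻¹ * k * g)) * (g : G)⁻¹ := congrArg (fun w => (g : G) * w * (g : G)⁻¹) h1
      _ = _ := by group⟩
  have htop : C.map π = ⊤ := by
    rcases (Subgroup.Normal.map (inferInstance : C.Normal) π hsurj).eq_bot_or_eq_top with hb | ht
    · exfalso
      obtain ⟨x, hx, hxo⟩ := D.exists_elt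
      have h1 : π ⟨x, hNK (le_normalizer hx)⟩ ∈ C.map π := mem_map_of_mem π
        (mem_centralizer_iff.2 fun k hk => (mem_centralizer_iff.1 (le_cent_K D hK hk) x hx).symm)
      rw [hb, mem_bot, ← MonoidHom.mem_ker, hker] at h1
      have h2 := ((hK x).1 h1).2
      rw [hxo] at h2
      exact h2 dvd_rfl
    · exact ht
  set X := K.map (MulAut.conj s).toMonoidHom with hX
  -- the image of `X` is a Sylow 2-subgroup of the quotient, so `K` is dihedral
  let ι : X →* ↥H ⧸ K' := π.comp (inclusion (hXU.trans hUH))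
  have hι : Function.Injective ι := by
    rw [injective_iff_map_eq_one]
    intro w hw
    exact Subtype.ext (hbot w w.2 (by
      have : (inclusion (hXU.trans hUH) w) ∈ π.ker := hw
      rw [hker] at this
      exact this))
  have hXc : Nat.card X = 8 := by rw [hX, card_map_of_injective (MulEquiv.injective _), hKc]
  have hR : Nat.card ι.range = 8 := by rw [← Nat.card_congr (MonoidHom.ofInjective hι).toEquiv, hXc]
  obtain ⟨T, hT⟩ := (IsPGroup.of_card (n := 3) (by rw [hR]; norm_num) : IsPGroup 2 ι.range).exists_le_sylow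
  have hT8 : Nat.card (T : Subgroup (↥H ⧸ K')) = 8 := by
    rw [T.card_eq_multiplicity, hQ168, show (168 : ℕ) = 2 ^ 3 * 21 by norm_num,
      Nat.factorization_mul (by norm_num) (by norm_num), Nat.Prime.factorization_pow (by norm_num)]
    simp [Nat.factorization_eq_zero_of_not_dvd (show ¬ 2 ∣ 21 by norm_num)]
  have hTι : ι.range = (T : Subgroup (↥H ⧸ K')) := eq_of_le_of_card_ge hT (by rw [hR, hT8])
  obtain ⟨eD⟩ := (Cfsg.Agent.S1004.result hQ168 T).1
  let eX : X ≃* K := (equivMapOfInjective K _ (MulEquiv.injective _)).symm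
  obtain ⟨z, hz1, hz2, hzc, hzu, hcount⟩ := dihedral_facts
    (eX.symm.trans ((MonoidHom.ofInjective hι).trans ((MulEquiv.subgroupCongr hTι).trans eD)))
  -- the normalizer of `P` fixes `z`
  have hzfix : ∀ n ∈ normalizer ((D.P : Subgroup G) : Set G), n * (z : G) * n⁻¹ = (z : G) := by
    intro n hn
    have hz' : n * (z : G) * n⁻¹ ∈ K := (mem_normalizer_iff.1 (hNK hn) _).1 z.2
    rcases hzu ⟨_, hz'⟩ (fun k => Subtype.ext (by
      have hk' : n⁻¹ * (k : G) * n ∈ K := by
        simpa using (mem_normalizer_iff.1 (hNK (inv_mem hn)) (k : G)).1 k.2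
      have h1 : (z : G) * (n⁻¹ * k * n) = (n⁻¹ * k * n) * z := congrArg Subtype.val (hzc ⟨_, hk'⟩)
      show n * (z : G) * n⁻¹ * k = k * (n * (z : G) * n⁻¹)
      calc n * (z : G) * n⁻¹ * k = n * ((z : G) * (n⁻¹ * k * n)) * n⁻¹ := by group
        _ = n * ((n⁻¹ * k * n) * z) * n⁻¹ := by rw [h1]
        _ = _ := by group)) with h1 | h1
    · exact absurd (Subtype.ext (conj_eq_one_iff.1 (congrArg Subtype.val h1)) : z = 1) hz1
    · exact congrArg Subtype.val h1
  set zs : G := s * (z : G) * s⁻¹ with hzs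
  have hzsX : zs ∈ X := ⟨z, z.2, rfl⟩
  have key : ∀ y : K, y * y = 1 → y ≠ 1 → y ≠ z → IsConj (zs * (z : G)) (y : G) := by
    intro y hy2 hy1 hyz
    set x : G := s * (y : G) * s⁻¹ with hx
    have hxX : x ∈ X := ⟨y, y.2, rfl⟩
    have hord : ∀ (w : G) (hw : w ∈ X), w * w = 1 → w ≠ 1 → orderOf (ι ⟨w, hw⟩) = 2 := by
      intro w hw hw2 hw1
      rw [orderOf_injective ι hι, ← Subgroup.orderOf_coe]
      exact orderOf_eq_prime (by rw [pow_two, hw2]) hw1
    have hcj : ∀ v : K, v * v = 1 → (s * (v : G) * s⁻¹) * (s * (v : G) * s⁻¹) = 1 := fun v hv => by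
      have hv' : (v : G) * v = 1 := congrArg Subtype.val hv
      calc (s * (v : G) * s⁻¹) * (s * (v : G) * s⁻¹) = s * ((v : G) * v) * s⁻¹ := by group
        _ = 1 := by rw [hv', mul_one, mul_inv_cancel]
    have hne1 : ∀ v : K, v ≠ 1 → s * (v : G) * s⁻¹ ≠ 1 := fun v hv h1 => hv (Subtype.ext (conj_eq_one_iff.1 h1))
    obtain ⟨q, hq⟩ := isConj_iff.1 ((CfsgLib.Perm.Small.s168_counts hQ168).2.1 (ι ⟨zs, hzsX⟩) (ι ⟨x, hxX⟩)
      (hord _ _ (hcj z hz2) (hne1 z hz1)) (hord _ _ (hcj y hy2) (hne1 y hy1)))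
    obtain ⟨c', hc', hcq⟩ : q ∈ C.map π := by rw [htop]; exact mem_top _
    rw [← hcq] at hq
    have hmem : (c' * ⟨zs, hUH (hXU hzsX)⟩ * c'⁻¹)⁻¹ * ⟨x, hUH (hXU hxX)⟩ ∈ K' := by
      rw [← hker, MonoidHom.mem_ker, map_mul, map_inv, map_mul, map_mul, map_inv]
      rw [inv_mul_eq_one]
      exact hq
    set a : G := (c' : G) * zs * (c' : G)⁻¹ with ha
    have hkK : a⁻¹ * x ∈ K := hmem
    have hcK : ∀ k ∈ K, (c' : G) * k = k * c' := fun k hk => (mem_centralizer_iff.1 hc' k hk).symm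
    have haK : ∀ k ∈ K, a * k = k * a := fun k hk =>
      (((show Commute (c' : G) k from hcK k hk).mul_left (hcomm _ hzsX k hk).symm).mul_left
        (show Commute (c' : G) k from hcK k hk).inv_left).eq
    rcases hzu ⟨_, hkK⟩ (fun k => Subtype.ext
      ((((show Commute a (k : G) from haK k k.2).inv_left).mul_left (hcomm _ hxX k k.2).symm).eq)) with h1 | h1
    · exfalso
      have hxa : x = a := by
        have h2 : a⁻¹ * x = 1 := congrArg Subtype.val h1
        exact (inv_mul_eq_one.1 h2).symm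
      have hg : (s⁻¹ * (c' : G) * s) * (z : G) * (s⁻¹ * (c' : G) * s)⁻¹ = (y : G) := by
        calc (s⁻¹ * (c' : G) * s) * (z : G) * (s⁻¹ * (c' : G) * s)⁻¹ = s⁻¹ * a * s := by rw [ha, hzs]; group
          _ = (y : G) := by rw [← hxa, hx]; group
      obtain ⟨n, hn, hnz⟩ := fuse_cent D.P (le_cent_K D hK z.2) (le_cent_K D hK y.2) hg
      rw [hzfix n hn] at hnz
      exact hyz (Subtype.ext hnz.symm)
    · have h2 : a⁻¹ * x = (z : G) := congrArg Subtype.val h1
      refine isConj_iff.2 ⟨s⁻¹ * (c' : G), ?_⟩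
      calc s⁻¹ * (c' : G) * (zs * (z : G)) * (s⁻¹ * (c' : G))⁻¹
          = s⁻¹ * (((c' : G) * zs * (c' : G)⁻¹) * ((c' : G) * z * (c' : G)⁻¹)) * s := by group
        _ = s⁻¹ * (a * (z : G)) * s := by rw [← ha, hcK z z.2, mul_inv_cancel_right]
        _ = (y : G) := by rw [← h2, mul_inv_cancel_left, hx]; group
  -- the four noncentral involutions form one orbit of the normalizer of `P`
  obtain ⟨⟨y0, hy02, hy01, hy0z⟩⟩ : Nonempty {g : K // g * g = 1 ∧ g ≠ 1 ∧ g ≠ z} :=
    (Nat.card_pos_iff.1 (by omega)).1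
  set N := normalizer ((D.P : Subgroup G) : Set G) with hNdef
  set y' : N := ⟨(y0 : G), hKN y0.2⟩ with hy'
  have hcls : Nat.card {g : N // IsConj y' g} = 4 := by
    rw [← hcount]
    refine Nat.card_congr (Equiv.ofBijective (fun g =>
      (⟨⟨(g.1 : G), ?_⟩, ?_, ?_, ?_⟩ : {g : K // g * g = 1 ∧ g ≠ 1 ∧ g ≠ z})) ⟨?_, ?_⟩)
    · obtain ⟨n, hn⟩ := isConj_iff.1 g.2
      rw [← hn]
      exact (mem_normalizer_iff.1 (hNK n.2) _).1 y0.2
    · obtain ⟨n, hn⟩ := isConj_iff.1 g.2
      refine Subtype.ext ?_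
      show (g.1 : G) * (g.1 : G) = 1
      rw [← hn]
      show ((n : G) * (y0 : G) * (n : G)⁻¹) * ((n : G) * (y0 : G) * (n : G)⁻¹) = 1
      calc _ = (n : G) * ((y0 : G) * y0) * (n : G)⁻¹ := by group
        _ = 1 := by rw [show (y0 : G) * y0 = 1 from congrArg Subtype.val hy02, mul_one, mul_inv_cancel]
    · intro h1
      obtain ⟨n, hn⟩ := isConj_iff.1 g.2
      have h2 : (g.1 : G) = 1 := congrArg Subtype.val h1
      rw [← hn] at h2
      exact hy01 (Subtype.ext (conj_eq_one_iff.1 h2))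
    · intro h1
      obtain ⟨n, hn⟩ := isConj_iff.1 g.2
      have h2 : (n : G) * (y0 : G) * (n : G)⁻¹ = (z : G) := by
        have h3 : (g.1 : G) = (z : G) := congrArg Subtype.val h1
        rw [← hn] at h3
        exact h3
      refine hy0z (Subtype.ext ?_)
      exact mul_left_cancel (mul_right_cancel (h2.trans (hzfix n n.2).symm))
    · intro a b hab
      exact Subtype.ext (Subtype.ext (congrArg (fun t : {g : K // g * g = 1 ∧ g ≠ 1 ∧ g ≠ z} => ((t : K) : G)) hab))
    · rintro ⟨w, hw2, hw1, hwz⟩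
      obtain ⟨g, hg⟩ := isConj_iff.1 ((key y0 hy02 hy01 hy0z).symm.trans (key w hw2 hw1 hwz))
      obtain ⟨n, hn, hnw⟩ := fuse_cent D.P (le_cent_K D hK y0.2) (le_cent_K D hK w.2) hg
      exact ⟨⟨⟨(w : G), hKN w.2⟩, isConj_iff.2 ⟨⟨n, hn⟩, Subtype.ext hnw⟩⟩, rfl⟩
  have h42 := CfsgLib.Perm.Small.card_class_mul_card_centralizer y'
  have hNc : Nat.card N = 168 := by rw [hNdef, D.norm_P]; exact hN
  rw [hcls, hNc] at h42
  -- but `y` and `z` give a four group in the centralizer
  set F := (centralizer ({(y0 : G)} : Set G)) with hF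
  have hfour : 4 ∣ Nat.card (centralizer ({y'} : Set N)) := by
    obtain ⟨A, hAc⟩ : ∃ A : Subgroup K, Nat.card A = 4 ∧ ∀ a ∈ A, a * y0 = y0 * a := by
      have hyz' : Commute y0 z := (hzc y0).symm
      by_cases hne : y0 = z
      · exact absurd hne hy0z
      refine ⟨{ carrier := {1, y0, z, y0 * z}, one_mem' := by simp, mul_mem' := ?_, inv_mem' := ?_ }, ?_, ?_⟩
      · intro a b ha hb
        simp only [Set.mem_insert_iff, Set.mem_singleton_iff] at ha hb ⊢
        have e1 : z * y0 = y0 * z := hzc y0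
        have e3 : ∀ w, z * (y0 * w) = y0 * (z * w) := fun w => by rw [← mul_assoc, e1, mul_assoc]
        have e4 : ∀ w, y0 * (y0 * w) = w := fun w => by rw [← mul_assoc, hy02, one_mul]
        rcases ha with ha | ha | ha | ha <;> rcases hb with hb | hb | hb | hb <;> rw [ha, hb] <;>
          simp [mul_assoc, hy02, hz2, e1, e3, e4]
      · intro a ha
        simp only [Set.mem_insert_iff, Set.mem_singleton_iff] at ha ⊢
        rcases ha with ha | ha | ha | ha <;> rw [ha] <;>
          simp [inv_eq_of_mul_eq_one_right hy02, inv_eq_of_mul_eq_one_right hz2, hzc y0]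
      · show Nat.card ({1, y0, z, y0 * z} : Set K) = 4
        rw [Nat.card_coe_set_eq]
        have d1 : (1 : K) ≠ y0 := fun h => hy01 h.symm
        have d2 : (1 : K) ≠ z := fun h => hz1 h.symm
        have d3 : (1 : K) ≠ y0 * z := fun h => hy0z (by
          have h' := congrArg (· * z) h
          simpa [mul_assoc, hz2] using h'.symm)
        have d4 : y0 ≠ y0 * z := fun h => hz1 (mul_left_cancel (a := y0) (by simpa using h.symm))
        have d5 : z ≠ y0 * z := fun h => hy01 (by simpa using h.symm)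
        rw [Set.ncard_insert_of_notMem (by simp [d1, d2, d3]), Set.ncard_insert_of_notMem (by simp [hy0z, d4]),
          Set.ncard_insert_of_notMem (by simp [d5]), Set.ncard_singleton]
      · intro a ha
        have ha' : a ∈ ({1, y0, z, y0 * z} : Set K) := ha
        simp only [Set.mem_insert_iff, Set.mem_singleton_iff] at ha'
        rcases ha' with ha' | ha' | ha' | ha' <;> rw [ha']
        · simp
        · exact hzc y0
        · rw [mul_assoc, hzc y0]
    have := card_dvd_of_injective ((inclusion hKN).comp A.subtype |>.codRestrict (centralizer ({y'} : Set N))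
      (fun a => mem_centralizer_singleton_iff.2 (Subtype.ext (congrArg (fun w : K => (w : G)) (hAc.2 a a.2)))))
      (fun a b hab => by
        have h1 := congrArg (fun t : centralizer ({y'} : Set N) => ((t : N) : G)) hab
        exact Subtype.ext (Subtype.ext h1))
    rwa [hAc.1] at this
  omega

/-- The parameters `c = 4` with a normalizer of `K` of order 1344 are impossible. -/
theorem seven_not_4 (h : Nat.card G = 443520) (D11 : PData G 11 5 1) (hN : e * (7 * c) = 168) (hc : c = 4)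
    (hK : ∀ y, y ∈ K ↔ y ∈ centralizer ((D.P : Subgroup G) : Set G) ∧ ¬ 7 ∣ orderOf y) (hKc : Nat.card K = c)
    (hNK : normalizer ((D.P : Subgroup G) : Set G) ≤ normalizer (K : Set G))
    (hH : Nat.card (normalizer (K : Set G)) = 1344) : False := by
  classical
  obtain ⟨U, s, hU, hUH, hKU, hconj, hss, hXU, hbot, hcomm⟩ :=
    big_setup D h D11 hN (Or.inr hc) hK hKc hNK hH
  obtain ⟨hQ, Pb, hPmem, hPbc, hPbC, hPbN⟩ := quot_data D hN (Or.inr hc) hK hKc hNK hH
  set H := normalizer (K : Set G) with hHdef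
  set K' := K.subgroupOf H with hK'
  set π := QuotientGroup.mk' K' with hπ
  have hsurj : Function.Surjective π := QuotientGroup.mk'_surjective K'
  have hker : π.ker = K' := QuotientGroup.ker_mk' K'
  subst hc
  have hN42 := Nat.eq_of_mul_eq_mul_right (by norm_num : 0 < 4) (hPbN.trans (by norm_num : (168 : ℕ) = 42 * 4))
  have hQ336 : Nat.card (↥H ⧸ K') = 336 := by omega
  obtain ⟨M, hMn, hMc, hMs, hPM, hMout⟩ := half_336 hQ336 Pb hPbc hPbC hN42
  haveI := hMn
  haveI := hMs
  haveI hKcomm : IsMulCommutative K := IsPGroup.isMulCommutative_of_card_eq_prime_sq (p := 2)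
    (by rw [hKc]; norm_num)
  have hKab : ∀ a ∈ K, ∀ b ∈ K, a * b = b * a := fun a ha b hb =>
    congrArg Subtype.val (hKcomm.is_comm.comm (⟨a, ha⟩ : K) ⟨b, hb⟩)
  set X := K.map (MulAut.conj s).toMonoidHom with hX
  set Xb := (X.subgroupOf H).map π with hXb
  have hXc : Nat.card X = 4 := by rw [hX, card_map_of_injective (MulEquiv.injective _), hKc]
  have hXbc : Nat.card Xb = 4 := by
    rw [← hXc, ← Nat.card_congr (subgroupOfEquivOfLe (hXU.trans hUH)).toEquiv]
    symm
    refine Nat.card_congr (Equiv.ofBijective (fun x => (⟨π x.1, mem_map_of_mem π x.2⟩ : Xb)) ⟨?_, ?_⟩)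
    · intro a b hab
      have h1 : π a.1 = π b.1 := congrArg Subtype.val hab
      have h2 : a.1⁻¹ * b.1 ∈ K' := by rw [← hker, MonoidHom.mem_ker, map_mul, map_inv, h1, inv_mul_cancel]
      exact Subtype.ext (Subtype.ext (eq_of_inv_mul_eq_one (hbot _ (X.mul_mem (X.inv_mem a.2) b.2) h2)))
    · rintro ⟨w, x, hx, rfl⟩
      exact ⟨⟨x, hx⟩, rfl⟩
  set U' := U.subgroupOf H with hU'
  set Ub := U'.map π with hUb
  have hKU' : π.ker ≤ U' := by rw [hker]; exact fun w hw => hKU hw
  have hcomap : Ub.comap π = U' := by rw [hUb, comap_map_eq, sup_eq_left.2 hKU']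
  have hUbc : Nat.card Ub = 16 := by
    have h1 := card_mul_index U'
    have h2 := card_mul_index Ub
    rw [Nat.card_congr (subgroupOfEquivOfLe hUH).toEquiv, hU, hH] at h1
    rw [hUb, index_map_eq U' hsurj hKU', ← hUb, hQ336, show U'.index = 21 by omega] at h2
    omega
  have hXbU : Xb ≤ Ub := map_mono fun w hw => hXU hw
  -- the centralizer of `K`
  set C := (centralizer (K : Set G)).subgroupOf H with hC
  haveI : C.Normal := ⟨fun n hn g => by
    refine mem_centralizer_iff.2 fun k hk => ?_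
    have hk' : (g : G)⁻¹ * k * (g : G) ∈ K := by
      simpa using (mem_normalizer_iff.1 (H.inv_mem g.2) k).1 hk
    have h1 := mem_centralizer_iff.1 hn _ hk'
    show k * ((g : G) * (n : G) * (g : G)⁻¹) = (g : G) * (n : G) * (g : G)⁻¹ * k
    calc k * ((g : G) * (n : G) * (g : G)⁻¹) = (g : G) * (((g : G)⁻¹ * k * g) * n) * (g : G)⁻¹ := by group
      _ = (g : G) * (n * ((g : G)⁻¹ * k * g)) * (g : G)⁻¹ := congrArg (fun w => (g : G) * w * (g : G)⁻¹) h1
      _ = _ := by group⟩
  have hKC : π.ker ≤ C := by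
    rw [hker]
    exact fun w hw => mem_centralizer_iff.2 fun k hk => hKab k hk _ hw
  set Cb := C.map π with hCb
  haveI : Cb.Normal := Subgroup.Normal.map inferInstance π hsurj
  have hCcomap : ∀ w : H, π w ∈ Cb → w ∈ C := by
    intro w hw
    have : w ∈ Cb.comap π := hw
    rwa [hCb, comap_map_eq, sup_eq_left.2 hKC] at this
  have hXC : Xb ≤ Cb := map_mono fun w hw => mem_centralizer_iff.2 fun k hk => hcomm _ hw k hk
  have hMC : M ≤ Cb := by
    rcases ((inferInstance : Cb.Normal).subgroupOf M).eq_bot_or_eq_top with hb | ht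
    · exfalso
      obtain ⟨x, hx, hxo⟩ := D.exists_elt
      have h1 : π ⟨x, hNK (le_normalizer hx)⟩ ∈ Cb := mem_map_of_mem π
        (mem_centralizer_iff.2 fun k hk => (mem_centralizer_iff.1 (le_cent_K D hK hk) x hx).symm)
      have h2 : (⟨_, hPM _ (hPmem x hx)⟩ : M) ∈ Cb.subgroupOf M := h1
      rw [hb, mem_bot] at h2
      have h3 : π ⟨x, hNK (le_normalizer hx)⟩ = 1 := congrArg Subtype.val h2
      rw [← MonoidHom.mem_ker, hker] at h3
      have h4 := ((hK x).1 h3).2
      rw [hxo] at h4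
      exact h4 dvd_rfl
    · exact subgroupOf_eq_top.1 ht
  -- an involution outside `M` in `Ub`
  have hfalse : ∀ g : ↥H ⧸ K', g ∉ M → g * g = 1 → (∀ a ∈ Xb, Commute g a) →
      (g ∈ Xb → ∀ a ∈ Ub, Commute g a) → False := by
    intro g hgM hg2 hga hgX'
    by_cases hgX : g ∈ Xb
    · obtain ⟨A, hA⟩ := Sylow.exists_subgroup_card_pow_prime (G := Ub) 2 (n := 3) (by rw [hUbc]; norm_num)
      refine hMout g hgM hg2 (A.map Ub.subtype) ?_ (by rw [card_map_of_injective Ub.subtype_injective, hA]; norm_num)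
      exact fun w hw => hgX' hgX w (map_subtype_le _ hw)
    · obtain ⟨A, hA, hA8⟩ := exists_eight_cent hg2 (fun h1 => hgM (h1 ▸ one_mem M)) hXbc hgX hga
      exact hMout g hgM hg2 A hA hA8
  -- conjugation by `s`
  have hXcent : ∀ u ∈ U, u ∈ centralizer (K : Set G) → s * u * s⁻¹ ∈ centralizer (X : Set G) := by
    intro u hu hc'
    refine mem_centralizer_iff.2 ?_
    rintro w ⟨k, hk, rfl⟩
    have h1 := mem_centralizer_iff.1 hc' k hk
    show s * k * s⁻¹ * (s * u * s⁻¹) = s * u * s⁻¹ * (s * k * s⁻¹)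
    calc s * k * s⁻¹ * (s * u * s⁻¹) = s * (k * u) * s⁻¹ := by group
      _ = s * (u * k) * s⁻¹ := by rw [h1]
      _ = _ := by group
  have hUbmem : ∀ w ∈ Ub, ∃ u : H, (u : G) ∈ U ∧ π u = w := by
    rintro w ⟨u, hu, rfl⟩
    exact ⟨u, hu, rfl⟩
  obtain ⟨T2, hT2⟩ := (IsPGroup.of_card (n := 4) (by rw [hUbc]; norm_num) : IsPGroup 2 Ub).exists_le_sylow
  have hT16 : ∀ T : Sylow 2 (↥H ⧸ K'), Nat.card (T : Subgroup (↥H ⧸ K')) = 16 := fun T => by
    rw [T.card_eq_multiplicity, hQ336, show (336 : ℕ) = 2 ^ 4 * 21 by norm_num,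
      Nat.factorization_mul (by norm_num) (by norm_num), Nat.Prime.factorization_pow (by norm_num)]
    simp [Nat.factorization_eq_zero_of_not_dvd (show ¬ 2 ∣ 21 by norm_num)]
  have hUbT : Ub = (T2 : Subgroup (↥H ⧸ K')) := eq_of_le_of_card_ge hT2 (by rw [hUbc, hT16])
  obtain ⟨τ', hτ'⟩ := exists_prime_orderOf_dvd_card'
    (G := normalizer ((Pb : Subgroup (↥H ⧸ K')) : Set (↥H ⧸ K'))) 2 (by
      exact dvd_trans (by norm_num : 2 ∣ 42) (dvd_of_eq hN42.symm))
  have hτo : orderOf (τ' : ↥H ⧸ K') = 2 := by rw [Subgroup.orderOf_coe, hτ']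
  have hτM : (τ' : ↥H ⧸ K') ∉ M := by
    intro hm
    obtain ⟨j, hj, hjc⟩ := sylow_split Pb (show (Pb : Subgroup (↥H ⧸ K')) ≤ M from hPM)
    obtain ⟨d, hd⟩ : ∃ d, Nat.card ↥(M ⊓ normalizer ((Pb : Subgroup (↥H ⧸ K')) : Set (↥H ⧸ K'))) = d := ⟨_, rfl⟩
    rw [hd, hMc] at hjc
    have h1 : d ∣ 42 := by
      have := card_dvd_of_le (inf_le_right : M ⊓ normalizer ((Pb : Subgroup (↥H ⧸ K')) : Set (↥H ⧸ K')) ≤ _)
      rw [hd] at this
      exact this.trans (dvd_of_eq hN42)
    have h2 : 2 ∣ d := hd ▸ hτo ▸ Subgroup.orderOf_dvd_natCard _ (mem_inf.2 ⟨hm, τ'.2⟩)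
    have h3 : 7 ∣ d := by
      have := card_dvd_of_le (le_inf (show (Pb : Subgroup (↥H ⧸ K')) ≤ M from hPM)
        (le_normalizer (H := (Pb : Subgroup (↥H ⧸ K')))))
      rwa [hd, hPbc] at this
    have := Nat.le_of_dvd (by norm_num) h1
    interval_cases d <;> omega
  obtain ⟨T1, hT1⟩ := (IsPGroup.of_card (n := 1) (by rw [Nat.card_zpowers, hτo, pow_one]) :
    IsPGroup 2 (zpowers (τ' : ↥H ⧸ K'))).exists_le_sylow
  obtain ⟨q, hq⟩ := MulAction.exists_smul_eq (↥H ⧸ K') T1 T2
  set g0 : ↥H ⧸ K' := q * τ' * q⁻¹ with hg0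
  have hg0U : g0 ∈ Ub := by
    rw [hUbT, ← hq, Sylow.coe_subgroup_smul]
    exact ⟨_, hT1 (mem_zpowers _), rfl⟩
  have hg0M : g0 ∉ M := fun hm => hτM (by
    have := hMn.conj_mem _ hm q⁻¹
    simpa [hg0, mul_assoc] using this)
  have hg02 : g0 * g0 = 1 := by
    calc g0 * g0 = q * ((τ' : ↥H ⧸ K') * τ') * q⁻¹ := by rw [hg0]; group
      _ = 1 := by rw [← pow_two, ← hτo, pow_orderOf_eq_one, mul_one, mul_inv_cancel]
  by_cases hCtop : Cb = ⊤
  · -- everything centralizes `K`, so `Xb` is central in `Ub`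
    have hcentral : ∀ w ∈ Ub, ∀ a ∈ Xb, Commute w a := by
      rintro w hw a ⟨x, hx, rfl⟩
      obtain ⟨u, hu, rfl⟩ := hUbmem w hw
      show π u * π x = π x * π u
      rw [← map_mul, ← map_mul]
      congr 1
      refine Subtype.ext ?_
      have h1 : s⁻¹ * (u : G) * s ∈ centralizer (K : Set G) := hCcomap ⟨_, hUH (hconj _ hu).2⟩ (by
        rw [hCtop]; exact mem_top _)
      have h2 := hXcent _ (hconj _ hu).2 h1
      rw [show s * (s⁻¹ * (u : G) * s) * s⁻¹ = (u : G) by group] at h2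
      exact (mem_centralizer_iff.1 h2 x hx).symm
    exact hfalse g0 hg0M hg02 (hcentral g0 hg0U) fun hgX a ha => (hcentral a ha g0 hgX).symm
  · have hCM : Cb = M := by
      refine (eq_of_le_of_card_ge hMC ?_).symm
      have h1 := card_mul_index Cb
      have h2 : Cb.index ≠ 1 := fun e1 => hCtop (index_eq_one.1 e1)
      have h3 := card_le_of_le hMC
      rw [hMc] at h3 ⊢
      rw [hQ336] at h1
      have h4 : 2 ≤ Cb.index := by
        have : Cb.index ≠ 0 := index_ne_zero_of_finite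
        omega
      have := Nat.mul_le_mul_left (Nat.card Cb) h4
      omega
    have hXM : Xb ≤ M := hCM ▸ hXC
    -- the Sylow subgroup `Ub ⊓ M` of `M` is dihedral
    set D8 := Ub ⊓ M with hD8
    have hD8c : Nat.card D8 = 8 := by
      have h1 : Nat.card (M.subgroupOf Ub) * M.relIndex Ub = Nat.card Ub := card_mul_index (M.subgroupOf Ub)
      have h0 : Nat.card (M.subgroupOf Ub) = Nat.card D8 := Nat.card_congr
        { toFun := fun w => ⟨((w : Ub) : ↥H ⧸ K'), (w : Ub).2, w.2⟩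
          invFun := fun w => ⟨⟨w, w.2.1⟩, w.2.2⟩
          left_inv := fun w => rfl
          right_inv := fun w => rfl }
      rw [h0, hUbc] at h1
      have h2 := Subgroup.relIndex_le_of_le_right (H := M) (le_top : Ub ≤ ⊤) index_ne_zero_of_finite
      rw [relIndex_top_right] at h2
      have h3 := card_mul_index M
      rw [hMc, hQ336] at h3
      rw [show M.index = 2 by omega] at h2
      have h4 : M.relIndex Ub ≠ 1 := fun h4 => hg0M (relIndex_eq_one.1 h4 hg0U)
      have h5 : M.relIndex Ub ≠ 0 := index_ne_zero_of_finite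
      rw [show M.relIndex Ub = 2 by omega] at h1
      omega
    obtain ⟨T3, hT3⟩ := (IsPGroup.of_card (n := 3) (by
      rw [Nat.card_congr (subgroupOfEquivOfLe (inf_le_right : D8 ≤ M)).toEquiv, hD8c]; norm_num) :
      IsPGroup 2 (D8.subgroupOf M)).exists_le_sylow
    have hT3c : Nat.card (T3 : Subgroup M) = 8 := by
      rw [T3.card_eq_multiplicity, hMc, show (168 : ℕ) = 2 ^ 3 * 21 by norm_num,
        Nat.factorization_mul (by norm_num) (by norm_num), Nat.Prime.factorization_pow (by norm_num)]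
      simp [Nat.factorization_eq_zero_of_not_dvd (show ¬ 2 ∣ 21 by norm_num)]
    have hD8T : D8.subgroupOf M = (T3 : Subgroup M) := eq_of_le_of_card_ge hT3 (by
      rw [hT3c, Nat.card_congr (subgroupOfEquivOfLe (inf_le_right : D8 ≤ M)).toEquiv, hD8c])
    obtain ⟨eD⟩ := (Cfsg.Agent.S1004.result hMc T3).1
    obtain ⟨zc, hzc1, hzc2, hzcc, hzcu, hcount⟩ := dihedral_facts
      ((subgroupOfEquivOfLe (inf_le_right : D8 ≤ M)).symm.trans ((MulEquiv.subgroupCongr hD8T).trans eD))
    have hXD : Xb ≤ D8 := le_inf hXbU hXM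
    obtain ⟨f, ⟨hf2, hf1, hfz⟩, hfX⟩ : ∃ f : D8, (f * f = 1 ∧ f ≠ 1 ∧ f ≠ zc) ∧ (f : ↥H ⧸ K') ∉ Xb := by
      by_contra hno
      push Not at hno
      have hinj : Function.Injective (fun o : Option {g : D8 // g * g = 1 ∧ g ≠ 1 ∧ g ≠ zc} =>
          (o.elim (1 : Xb) fun g => ⟨(g.1 : ↥H ⧸ K'), hno g.1 g.2⟩)) := by
        rintro (_ | a) (_ | b) hab
        · rfl
        · exact absurd (Subtype.ext (congrArg (fun t : Xb => (t : ↥H ⧸ K')) hab).symm : b.1 = 1) b.2.2.1
        · exact absurd (Subtype.ext (congrArg (fun t : Xb => (t : ↥H ⧸ K')) hab) : a.1 = 1) a.2.2.1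
        · exact congrArg some (Subtype.ext (Subtype.ext
            (congrArg (fun t : Xb => (t : ↥H ⧸ K')) hab)))
      have := Nat.card_le_card_of_injective _ hinj
      rw [Finite.card_option, hcount, hXbc] at this
      omega
    have hfnc : ∃ a ∈ Xb, ¬ Commute (f : ↥H ⧸ K') a := by
      by_contra hno
      push Not at hno
      obtain ⟨B, hB, hB8⟩ := exists_eight_cent (G := D8) hf2 hf1 (A := Xb.subgroupOf D8)
        (by rw [Nat.card_congr (subgroupOfEquivOfLe hXD).toEquiv, hXbc]) (fun hm => hfX hm)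
        (fun a ha => Subtype.ext (hno _ ha).eq)
      have hBtop : B = ⊤ := eq_of_le_of_card_ge le_top (by rw [card_top, hB8, hD8c])
      rcases hzcu f (fun g => (hB g (hBtop ▸ mem_top g)).eq) with h1 | h1
      · exact hf1 h1
      · exact hfz h1
    -- lift `f` to an involution centralizing `K`
    obtain ⟨zx, hzx⟩ := exists_prime_orderOf_dvd_card' (G := X) 2 (by rw [hXc]; norm_num)
    have hzx1 : (zx : G) ≠ 1 := fun h1 => by
      rw [← Subgroup.orderOf_coe, h1, orderOf_one] at hzx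
      norm_num at hzx
    have hzx2 : (zx : G) * zx = 1 := by
      rw [← pow_two]; exact orderOf_dvd_iff_pow_eq_one.1 ((Subgroup.orderOf_coe zx).trans hzx).dvd
    have hzH : (zx : G) ∈ H := hUH (hXU zx.2)
    have hzb : π ⟨zx, hzH⟩ ∈ Xb := mem_map_of_mem π (show (⟨zx, hzH⟩ : H) ∈ X.subgroupOf H from zx.2)
    have hzb1 : π ⟨zx, hzH⟩ ≠ 1 := fun h1 => by
      rw [← MonoidHom.mem_ker, hker] at h1
      exact hzx1 (hbot _ zx.2 h1)
    have ho1 : orderOf (⟨_, hXM hzb⟩ : M) = 2 := orderOf_eq_prime (Subtype.ext (by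
      show π ⟨zx, hzH⟩ ^ 2 = 1
      rw [← map_pow, show (⟨(zx : G), hzH⟩ : H) ^ 2 = 1 from Subtype.ext (by
        show (zx : G) ^ 2 = 1
        rw [pow_two, hzx2]), map_one])) (fun h1 => hzb1 (congrArg Subtype.val h1))
    have ho2 : orderOf (⟨(f : ↥H ⧸ K'), f.2.2⟩ : M) = 2 := orderOf_eq_prime (Subtype.ext (by
      show (f : ↥H ⧸ K') ^ 2 = 1
      rw [pow_two]
      exact congrArg Subtype.val hf2)) (fun h1 => hf1 (Subtype.ext (congrArg (fun t : M => (t : ↥H ⧸ K')) h1)))
    obtain ⟨m, hm⟩ := isConj_iff.1 ((CfsgLib.Perm.Small.s168_counts hMc).2.1 _ _ ho1 ho2)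
    obtain ⟨c0, hc0, hcm⟩ : (m : ↥H ⧸ K') ∈ Cb := hCM ▸ m.2
    set F : H := c0 * ⟨zx, hzH⟩ * c0⁻¹ with hF
    have hπF : π F = (f : ↥H ⧸ K') := by
      rw [hF, map_mul, map_mul, map_inv, hcm]
      exact congrArg Subtype.val hm
    have hFU : (F : G) ∈ U := by
      have h1 : F ∈ Ub.comap π := by
        show π F ∈ Ub
        rw [hπF]; exact f.2.1
      rw [hcomap] at h1
      exact h1
    have hFC : (F : G) ∈ centralizer (K : Set G) :=
      mul_mem (mul_mem hc0 (mem_centralizer_iff.2 fun k hk => hcomm _ zx.2 k hk))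
        (inv_mem (show (c0 : G) ∈ centralizer (K : Set G) from hc0))
    have hF2 : (F : G) * F = 1 := by
      show (c0 : G) * zx * (c0 : G)⁻¹ * ((c0 : G) * zx * (c0 : G)⁻¹) = 1
      calc (c0 : G) * zx * (c0 : G)⁻¹ * ((c0 : G) * zx * (c0 : G)⁻¹) = (c0 : G) * ((zx : G) * zx) * (c0 : G)⁻¹ := by
            group
        _ = 1 := by rw [hzx2, mul_one, mul_inv_cancel]
    set F' : G := s * (F : G) * s⁻¹ with hF'
    have hF'X := hXcent _ hFU hFC
    set g : ↥H ⧸ K' := π ⟨F', hUH (hconj _ hFU).1⟩ with hg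
    have hgM : g ∉ M := by
      intro hgM
      have h1 : F' ∈ centralizer (K : Set G) := hCcomap ⟨F', hUH (hconj _ hFU).1⟩ (hCM.symm ▸ hgM)
      obtain ⟨a, ha, hna⟩ := hfnc
      obtain ⟨x, hx, rfl⟩ := ha
      refine hna ?_
      rw [← hπF]
      show π F * π x = π x * π F
      rw [← map_mul, ← map_mul]
      congr 1
      refine Subtype.ext ?_
      obtain ⟨k, hk, hkx⟩ := (hx : (x : G) ∈ X)
      have hk' : s * s * k * (s * s)⁻¹ ∈ K := (mem_normalizer_iff.1 (hUH hss) k).1 hk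
      have h2 := mem_centralizer_iff.1 h1 _ hk'
      show (F : G) * (x : G) = (x : G) * (F : G)
      rw [← show s * k * s⁻¹ = (x : G) from hkx]
      calc (F : G) * (s * k * s⁻¹) = s⁻¹ * (F' * (s * s * k * (s * s)⁻¹)) * s := by rw [hF']; group
        _ = s⁻¹ * ((s * s * k * (s * s)⁻¹) * F') * s := by rw [h2]
        _ = _ := by rw [hF']; group
    refine hfalse g hgM ?_ ?_ (fun hgX => absurd (hXM hgX) hgM)
    · rw [hg, ← map_mul, show (⟨F', hUH (hconj _ hFU).1⟩ : H) * ⟨F', hUH (hconj _ hFU).1⟩ = 1 from Subtype.ext (by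
        show F' * F' = 1
        calc F' * F' = s * ((F : G) * F) * s⁻¹ := by rw [hF']; group
          _ = 1 := by rw [hF2, mul_one, mul_inv_cancel]), map_one]
    · rintro a ⟨x, hx, rfl⟩
      show g * π x = π x * g
      rw [hg, ← map_mul, ← map_mul]
      congr 1
      exact Subtype.ext (mem_centralizer_iff.1 hF'X x hx).symm

/-- The normalizer of `K` has 2-part at least sixteen when `c = 4`. -/
theorem seven_four_sixteen (h : Nat.card G = 443520) (D11 : PData G 11 5 1) (D : PData G 7 6 4)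
    (hK : ∀ y, y ∈ K ↔ y ∈ centralizer ((D.P : Subgroup G) : Set G) ∧ ¬ 7 ∣ orderOf y) (hKc : Nat.card K = 4)
    (hNK : normalizer ((D.P : Subgroup G) : Set G) ≤ normalizer (K : Set G)) :
    16 ∣ Nat.card (normalizer (K : Set G)) := by
  classical
  by_contra h16
  set N := normalizer ((D.P : Subgroup G) : Set G) with hN
  have hNc : Nat.card N = 168 := by rw [hN, D.norm_P]
  have hKN : K ≤ N := (le_cent_K D hK).trans (centralizer_le_normalizer _)
  obtain ⟨M0, hKM0, hM0N, hM0⟩ := exists_two_above hKN (a := 3) (r := 21) (by rw [hNc]; norm_num) (by norm_num)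
    (b := 2) (dvd_of_eq (by rw [hKc]; norm_num))
  obtain ⟨W, hWc, hM0W⟩ := Sylow.exists_subgroup_card_pow_succ (G := G) (p := 2) (n := 3) (H := M0)
    (by rw [h]; norm_num) (by rw [hM0])
  obtain ⟨s, hs, hsM⟩ : ∃ s ∈ W, s ∉ M0 := by
    by_contra hno
    push Not at hno
    have := card_le_of_le (show W ≤ M0 from hno)
    rw [hM0, hWc] at this
    norm_num at this
  obtain ⟨hWL, hconj, -, -⟩ := inter_conj hM0W (by rw [hWc, hM0]; norm_num) (hM0N.trans hNK) hs hsM
  set X := K.map (MulAut.conj s).toMonoidHom with hX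
  set L := K ⊓ X with hL
  have hXM : X ≤ M0 := by
    rintro w ⟨y, hy, rfl⟩
    exact (hconj y (hKM0 hy)).1
  have hXc : Nat.card X = 4 := by rw [hX, card_map_of_injective (MulEquiv.injective _), hKc]
  have hLK : L ≠ K := fun he => h16 (by
    have : W ≤ normalizer (K : Set G) := he ▸ hWL
    exact dvd_trans (by rw [hWc]; norm_num) (card_dvd_of_le this))
  have hL2 : Nat.card L = 2 := by
    have h1 := Subgroup.relIndex_le_of_le_right (H := K) hXM index_ne_zero_of_finite
    have h2 : K.relIndex M0 = 2 := by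
      have h3 := card_mul_index (K.subgroupOf M0)
      rw [Nat.card_congr (subgroupOfEquivOfLe hKM0).toEquiv, hKc, hM0] at h3
      rw [relIndex]; omega
    have h4 := card_mul_index (K.subgroupOf X)
    rw [← inf_subgroupOf_right, Nat.card_congr (subgroupOfEquivOfLe (inf_le_right : K ⊓ X ≤ X)).toEquiv,
      inf_subgroupOf_right, hXc, ← relIndex, ← hL] at h4
    rw [h2] at h1
    have h5 : Nat.card L ∣ 4 := hKc ▸ card_dvd_of_le (inf_le_left : L ≤ K)
    have h6 : Nat.card L ≠ 4 := fun he => hLK (eq_of_le_of_card_ge inf_le_left (by rw [he, hKc]))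
    have := Nat.mul_le_mul_left (Nat.card L) h1
    have := Nat.le_of_dvd (by norm_num) h5
    interval_cases hl : Nat.card L <;> omega
  obtain ⟨z', hz'⟩ := exists_prime_orderOf_dvd_card' (G := L) 2 (by rw [hL2])
  set z : G := (z' : G) with hzdef
  have hzo : orderOf z = 2 := by rw [hzdef, Subgroup.orderOf_coe, hz']
  have hz1 : z ≠ 1 := fun h1 => by rw [h1, orderOf_one] at hzo; norm_num at hzo
  have hzK : z ∈ K := z'.2.1
  have hzX : z ∈ X := z'.2.2
  have hLz : ∀ w ∈ L, w = 1 ∨ w = z := by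
    intro w hw
    have h1 := (Nat.card_eq_two_iff' (1 : L)).1 hL2
    obtain ⟨v, -, hv⟩ := h1
    by_cases hw1 : w = 1
    · exact Or.inl hw1
    right
    have e1 := hv ⟨w, hw⟩ (fun h => hw1 (congrArg Subtype.val h))
    have e2 := hv z' (fun h => hz1 (congrArg Subtype.val h))
    exact congrArg Subtype.val (e1.trans e2.symm)
  set C := centralizer ({z} : Set G) with hC
  have hWC : W ≤ C := by
    intro w hw
    refine mem_centralizer_singleton_iff.2 (mul_inv_eq_iff_eq_mul.1 ?_)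
    have h1 : w * z * w⁻¹ ∈ L := (mem_normalizer_iff.1 (hWL hw) z).1 z'.2
    rcases hLz _ h1 with h2 | h2
    · exact absurd (conj_eq_one_iff.1 h2) hz1
    · exact h2
  have hPC : (D.P : Subgroup G) ≤ C := fun x hx =>
    mem_centralizer_singleton_iff.2 (mem_centralizer_iff.1 (le_cent_K D hK hzK) x hx)
  haveI hKcomm : IsMulCommutative K := IsPGroup.isMulCommutative_of_card_eq_prime_sq (p := 2)
    (by rw [hKc]; norm_num)
  have hKC : K ≤ C := fun w hw => mem_centralizer_singleton_iff.2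
    (congrArg Subtype.val (hKcomm.is_comm.comm (⟨w, hw⟩ : K) ⟨z, hzK⟩))
  have h11 : ¬ 11 ∣ Nat.card C := by
    intro hd
    obtain ⟨g', hg'⟩ := exists_prime_orderOf_dvd_card' (G := C) 11 hd
    refine hz1 (D11.cent_eq_one (x := (g' : G)) (by rw [Subgroup.orderOf_coe, hg']) rfl
      (mem_centralizer_singleton_iff.1 g'.2) (by rw [hzo]; norm_num))
  have h16C : 16 ∣ Nat.card C := dvd_trans (by rw [hWc]; norm_num) (card_dvd_of_le hWC)
  obtain ⟨j, hj, hjc⟩ := sylow_split D.P hPC
  obtain ⟨d, hd⟩ : ∃ d, Nat.card ↥(C ⊓ N) = d := ⟨_, rfl⟩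
  rw [← hN, hd] at hjc
  have h56 : 56 ∣ d := hd ▸ q_dvd D.card_P (a := 3) hM0 (le_inf hPC le_normalizer)
    (le_inf (hM0W.trans hWC) hM0N)
  have hd168 : d ∣ 168 := hd ▸ hNc ▸ card_dvd_of_le inf_le_right
  -- eight Sylow subgroups in the centralizer make `K` normal there
  have hnot8 : j ≠ 8 := by
    rintro rfl
    refine h16 (dvd_trans (by rw [hWc]; norm_num) (card_dvd_of_le (hWC.trans ?_)))
    have h8 : Nat.card (Sylow 7 C) = 8 := by
      have h1 : Nat.card (Sylow 7 C) =
          (normalizer (((D.P.subtype hPC : Sylow 7 C) : Subgroup C) : Set C)).index :=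
        (D.P.subtype hPC).card_eq_index_normalizer
      have h2 := card_mul_index (normalizer (((D.P.subtype hPC : Sylow 7 C) : Subgroup C) : Set C))
      rw [← h1, hjc, show ((D.P.subtype hPC : Sylow 7 C) : Subgroup C) = (D.P : Subgroup G).subgroupOf C from rfl,
        ← subgroupOf_normalizer_eq hPC, ← inf_subgroupOf_left,
        Nat.card_congr (subgroupOfEquivOfLe inf_le_left).toEquiv, ← hN, hd, mul_comm 8] at h2
      have hd0 : 0 < d := Nat.pos_of_dvd_of_pos hd168 (by norm_num)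
      exact Nat.eq_of_mul_eq_mul_left hd0 h2
    intro g hg
    have hcj : ∀ v ∈ C, ∀ w ∈ K, v * w * v⁻¹ ∈ K := by
      intro v hv w hw
      have hw' := (hK w).1 hw
      refine (hK _).2 ⟨mem_centralizer_iff.2 fun a ha => ?_, ?_⟩
      · have h1 := eight_centralizer (D.P.subtype hPC)
          (by show Nat.card ((D.P : Subgroup G).subgroupOf C) = 7
              rw [Nat.card_congr (subgroupOfEquivOfLe hPC).toEquiv, D.card_P]) h8
          (k := ⟨w, hKC hw⟩) (mem_centralizer_iff.2 fun b hb => Subtype.ext (mem_centralizer_iff.1 hw'.1 _ hb))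
          (by rw [← Subgroup.orderOf_coe]; exact hw'.2) ⟨v, hv⟩
        exact congrArg Subtype.val (mem_centralizer_iff.1 h1 ⟨a, hPC ha⟩ ha)
      · rw [show orderOf (v * w * v⁻¹) = orderOf w from
          orderOf_injective (MulAut.conj v).toMonoidHom (MulEquiv.injective _) w]
        exact hw'.2
    rw [mem_normalizer_iff]
    intro w
    refine ⟨hcj g hg w, fun hw => ?_⟩
    have h2 := hcj g⁻¹ (C.inv_mem hg) _ hw
    simpa [mul_assoc] using h2
  have hd' : d = 56 ∨ d = 168 := by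
    obtain ⟨k, rfl⟩ := h56
    have h3 : k ∣ 3 := (Nat.mul_dvd_mul_iff_left (by norm_num : 0 < 56)).1 hd168
    rcases (Nat.dvd_prime Nat.prime_three).1 h3 with rfl | rfl <;> simp
  have hCtop : C ≠ ⊤ := fun ht => h11 (by rw [ht, card_top, h]; norm_num)
  have hd56 : d = 56 := by
    rcases hd' with h1 | h1
    · exact h1
    exfalso
    have hNC : N ≤ C := inf_eq_right.1 (eq_of_le_of_card_ge inf_le_right (by rw [hd, h1, hNc]))
    have h2 := card_above h D (by norm_num) (Or.inr rfl) hCtop hNC h11 h16C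
    rw [hjc, h1] at h2
    exact hnot8 (by omega)
  subst hd56
  have hC2 : Nat.card C = 2016 ∨ Nat.card C = 6720 := by
    have h1 : j * 56 ∣ 7920 * 56 := by
      have := card_subgroup_dvd_card C
      rw [hjc, h] at this
      simpa using this
    have h3 : j ∣ 7920 := (Nat.mul_dvd_mul_iff_right (by norm_num : 0 < 56)).1 h1
    have h5 : ¬ 11 ∣ j := fun h6 => h11 (hjc ▸ h6.mul_right 56)
    have h4 : j ∣ 720 := by
      have hc : Nat.Coprime j 11 := (((Nat.Prime.coprime_iff_not_dvd (by norm_num)).2 h5)).symm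
      exact hc.dvd_of_dvd_mul_right (by simpa using h3)
    rw [hjc] at h16C ⊢
    rcases j56_table j (Nat.lt_succ_of_le (Nat.le_of_dvd (by norm_num) h4))
      ⟨Nat.mod_eq_zero_of_dvd h4, hj, by omega⟩ with rfl | rfl | rfl
    · exact absurd rfl hnot8
    · left; norm_num
    · right; norm_num
  -- `z` is conjugate to the three involutions of `K`
  set z0 : N := ⟨z, hKN hzK⟩ with hz0
  have hcl : Nat.card {g : N // IsConj z0 g} = 3 := by
    have h1 := CfsgLib.Perm.Small.card_class_mul_card_centralizer z0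
    have h2 : Nat.card (centralizer ({z0} : Set N)) = 56 := by
      rw [← hd]
      exact Nat.card_congr
        { toFun := fun w => ⟨((w : N) : G), mem_centralizer_singleton_iff.2
            (congrArg Subtype.val (mem_centralizer_singleton_iff.1 w.2)), (w : N).2⟩
          invFun := fun w => ⟨⟨w, w.2.2⟩, mem_centralizer_singleton_iff.2
            (Subtype.ext (mem_centralizer_singleton_iff.1 w.2.1))⟩
          left_inv := fun w => rfl
          right_inv := fun w => rfl }
    rw [h2, hNc] at h1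
    omega
  have hKconj : ∀ w ∈ K, w ≠ 1 → IsConj z w := by
    intro w hw hw1
    haveI := Fintype.ofFinite K
    have hK3 : Nat.card {k : K // k ≠ 1} = 3 := by
      rw [Nat.card_eq_fintype_card, Fintype.card_subtype_compl, Fintype.card_subtype_eq, ← Nat.card_eq_fintype_card,
        hKc]
    have hmem : ∀ g : {g : N // IsConj z0 g}, (g.1 : G) ∈ K ∧ (g.1 : G) ≠ 1 := by
      intro g
      obtain ⟨n, hn⟩ := isConj_iff.1 g.2
      have hn' : (n : G) * z * (n : G)⁻¹ = (g.1 : G) := congrArg Subtype.val hn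
      rw [← hn']
      exact ⟨(mem_normalizer_iff.1 (hNK n.2) z).1 hzK, fun h1 => hz1 (conj_eq_one_iff.1 h1)⟩
    have hbij := (Nat.bijective_iff_injective_and_card (fun g : {g : N // IsConj z0 g} =>
      (⟨⟨(g.1 : G), (hmem g).1⟩, fun h1 => (hmem g).2 (congrArg Subtype.val h1)⟩ : {k : K // k ≠ 1}))).2
      ⟨fun a b hab => Subtype.ext (Subtype.ext (congrArg (fun t : {k : K // k ≠ 1} => ((t : K) : G)) hab)),
        by rw [hcl, hK3]⟩
    obtain ⟨g, hg⟩ := hbij.2 ⟨⟨w, hw⟩, fun h1 => hw1 (congrArg Subtype.val h1)⟩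
    have hg' : (g.1 : G) = w := congrArg (fun t : {k : K // k ≠ 1} => ((t : K) : G)) hg
    obtain ⟨n, hn⟩ := isConj_iff.1 g.2
    exact isConj_iff.2 ⟨n, (congrArg Subtype.val hn).trans hg'⟩
  -- elements conjugate to `z` inverting the Sylow subgroup
  obtain ⟨x, hx, hxo⟩ := D.exists_elt
  have hz2 : z * z = 1 := by rw [← pow_two]; exact orderOf_dvd_iff_pow_eq_one.1 hzo.dvd
  have hsq : ∀ a, IsConj z a → a * a = 1 := by
    intro a ha
    obtain ⟨t, rfl⟩ := isConj_iff.1 ha
    calc t * z * t⁻¹ * (t * z * t⁻¹) = t * (z * z) * t⁻¹ := by group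
      _ = 1 := by rw [hz2, mul_one, mul_inv_cancel]
  obtain ⟨m, hmX, hmL⟩ : ∃ m ∈ X, m ∉ L := by
    by_contra hno
    push Not at hno
    have := card_le_of_le (show X ≤ L from hno)
    omega
  have hm'X : m * z ∈ X := X.mul_mem hmX hzX
  have hm'L : m * z ∉ L := fun hh => hmL (by
    have h1 := L.mul_mem hh (L.inv_mem z'.2)
    rwa [← hzdef, mul_inv_cancel_right] at h1)
  have hXc' : ∀ a ∈ X, ∀ b ∈ X, a * b = b * a := by
    rintro _ ⟨a, ha, rfl⟩ _ ⟨b, hb, rfl⟩
    rw [← map_mul, ← map_mul,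
      show a * b = b * a from congrArg Subtype.val (hKcomm.is_comm.comm (⟨a, ha⟩ : K) ⟨b, hb⟩)]
  have hgoodX : ∀ a ∈ X, a ∉ L → IsConj z a ∧ a ∈ N ∧ a ∉ centralizer ((D.P : Subgroup G) : Set G) := by
    intro a ha haL
    have hconj' : IsConj z a := by
      obtain ⟨k, hk, rfl⟩ := ha
      have hk1 : k ≠ 1 := by
        rintro rfl
        exact haL (by rw [map_one]; exact L.one_mem)
      exact (hKconj k hk hk1).trans (isConj_iff.2 ⟨s, rfl⟩)
    refine ⟨hconj', hM0N (hXM ha), fun hc => haL ⟨(hK a).2 ⟨hc, fun h7 => ?_⟩, ha⟩⟩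
    have h2 : orderOf a ∣ 2 := orderOf_dvd_of_pow_eq_one (by rw [pow_two]; exact hsq a hconj')
    have := h7.trans h2
    norm_num at this
  have hinvN : ∀ a, IsConj z a → a ∈ N → a ∉ centralizer ((D.P : Subgroup G) : Set G) →
      ∀ p ∈ (D.P : Subgroup G), a * p * a⁻¹ = p⁻¹ := fun a ha haN haC p hp =>
    inv_of_not_cent D.card_P (hsq a ha) haN haC hp
  obtain ⟨hmz, hmN, hmC⟩ := hgoodX m hmX hmL
  obtain ⟨hm'z, hm'N, hm'C⟩ := hgoodX _ hm'X hm'L
  have hPK : ∀ w ∈ (D.P : Subgroup G), w ∈ K → w = 1 := by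
    intro w hw hwK
    have h1 := Subgroup.orderOf_dvd_natCard _ hw
    rw [D.card_P] at h1
    rcases (Nat.dvd_prime (by norm_num)).1 h1 with h2 | h2
    · exact orderOf_eq_one_iff.1 h2
    · exact absurd h2.symm.dvd ((hK w).1 hwK).2
  obtain ⟨t, htz, htN, htC, ht1, ht2⟩ : ∃ t, IsConj z t ∧ t ∈ N ∧ t ∉ centralizer ((D.P : Subgroup G) : Set G) ∧
      t * m⁻¹ ∉ (D.P : Subgroup G) ∧ t * (m * z)⁻¹ ∉ (D.P : Subgroup G) := by
    by_contra hno
    push Not at hno
    have hNC : N ≤ C := by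
      intro g hg
      have hcl' : ∀ a, IsConj z a → a ∈ N → a ∉ centralizer ((D.P : Subgroup G) : Set G) →
          g * a * g⁻¹ * m⁻¹ ∈ (D.P : Subgroup G) ∨ g * a * g⁻¹ * (m * z)⁻¹ ∈ (D.P : Subgroup G) := by
        intro a ha haN haC
        by_cases hh : g * a * g⁻¹ * m⁻¹ ∈ (D.P : Subgroup G)
        · exact Or.inl hh
        refine Or.inr (hno _ (ha.trans (isConj_iff.2 ⟨g, rfl⟩)) (N.mul_mem (N.mul_mem hg haN) (N.inv_mem hg))
          (fun hc => haC (mem_centralizer_iff.2 fun p hp => ?_)) hh)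
        have h1 := mem_centralizer_iff.1 hc _ ((mem_normalizer_iff.1 hg p).1 hp)
        calc p * a = g⁻¹ * (g * p * g⁻¹ * (g * a * g⁻¹)) * g := by group
          _ = g⁻¹ * (g * a * g⁻¹ * (g * p * g⁻¹)) * g := by rw [h1]
          _ = a * p := by group
      have hgz : g * z * g⁻¹ ∈ K := (mem_normalizer_iff.1 (hNK hg) z).1 hzK
      have hm2 := hsq m hmz
      have hkey : ∀ (u a v b : G), (∀ p ∈ (D.P : Subgroup G), a * p * a⁻¹ = p⁻¹) →
          u * a⁻¹ ∈ (D.P : Subgroup G) → v * b⁻¹ ∈ (D.P : Subgroup G) → u * v * (a * b)⁻¹ ∈ (D.P : Subgroup G) := by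
        intro u a v b hainv hu hv
        have e : u * v * (a * b)⁻¹ = u * a⁻¹ * (a * (v * b⁻¹) * a⁻¹) := by group
        rw [e, hainv _ hv]
        exact (D.P : Subgroup G).mul_mem hu ((D.P : Subgroup G).inv_mem hv)
      have huv : g * m * g⁻¹ * (g * (m * z) * g⁻¹) = g * z * g⁻¹ := by
        calc g * m * g⁻¹ * (g * (m * z) * g⁻¹) = g * (m * m) * z * g⁻¹ := by group
          _ = g * z * g⁻¹ := by rw [hm2, mul_one]
      have hinvm := hinvN m hmz hmN hmC
      have hinvm' := hinvN _ hm'z hm'N hm'C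
      refine mem_centralizer_singleton_iff.2 (mul_inv_eq_iff_eq_mul.1 ?_)
      have hsame : ∀ a, a * a = 1 → g * z * g⁻¹ * (a * a)⁻¹ ∈ (D.P : Subgroup G) → False := fun a ha hh => by
        rw [ha, inv_one, mul_one] at hh
        exact hz1 (conj_eq_one_iff.1 (hPK _ hh hgz))
      have hdiff : g * z * g⁻¹ * z⁻¹ ∈ (D.P : Subgroup G) → g * z * g⁻¹ = z := fun hh =>
        mul_inv_eq_one.1 (hPK _ hh (K.mul_mem hgz (K.inv_mem hzK)))
      rcases hcl' m hmz hmN hmC with hu | hu <;> rcases hcl' _ hm'z hm'N hm'C with hv | hv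
      · exact (hsame m hm2 (huv ▸ hkey _ _ _ _ hinvm hu hv)).elim
      · refine hdiff ?_
        have h1 := huv ▸ hkey _ _ _ _ hinvm hu hv
        rwa [← mul_assoc m m z, hm2, one_mul] at h1
      · refine hdiff ?_
        have h1 := huv ▸ hkey _ _ _ _ hinvm' hu hv
        rwa [mul_assoc m z m, hXc' z hzX m hmX, ← mul_assoc, hm2, one_mul] at h1
      · exact (hsame _ (hsq _ hm'z) (huv ▸ hkey _ _ _ _ hinvm' hu hv)).elim
    have := card_le_of_le (le_inf hNC le_rfl : N ≤ C ⊓ N)
    omega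
  -- twenty-one inverters
  let a3 : Fin 3 → G := ![m, m * z, t]
  have ha3 : ∀ i, IsConj z (a3 i) ∧ a3 i * x * (a3 i)⁻¹ = x⁻¹ := by
    intro i
    fin_cases i
    · exact ⟨hmz, hinvN m hmz hmN hmC x hx⟩
    · exact ⟨hm'z, hinvN _ hm'z hm'N hm'C x hx⟩
    · exact ⟨htz, hinvN t htz htN htC x hx⟩
  have hsep : ∀ i i', a3 i * (a3 i')⁻¹ ∈ (D.P : Subgroup G) → i = i' := by
    have hsym : ∀ a b : G, a * b⁻¹ ∈ (D.P : Subgroup G) → b * a⁻¹ ∈ (D.P : Subgroup G) := fun a b hab => by
      simpa using (D.P : Subgroup G).inv_mem hab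
    have hmm' : m * (m * z)⁻¹ ∈ (D.P : Subgroup G) → False := fun hh => by
      rw [mul_inv_rev, inv_eq_of_mul_eq_one_right hz2, inv_eq_of_mul_eq_one_right (hsq m hmz), ← mul_assoc,
        hXc' m hmX z hzX, mul_assoc, hsq m hmz, mul_one] at hh
      exact hz1 (hPK _ hh hzK)
    intro i i' hii
    fin_cases i <;> fin_cases i'
    · rfl
    · exact (hmm' hii).elim
    · exact (ht1 (hsym _ _ hii)).elim
    · exact (hmm' (hsym _ _ hii)).elim
    · rfl
    · exact (ht2 (hsym _ _ hii)).elim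
    · exact (ht1 hii).elim
    · exact (ht2 hii).elim
    · rfl
  have hshift : ∀ i (n : ℕ), x ^ n * a3 i * (x ^ n)⁻¹ = x ^ (2 * n) * a3 i := by
    intro i n
    have h1 : a3 i * (x ^ n)⁻¹ * (a3 i)⁻¹ = x ^ n := by
      rw [← inv_pow, ← conj_pow]
      congr 1
      calc a3 i * x⁻¹ * (a3 i)⁻¹ = (a3 i * x * (a3 i)⁻¹)⁻¹ := by group
        _ = x := by rw [(ha3 i).2, inv_inv]
    calc x ^ n * a3 i * (x ^ n)⁻¹ = x ^ n * (a3 i * (x ^ n)⁻¹ * (a3 i)⁻¹) * a3 i := by group
      _ = x ^ (2 * n) * a3 i := by rw [h1, ← pow_add, two_mul]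
  have h21 : 21 ≤ (inverters z x).card := by
    have hsub : (Finset.univ : Finset (Fin 3 × Fin 7)).image
        (fun q => x ^ (q.2 : ℕ) * a3 q.1 * (x ^ (q.2 : ℕ))⁻¹) ⊆ inverters z x := by
      intro w hw
      obtain ⟨q, -, rfl⟩ := Finset.mem_image.1 hw
      refine mem_inverters.2 ⟨(ha3 q.1).1.trans (isConj_iff.2 ⟨x ^ (q.2 : ℕ), rfl⟩), ?_⟩
      have hc := (Commute.refl x).pow_left (q.2 : ℕ)
      calc x ^ (q.2 : ℕ) * a3 q.1 * (x ^ (q.2 : ℕ))⁻¹ * x * (x ^ (q.2 : ℕ) * a3 q.1 * (x ^ (q.2 : ℕ))⁻¹)⁻¹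
          = x ^ (q.2 : ℕ) * (a3 q.1 * ((x ^ (q.2 : ℕ))⁻¹ * x * x ^ (q.2 : ℕ)) * (a3 q.1)⁻¹) *
              (x ^ (q.2 : ℕ))⁻¹ := by group
        _ = x⁻¹ := by rw [mul_assoc _ x, ← hc.eq, inv_mul_cancel_left, (ha3 q.1).2, hc.inv_right.eq,
              mul_inv_cancel_right]
    refine le_trans ?_ (Finset.card_le_card hsub)
    rw [Finset.card_image_of_injective, Finset.card_univ, Fintype.card_prod, Fintype.card_fin, Fintype.card_fin]
    rintro ⟨i, n⟩ ⟨i', n'⟩ he
    simp only [hshift] at he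
    have h1 : a3 i * (a3 i')⁻¹ ∈ (D.P : Subgroup G) := by
      have e : a3 i * (a3 i')⁻¹ = (x ^ (2 * (n : ℕ)))⁻¹ * x ^ (2 * (n' : ℕ)) := by
        rw [eq_inv_mul_iff_mul_eq, ← mul_assoc, he, mul_inv_cancel_right]
      rw [e]
      exact (D.P : Subgroup G).mul_mem ((D.P : Subgroup G).inv_mem (pow_mem hx _)) (pow_mem hx _)
    obtain rfl := hsep _ _ h1
    have h2 := pow_eq_pow_iff_modEq.1 (mul_right_cancel he)
    rw [hxo] at h2
    unfold Nat.ModEq at h2
    exact Prod.ext rfl ((by decide : ∀ a b : Fin 7, 2 * (a : ℕ) % 7 = 2 * (b : ℕ) % 7 → a = b) n n' h2)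
  exact seven_bound h D11 D hx (fun h1 => by rw [h1, orderOf_one] at hxo; norm_num at hxo) hzo hC2 h21

/-- The data at the prime seven. -/
theorem exists_seven (h : Nat.card G = 443520) : Nonempty (PData G 7 3 1) := by
  obtain ⟨D11⟩ := exists_eleven (G := G) h
  obtain ⟨n, e, c, hn, hn1, hn2, he2, hep, hpc, ⟨D⟩⟩ :=
    exists_pdata (noncomm h) 7 63360 (by norm_num) (by rw [h]) (by norm_num)
  have hposs := D.possible'_eq h (extra := resEleven) (by norm_num) hep he2 hpc (fun χ _ => res_all D11 χ)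
  have hel : e ∈ [2, 3, 6] := by
    have := Nat.le_of_dvd (by norm_num) hep
    interval_cases e <;> simp_all
  have hn' : n = 7 * (n / 7) + 1 := by omega
  have hle := Nat.le_of_dvd (by norm_num) (⟨e * c, hn.symm⟩ : n ∣ 63360)
  obtain ⟨j, hj⟩ : ∃ j, n / 7 = j := ⟨_, rfl⟩
  rw [hj] at hn'
  subst hn'
  have hjj : j = 96 * (j / 96) + j % 96 := by omega
  have hmem := seven_n' (j / 96) (by omega) (j % 96) (by omega)
    (by rw [← hjj]; exact Nat.mod_eq_zero_of_dvd ⟨_, hn.symm⟩)
  rw [← hjj] at hmem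
  have hmem' : j ∈ [1, 2, 3, 5, 9, 14, 17, 25, 41, 47, 113, 137, 201, 377, 905, 3017] := by
    simp only [List.mem_cons, List.not_mem_nil, or_false] at hmem ⊢
    omega
  have hd : (7 * j + 1) * e ∣ 63360 := ⟨c, by rw [← hn]; ring⟩
  have hc : 63360 / ((7 * j + 1) * e) = c := by
    rw [show 63360 = (7 * j + 1) * e * c by rw [← hn]; ring,
      Nat.mul_div_cancel_left _ (Nat.mul_pos (by omega) (by omega))]
  have h11c : c % 11 ≠ 0 := by
    intro h0
    obtain ⟨y', hy'⟩ := exists_prime_orderOf_dvd_card'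
      (G := centralizer ((D.P : Subgroup G) : Set G)) 11 (by
        rw [D.cent_P]; exact (Nat.dvd_of_mod_eq_zero h0).mul_left 7)
    obtain ⟨x, hx, hxo⟩ := D.exists_elt
    have h1 := D11.cent_eq_one (x := (y' : G)) (y := x) (by rw [Subgroup.orderOf_coe, hy']) rfl
      ((mem_centralizer_iff.1 y'.2 x hx).symm) (by rw [hxo]; norm_num)
    rw [h1, orderOf_one] at hxo
    norm_num at hxo
  have hsmall : ∀ (hN : e * (7 * c) = 168) (hc : c = 8 ∨ c = 4), False := by
    intro hN hc
    obtain ⟨K, hK, hKc, hNK⟩ := D.exists_K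
    have hK1 : K ≠ ⊥ := fun hb => by
      rw [hb, card_bot] at hKc
      omega
    have hlt : Nat.card K < Nat.card G := by rw [hKc, h]; omega
    have htop := normalizer_ne_top hK1 hlt
    have h11 := two_norm_eleven D11 hK1 (by rw [hKc]; rcases hc with rfl | rfl <;> norm_num)
    have hgo : 16 ∣ Nat.card (normalizer (K : Set G)) → False := fun h16 => by
      have hH := card_above h D hN hc htop hNK h11 h16
      rcases hc with h8 | h4
      · exact seven_not_8 D h D11 hN h8 hK hKc hNK hH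
      · exact seven_not_4 D h D11 hN h4 hK hKc hNK hH
    rcases hc with rfl | rfl
    · obtain ⟨V, hV, hKV⟩ := Sylow.exists_subgroup_card_pow_succ (G := G) (p := 2) (n := 3) (H := K)
        (by rw [h]; norm_num) (by rw [hKc]; norm_num)
      haveI : (K.subgroupOf V).Normal := normal_of_index_eq_two (by
        have h1 := card_mul_index (K.subgroupOf V)
        rw [Nat.card_congr (subgroupOfEquivOfLe hKV).toEquiv, hKc, hV] at h1
        omega)
      exact hgo (dvd_trans (by rw [hV]; norm_num)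
        (card_dvd_of_le ((normal_subgroupOf_iff_le_normalizer hKV).1 inferInstance)))
    · have he6 : e = 6 := by omega
      subst he6
      exact hgo (seven_four_sixteen h D11 D hK hKc hNK)
  rcases seven_tests j hmem' e hel (Nat.mod_eq_zero_of_dvd hd) (by rw [hc]; exact h11c) (by rw [hc]; exact hposs)
    with ⟨rfl, rfl | rfl⟩ | ⟨rfl, rfl | rfl⟩ | ⟨rfl, rfl⟩
  · exact (seven_not_64 D h D11 rfl (by omega)).elim
  · exact (seven_not_32 D h D11 rfl (by omega)).elim
  · exact (hsmall (by omega) (Or.inl (by omega))).elim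
  · exact (hsmall (by omega) (Or.inr (by omega))).elim
  · obtain rfl : c = 1 := by omega
    exact ⟨D⟩

end CfsgLib.Char.MTwentyTwoOrder
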