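import Mathlib

/-!
# Simple groups of order 443520: the facts passed from the character table to the local endgame
-/

set_option autoImplicit false

namespace CfsgLib.Char.MTwentyTwoOrder

universe u

/-- What the character table gives for a simple group of order 443520. -/
structure Facts (G : Type u) [Group G] [Finite G] : Prop where
  card_eq : Nat.card G = 443520
  invol_conj : ∀ t s : G, orderOf t = 2 → orderOf s = 2 → IsConj t s
  cent_invol : ∀ t : G, orderOf t = 2 → Nat.card (Subgroup.centralizer ({t} : Set G)) = 384
  three_conj : ∀ a b : G, orderOf a = 3 → orderOf b = 3 → IsConj a b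
  cent_three : ∀ a : G, orderOf a = 3 → Nat.card (Subgroup.centralizer ({a} : Set G)) = 36
  cent_five : ∀ a : G, orderOf a = 5 → Nat.card (Subgroup.centralizer ({a} : Set G)) = 5
  cent_seven : ∀ a : G, orderOf a = 7 → Nat.card (Subgroup.centralizer ({a} : Set G)) = 7
  cent_eleven : ∀ a : G, orderOf a = 11 → Nat.card (Subgroup.centralizer ({a} : Set G)) = 11
  norm_five : ∀ P : Subgroup G, Nat.card P = 5 → Nat.card (Subgroup.normalizer (P : Set G)) = 20
  norm_eleven : ∀ P : Subgroup G, Nat.card P = 11 → Nat.card (Subgroup.normalizer (P : Set G)) = 55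
  rank_seventy_seven : ∀ H : Subgroup G, H.index = 77 →
    Nat.card (MulAction.orbitRel.Quotient ↥H (G ⧸ H)) = 3

end CfsgLib.Char.MTwentyTwoOrder
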