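import Cfsg.Agent.Lib.Char.MTwentyTwoOrder.Three
import Cfsg.Agent.Lib.Char.MTwentyTwoOrder.Facts
import Cfsg.Agent.Lib.Char.Perm
import Cfsg.Agent.Lib.Char.PrimeDegreeTwoP.DoubleSetup

/-!
# Simple groups of order 443520: the facts for the local endgame
-/

set_option autoImplicit false
set_option linter.all false

open Cfsg CfsgLib.Perm.PrimeBlock CfsgLib.Block Finset CfsgLib.Char.MEleven.Order CfsgLib.Char.MTwelveOrder
  MulAction

namespace CfsgLib.Char.MTwentyTwoOrder

universe u

variable {G : Type u} [Group G] [Fintype G] [IsSimpleGroup G]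

section Norm

variable {p e c : ℕ} [hp : Fact p.Prime] (D : PData G p e c)

include D in
/-- The normalizer order of a subgroup of order `p`. -/
theorem PData.norm_of_card {P : Subgroup G} (hP : Nat.card P = p) :
    Nat.card (Subgroup.normalizer (P : Set G)) = e * (p * c) := by
  obtain ⟨Q, hQ⟩ := (IsPGroup.of_card (n := 1) (by rw [hP, pow_one]) : IsPGroup p P).exists_le_sylow
  have hQc : Nat.card (Q : Subgroup G) = p := by
    rw [Sylow.card_eq_multiplicity, ← Sylow.card_eq_multiplicity D.P, D.card_P]
  have hPQ : P = (Q : Subgroup G) := Subgroup.eq_of_le_of_card_ge hQ (by rw [hQc, hP])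
  subst hPQ
  rw [← D.norm_P]
  have h1 := Subgroup.card_mul_index (Subgroup.normalizer ((Q : Subgroup G) : Set G))
  have h2 := Subgroup.card_mul_index (Subgroup.normalizer ((D.P : Subgroup G) : Set G))
  rw [show (Subgroup.normalizer ((Q : Subgroup G) : Set G)).index = Nat.card (Sylow p G) from
    (Sylow.card_eq_index_normalizer Q).symm] at h1
  rw [show (Subgroup.normalizer ((D.P : Subgroup G) : Set G)).index = Nat.card (Sylow p G) from
    (Sylow.card_eq_index_normalizer D.P).symm] at h2
  exact Nat.eq_of_mul_eq_mul_right Nat.card_pos (h1.trans h2.symm)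

end Norm

variable [Fintype (IrrCharacter G)] {D11 : PData G 11 5 1} {D7 : PData G 7 3 1} {D5 : PData G 5 4 1}

local instance fact_five_ft : Fact (Nat.Prime 5) := ⟨by norm_num⟩
local instance fact_seven_ft : Fact (Nat.Prime 7) := ⟨by norm_num⟩
local instance fact_eleven_ft : Fact (Nat.Prime 11) := ⟨by norm_num⟩

theorem Table.invol_conj (T : Table D11 D7 D5) (h : Nat.card G = 443520) {t s : G} (ht : orderOf t = 2)
    (hs : orderOf s = 2) : IsConj t s := by
  classical
  by_contra hn
  have e := sum_iv_mul hn (fun χ => val_invol (noncomm h) χ ht) (fun χ => val_invol (noncomm h) χ hs)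
  rw [Finset.sum_congr rfl fun χ _ => show iv χ t * iv χ s = tval (dg χ) * tval (dg χ) by
    rw [(T.invol t ht).1 χ, (T.invol s hs).1 χ], T.sum_deg fun d => tval d * tval d] at e
  simp [degList, tval] at e

theorem deg_cases : ∀ d ∈ degList, d = 1 ∨ d = 21 ∨ d = 45 ∨ d = 55 ∨ 76 < d := by decide +kernel

/-- The action on the cosets of a subgroup of index 77 has rank three. -/
theorem Table.rank (T : Table D11 D7 D5) (hG : Nat.card G = 443520) (H : Subgroup G) (hH : H.index = 77) :
    Nat.card (orbitRel.Quotient ↥H (G ⧸ H)) = 3 := by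
  classical
  have hcard : Nat.card (G ⧸ H) = 77 := hH
  suffices hgoal : Nat.card (orbitRel.Quotient G ((G ⧸ H) × (G ⧸ H))) = 3 by
    rw [CfsgLib.Char.PrimeDegreeTwoP.card_orbits_prod ((1 : G) : G ⧸ H)] at hgoal
    have key : ∀ K : Subgroup G, K = H →
        Nat.card (orbitRel.Quotient ↥K (G ⧸ H)) = Nat.card (orbitRel.Quotient ↥H (G ⧸ H)) := fun K hK => by
      subst hK; rfl
    exact (key _ (MulAction.stabilizer_quotient H)).symm.trans hgoal
  set π : G → ℂ := permChar G (G ⧸ H) with hπ
  have hπ1 : π 1 = 77 := by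
    rw [hπ, permChar, Nat.card_congr (Equiv.subtypeUnivEquiv fun x => show x ∈ fixedBy (G ⧸ H) (1 : G) from
      one_smul G x), hcard]
    norm_num
  have hπo : classInner π (fun _ => 1) = 1 := by
    rw [hπ, classInner_permChar_one]
    haveI : Subsingleton (orbitRel.Quotient G (G ⧸ H)) :=
      MulAction.pretransitive_iff_subsingleton_quotient G (G ⧸ H) |>.1 inferInstance
    haveI : Nonempty (orbitRel.Quotient G (G ⧸ H)) := ⟨Quotient.mk _ ((1 : G) : G ⧸ H)⟩
    rw [Nat.card_unique, Nat.cast_one]
  have hcl : IsClassFunction G π := isClassFunction_of_isCharacter (isCharacter_permChar (G ⧸ H))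
  choose n hn using fun χ : IrrCharacter G => classInner_char_irr_nat (isCharacter_permChar (G := G) (G ⧸ H)) χ
  rw [← hπ] at hn
  have hn1 : n (oneChar G) = 1 := by
    have h1 := hn (oneChar G)
    rw [show ((oneChar G : IrrCharacter G) : G → ℂ) = fun _ => 1 from rfl, hπo] at h1
    exact_mod_cast h1.symm
  have hdeg : ∑ χ : IrrCharacter G, n χ * dg χ = 77 := by
    have e := congrFun (classFun_expand hcl) 1
    rw [hπ1, Finset.sum_apply] at e
    simp only [Pi.smul_apply, smul_eq_mul, hn, val_one] at e
    exact_mod_cast e.symm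
  have hnorm : classInner π π = ((∑ χ : IrrCharacter G, n χ * n χ : ℕ) : ℂ) := by
    conv_lhs => arg 2; rw [classFun_expand hcl]
    rw [classInner_sum_right]
    push_cast
    refine Finset.sum_congr rfl fun χ _ => ?_
    rw [classInner_smul_right, hn, map_natCast]
  -- the trivial character is the only one of degree one
  set N : ℕ → ℕ := fun d => ∑ χ : IrrCharacter G, if dg χ = d then n χ else 0 with hN
  have hNle : ∀ χ, n χ ≤ N (dg χ) := fun χ => by
    refine le_trans (le_of_eq (if_pos rfl).symm) (Finset.single_le_sum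
      (f := fun ψ => if dg ψ = dg χ then n ψ else 0) (fun _ _ => Nat.zero_le _) (Finset.mem_univ χ))
  have hbig : ∀ χ, 76 < dg χ → n χ = 0 := fun χ hd => by
    by_contra h0
    have hne : χ ≠ oneChar G := fun he => by rw [he, dg_one] at hd; omega
    have h1 := Finset.sum_le_sum_of_subset (f := fun χ => n χ * dg χ) (Finset.subset_univ {χ, oneChar G})
    rw [hdeg, Finset.sum_pair hne, hn1, dg_one] at h1
    have h2 := Nat.mul_le_mul_right (dg χ) (Nat.one_le_iff_ne_zero.2 h0)
    omega
  have hsplit : ∀ χ, n χ * dg χ = 1 * (if dg χ = 1 then n χ else 0) + 21 * (if dg χ = 21 then n χ else 0) +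
      45 * (if dg χ = 45 then n χ else 0) + 55 * (if dg χ = 55 then n χ else 0) := fun χ => by
    rcases deg_cases _ (T.dg_mem χ) with e | e | e | e | e
    · rw [e]; simp
    · rw [e]; simp [mul_comm]
    · rw [e]; simp [mul_comm]
    · rw [e]; simp [mul_comm]
    · rw [hbig χ e]; simp
  have hN1 : N 1 = 1 := by
    rw [hN]
    simp only
    rw [Finset.sum_eq_single (oneChar G)]
    · rw [if_pos dg_one, hn1]
    · exact fun χ _ hne => if_neg fun hd => hne (linear_trivial (noncomm hG) χ hd)
    · exact fun h => absurd (Finset.mem_univ _) h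
  have hd' := hdeg
  rw [Finset.sum_congr rfl fun χ _ => hsplit χ, Finset.sum_add_distrib, Finset.sum_add_distrib,
    Finset.sum_add_distrib, ← Finset.mul_sum, ← Finset.mul_sum, ← Finset.mul_sum, ← Finset.mul_sum] at hd'
  change 1 * N 1 + 21 * N 21 + 45 * N 45 + 55 * N 55 = 77 at hd'
  obtain ⟨h21, h45, h55⟩ : N 21 = 1 ∧ N 45 = 0 ∧ N 55 = 1 := by omega
  have hsq : ∀ χ, n χ * n χ = (if dg χ = 1 then n χ else 0) + (if dg χ = 21 then n χ else 0) +
      (if dg χ = 55 then n χ else 0) := fun χ => by
    have := hNle χ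
    rcases deg_cases _ (T.dg_mem χ) with e | e | e | e | e
    · rw [e, hN1] at this; rcases Nat.le_one_iff_eq_zero_or_eq_one.1 this with h0 | h0 <;> simp [h0, e]
    · rw [e, h21] at this; rcases Nat.le_one_iff_eq_zero_or_eq_one.1 this with h0 | h0 <;> simp [h0, e]
    · rw [e, h45] at this; simp [Nat.le_zero.1 this]
    · rw [e, h55] at this; rcases Nat.le_one_iff_eq_zero_or_eq_one.1 this with h0 | h0 <;> simp [h0, e]
    · simp [hbig χ e]
  have h3 : ∑ χ : IrrCharacter G, n χ * n χ = 3 := by
    rw [Finset.sum_congr rfl fun χ _ => hsq χ, Finset.sum_add_distrib, Finset.sum_add_distrib]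
    change N 1 + N 21 + N 55 = 3
    omega
  rw [h3, hπ, classInner_permChar_self] at hnorm
  exact_mod_cast hnorm

/-- The facts. -/
theorem exists_facts (h : Nat.card G = 443520) : Facts G := by
  classical
  obtain ⟨D11, D7, D5, T⟩ := exists_table h
  exact
    { card_eq := h
      invol_conj := fun t s ht hs => T.invol_conj h ht hs
      cent_invol := fun t ht => (T.invol t ht).2
      three_conj := fun a b ha hb => T.three_conj h ha hb
      cent_three := fun a ha => T.cent_three h ha
      cent_five := fun a ha => by rw [D5.cent_of_order ha]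
      cent_seven := fun a ha => by rw [D7.cent_of_order ha]
      cent_eleven := fun a ha => by rw [D11.cent_of_order ha]
      norm_five := fun P hP => by rw [D5.norm_of_card hP]
      norm_eleven := fun P hP => by rw [D11.norm_of_card hP]
      rank_seventy_seven := fun H hH => T.rank h H hH }

end CfsgLib.Char.MTwentyTwoOrder
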