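import Cfsg.Agent.Lib.Char.MTwentyTwoOrder.UnionBlocks

/-!
# Simple groups of order 443520: the column of an involution
-/

set_option autoImplicit false
set_option linter.all false

open Cfsg CfsgLib.Perm.PrimeBlock CfsgLib.Block Finset CfsgLib.Char.MEleven.Order CfsgLib.Char.MTwelveOrder

namespace CfsgLib.Char.MTwentyTwoOrder

universe u

variable {G : Type u} [Group G] [Fintype G] [IsSimpleGroup G]

section General

variable {p e c : ℕ} [hp : Fact p.Prime] (D : PData G p e c)

/-- The signed degrees and values of the block characters. -/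
noncomputable def PData.sig (u : G) (X' : List (IrrCharacter G)) : List (ℤ × ℤ) :=
  X'.map fun χ => (sd D.S χ, sv D.S u χ)

theorem PData.mem_X {X' : List (IrrCharacter G)} (hX' : List.Perm X' D.S.X.toList) {χ : IrrCharacter G}
    (h : χ ∈ X') : χ ∈ D.S.X := Finset.mem_toList.1 (hX'.mem_iff.1 h)

theorem PData.X_ne_one {χ : IrrCharacter G} (h : χ ∈ D.S.X) : χ ≠ oneChar G :=
  fun he => D.S.one_notMem_X (he ▸ h)

theorem PData.absPair_eq {χ : IrrCharacter G} (hχ : χ ∈ D.S.X) (u : G) :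
    absPair (sd D.S χ, sv D.S u χ) = (dg χ, iv χ u) := by
  have h0 := dg_pos χ
  rcases D.S.sign_X χ hχ with hs | hs <;> simp [absPair, sd, sv, hs, h0]

/-- The values on a character of degree prime to `q` are known from the block at `q`. -/
theorem PData.known_of {q e' c' : ℕ} [Fact q.Prime] (D' : PData G q e' c') (hc' : c' = 1) {u : G}
    {K : List (ℕ × ℤ)} (hK : D'.blk.val.map (fun χ => (dg χ, iv χ u)) = ↑K) {χ : IrrCharacter G}
    (hχ : χ ∈ D.S.X) : known q K (sd D.S χ, sv D.S u χ) = true := by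
  by_cases hd : q ∣ dg χ
  · simp [known, nd, natAbs_sd D.S hχ, Nat.mod_eq_zero_of_dvd hd]
  · have hm : (dg χ, iv χ u) ∈ (↑K : Multiset (ℕ × ℤ)) :=
      hK ▸ Multiset.mem_map_of_mem (fun χ => (dg χ, iv χ u)) (D'.mem_blk_of hc' (D.X_ne_one hχ) hd)
    simp [known, D.absPair_eq hχ, List.contains_iff_mem, Multiset.mem_coe.1 hm]

/-- The part of the block prime to `q` lies in the block at `q`. -/
theorem PData.sub_ndq {q e' c' : ℕ} [Fact q.Prime] (D' : PData G q e' c') (hc' : c' = 1) {u : G}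
    {la lb : List (ℕ × ℤ)} (ha : D.blk.val.map (fun χ => (dg χ, iv χ u)) = ↑la)
    (hb : D'.blk.val.map (fun χ => (dg χ, iv χ u)) = ↑lb) : subBag (ndq q) la lb = true := by
  classical
  exact subBag_of (fun χ => (dg χ, iv χ u)) (ndq q) (fun χ hχ h7 => D'.mem_blk_of hc' (D.blk_ne_one hχ) fun hd => by
    simp [ndq, Nat.mod_eq_zero_of_dvd hd] at h7) ha hb

/-- The part of the degrees prime to `q` lies in the block at `q`. -/
theorem PData.sub_nd {q e' c' : ℕ} [Fact q.Prime] (D' : PData G q e' c') (hc' : c' = 1)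
    {la lb : List ℕ} (ha : D.blk.val.map dg = ↑la) (hb : D'.blk.val.map dg = ↑lb) :
    subBag (nd q) la lb = true := by
  classical
  exact subBag_of dg (nd q) (fun χ hχ h7 => D'.mem_blk_of hc' (D.blk_ne_one hχ) fun hd => by
    simp [nd, Nat.mod_eq_zero_of_dvd hd] at h7) ha hb

include D in
/-- The inverters lie in one coset of the centralizer. -/
theorem PData.inverters_le {x : G} (hx : orderOf x = p) (u : G) : (inverters u x).card ≤ p * c := by
  classical
  rcases (inverters u x).eq_empty_or_nonempty with he | ⟨a, ha⟩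
  · simp [he]
  rw [← D.cent_of_order hx, ← Fintype.card_coe, ← Nat.card_eq_fintype_card]
  have hmem : ∀ b : inverters u x, a⁻¹ * (b : G) ∈ Subgroup.centralizer ({x} : Set G) := by
    intro b
    rw [Subgroup.mem_centralizer_singleton_iff, ← mul_inv_eq_iff_eq_mul]
    have h1 := (mem_inverters.1 ha).2
    have h2 := (mem_inverters.1 b.2).2
    calc a⁻¹ * (b : G) * x * (a⁻¹ * (b : G))⁻¹ = a⁻¹ * ((b : G) * x * (b : G)⁻¹) * a := by group
      _ = a⁻¹ * (a * x * a⁻¹) * a := by rw [h2, h1]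
      _ = x := by group
  exact Nat.card_le_card_of_injective (fun b => (⟨_, hmem b⟩ : Subgroup.centralizer ({x} : Set G)))
    fun b b' e => Subtype.ext (mul_left_cancel (congrArg Subtype.val e))

include D in
/-- An element with trivial centralizer part is not centralized by elements of order `p`. -/
theorem PData.not_dvd_cent (hc : c = 1) {u : G} (hu1 : u ≠ 1) (hu : ¬ p ∣ orderOf u) :
    ¬ p ∣ Nat.card (Subgroup.centralizer ({u} : Set G)) := fun hd => by
  obtain ⟨y, hy⟩ := exists_prime_orderOf_dvd_card' (G := Subgroup.centralizer ({u} : Set G)) p hd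
  exact hu1 (D.cent_eq_one (x := (y : G)) (by rw [Subgroup.orderOf_coe, hy]) hc
    (Subgroup.mem_centralizer_singleton_iff.1 y.2) hu)

end General

local instance fact_five_col : Fact (Nat.Prime 5) := ⟨by norm_num⟩
local instance fact_seven_col : Fact (Nat.Prime 7) := ⟨by norm_num⟩
local instance fact_eleven_col : Fact (Nat.Prime 11) := ⟨by norm_num⟩

/-- The equation at five passes the test. -/
theorem sqTest_mem (h : Nat.card G = 443520) {c : ℕ} (D5 : PData G 5 4 c) {u : G} (hu : orderOf u = 2)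
    {X5 : List (IrrCharacter G)} (hX5 : List.Perm X5 D5.S.X.toList) :
    sqTest c (Nat.card (Subgroup.centralizer ({u} : Set G))) (D5.sig u X5) = true := by
  classical
  obtain ⟨x, hx, hxo⟩ := D5.exists_elt
  have hx1 : x ≠ 1 := fun h1 => by rw [h1, orderOf_one] at hxo; norm_num at hxo
  have h1 := exists_sq (by norm_num) D5.P D5.card_P D5.cent_P hx hx1 hu
  obtain ⟨a0, ha0⟩ := exists_sq' (by norm_num) D5.P D5.card_P D5.cent_P hx hx1 hu
  have hle := D5.inverters_le hxo u
  have hq := D5.sq_eq (noncomm h) (by norm_num) (by norm_num) (by norm_num) hx hx1 hu hX5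
  rw [ha0] at h1
  have hk : 5 * a0 ≤ 5 * c := (Nat.mul_self_inj.1
    (show 5 * a0 * (5 * a0) = (inverters u x).card * (inverters u x).card by rw [← h1]; ring)).le.trans hle
  simp only [sqTest, List.any_eq_true, List.mem_range, beq_iff_eq]
  refine ⟨a0, by omega, ?_⟩
  rw [ha0, h] at hq
  simp only [PData.sig]
  push_cast at hq ⊢
  linear_combination hq

theorem divOne_eq : (List.range 1153).filter (fun C => 1152 % C == 0) = [1, 2, 3, 4, 6, 8, 9, 12, 16, 18, 24, 32,
    36, 48, 64, 72, 96, 128, 144, 192, 288, 384, 576, 1152] := by decide +kernel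

section Cent

variable (h : Nat.card G = 443520) (D11 : PData G 11 5 1) (D7 : PData G 7 3 1)

include h D11 D7 in
/-- The centralizer order of an element of order prime to 77. -/
theorem cent_dvd_5760 {u : G} (hu1 : u ≠ 1) (h7 : ¬ 7 ∣ orderOf u) (h11 : ¬ 11 ∣ orderOf u) :
    Nat.card (Subgroup.centralizer ({u} : Set G)) ∣ 5760 := by
  have hd : Nat.card (Subgroup.centralizer ({u} : Set G)) ∣ 5760 * (7 * 11) := by
    have := Subgroup.card_subgroup_dvd_card (Subgroup.centralizer ({u} : Set G))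
    rw [h] at this
    norm_num
    exact this
  refine (Nat.Coprime.dvd_of_dvd_mul_right ?_ hd)
  exact Nat.Coprime.mul_right ((Nat.Prime.coprime_iff_not_dvd (by norm_num)).2 (D7.not_dvd_cent rfl hu1 h7)).symm
    ((Nat.Prime.coprime_iff_not_dvd (by norm_num)).2 (D11.not_dvd_cent rfl hu1 h11)).symm

end Cent

/-- An element of order two is regular for odd primes. -/
theorem reg_two {u : G} (hu : orderOf u = 2) {p : ℕ} (hp : p.Prime) (hp2 : p ≠ 2) : ¬ p ∣ orderOf u := by
  rw [hu]; exact fun hd => hp2 ((Nat.prime_dvd_prime_iff_eq hp Nat.prime_two).1 hd)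

theorem ne_one_two {u : G} (hu : orderOf u = 2) : u ≠ 1 := fun h => by rw [h, orderOf_one] at hu; omega

section Lists

variable {c : ℕ} (D11 : PData G 11 5 1) (D7 : PData G 7 3 1) (D5 : PData G 5 4 c)
  {X7 X5 X11 : List (IrrCharacter G)} (hX7 : List.Perm X7 D7.S.X.toList)
  (hX5 : List.Perm X5 D5.S.X.toList) (hX11 : List.Perm X11 D11.S.X.toList)
  (hG : ¬ IsMulCommutative G) {u : G} (hu : orderOf u = 2)

include hX7 hG hu in
theorem blk7_vals : D7.blk.val.map (fun χ => (dg χ, iv χ u)) = ↑(blockList 2 (D7.sig u X7)) :=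
  D7.blk_vals (by norm_num) (by norm_num) (reg_two hu (by norm_num) (by norm_num))
    (fun χ => val_invol hG χ hu) hX7

include hX5 hG hu in
theorem blk5_vals : D5.blk.val.map (fun χ => (dg χ, iv χ u)) = ↑(blockList 1 (D5.sig u X5)) :=
  D5.blk_vals (by norm_num) (by norm_num) (reg_two hu (by norm_num) (by norm_num))
    (fun χ => val_invol hG χ hu) hX5

include hX11 hG hu in
theorem blk11_vals : D11.blk.val.map (fun χ => (dg χ, iv χ u)) = ↑(blockList 2 (D11.sig u X11)) :=
  D11.blk_vals (by norm_num) (by norm_num) (reg_two hu (by norm_num) (by norm_num))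
    (fun χ => val_invol hG χ hu) hX11

include hX7 hX5 hG hu in
theorem fiveCol_mem : fiveCol (blockList 2 (D7.sig u X7)) (D5.sig u X5) = true := by
  obtain ⟨h1, h2⟩ := D5.exc_val hG (by norm_num) (by norm_num) (by norm_num) hu hX5
  simp only [fiveCol, Bool.and_eq_true, decide_eq_true_eq, beq_iff_eq, PData.sig]
  exact ⟨⟨decide_eq_true h1, h2⟩, D5.sub_ndq D7 rfl (blk5_vals D5 hX5 hG hu) (blk7_vals D7 hX7 hG hu)⟩

include hX7 hX5 hX11 hG hu in
theorem elevenCol_mem :
    elevenCol (blockList 2 (D7.sig u X7)) (blockList 1 (D5.sig u X5)) (D11.sig u X11) = true := by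
  simp only [elevenCol, Bool.and_eq_true]
  exact ⟨⟨⟨D11.zero_col hG (by norm_num) (by norm_num) (by norm_num) (by norm_num) (by norm_num) hu hX11,
    D11.sub_ndq D7 rfl (blk11_vals D11 hX11 hG hu) (blk7_vals D7 hX7 hG hu)⟩,
    D7.sub_ndq D11 rfl (blk7_vals D7 hX7 hG hu) (blk11_vals D11 hX11 hG hu)⟩,
    D5.sub_ndq D11 rfl (blk5_vals D5 hX5 hG hu) (blk11_vals D11 hX11 hG hu)⟩

include hX7 hX5 hX11 hG hu in
theorem sum_union (φ : ℕ × ℤ → ℤ) : ∑ χ ∈ unionBlk D11 D7 D5, φ (dg χ, iv χ u) =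
    ((unionList (blockList 2 (D7.sig u X7)) (blockList 1 (D5.sig u X5))
      (blockList 2 (D11.sig u X11))).map φ).sum :=
  sum_of_map (union_vals D11 D7 D5 hX7 hX5 hX11 hu hG) φ

include hX7 hX5 hX11 hG hu in
theorem sqSum_le : sqSum (unionList (blockList 2 (D7.sig u X7)) (blockList 1 (D5.sig u X5))
    (blockList 2 (D11.sig u X11))) ≤ (Nat.card (Subgroup.centralizer ({u} : Set G)) : ℤ) := by
  rw [sqSum, ← sum_union D11 D7 D5 hX7 hX5 hX11 hG hu (fun q => q.2 * q.2)]
  exact sum_iv_sq_le _ fun χ _ => val_invol hG χ hu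

include hX7 hG hu in
theorem seven_mem {B : ℕ} (hB : Nat.card (Subgroup.centralizer ({u} : Set G)) < B) {l : List ℤ}
    (hl : X7.map (sd D7.S) = l) : D7.sig u X7 ∈ (assignsF (valsFor B) l).filter zeroE :=
  List.mem_filter.2 ⟨hl ▸ mem_assignsF _ _ _ X7 fun χ hχ => D7.sv_vals hG hu hB (D7.mem_X hX7 hχ),
    D7.zero_col hG (by norm_num) (by norm_num) (by norm_num) (by norm_num) (by norm_num) hu hX7⟩

end Lists

/-- The centralizer of a Sylow 5-subgroup is the subgroup itself. -/
theorem c_eq_one (h : Nat.card G = 443520) (D11 : PData G 11 5 1) (D7 : PData G 7 3 1) {c : ℕ}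
    (D5 : PData G 5 4 c) {l7 : List ℤ} {P : List (List ℤ × List ℤ)} {X7 X5 X11 : List (IrrCharacter G)}
    (hc : c ∈ [96, 36, 16, 6, 1]) (hAB : (l7 = sevenA ∧ P = pairsA) ∨ (l7 = sevenB ∧ P = pairsB))
    (hX7 : List.Perm X7 D7.S.X.toList) (hX5 : List.Perm X5 D5.S.X.toList)
    (hX11 : List.Perm X11 D11.S.X.toList) (hl7 : X7.map (sd D7.S) = l7)
    (hP : (X5.map (sd D5.S), X11.map (sd D11.S)) ∈ P) : c = 1 := by
  classical
  have hG := noncomm h
  by_contra hc1
  have hpc : ¬ 5 ∣ c := by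
    simp only [List.mem_cons, List.not_mem_nil, or_false] at hc; omega
  obtain ⟨x, hx, hxo⟩ := D5.exists_elt
  haveI : Fact (Nat.Prime 2) := ⟨Nat.prime_two⟩
  obtain ⟨z', hz'⟩ := exists_prime_orderOf_dvd_card'
    (G := Subgroup.centralizer ((D5.P : Subgroup G) : Set G)) 2 (by
      rw [D5.cent_P]
      refine Dvd.dvd.mul_left ?_ _
      simp only [List.mem_cons, List.not_mem_nil, or_false] at hc; omega)
  obtain ⟨z, hzC, hz⟩ : ∃ z ∈ Subgroup.centralizer ((D5.P : Subgroup G) : Set G), orderOf z = 2 :=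
    ⟨z', z'.2, by rw [Subgroup.orderOf_coe, hz']⟩
  have hxz : Commute x z := Subgroup.mem_centralizer_iff.1 hzC x hx
  have hC5760 : Nat.card (Subgroup.centralizer ({z} : Set G)) ∣ 5760 :=
    cent_dvd_5760 h D11 D7 (ne_one_two hz) (reg_two hz (by norm_num) (by norm_num))
      (reg_two hz (by norm_num) (by norm_num))
  have hCle : Nat.card (Subgroup.centralizer ({z} : Set G)) < 5761 :=
    Nat.lt_succ_of_le (Nat.le_of_dvd (by norm_num) hC5760)
  have hC10 : 10 ∣ Nat.card (Subgroup.centralizer ({z} : Set G)) := by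
    have h1 : orderOf (x * z) = 10 := by
      rw [hxz.orderOf_mul_eq_mul_orderOf_of_coprime (by rw [hxo, hz]; norm_num), hxo, hz]
    rw [← h1]
    exact Subgroup.orderOf_dvd_natCard _ (Subgroup.mem_centralizer_singleton_iff.2
      (hxz.mul_left (Commute.refl z)).eq)
  have hCs : Nat.card (Subgroup.centralizer ({z} : Set G)) ∈ [10, 20, 30, 40, 60, 80, 90, 120, 160, 180, 240, 320,
      360, 480, 640, 720, 960, 1440, 1920, 2880, 5760] := by
    rw [← divZ_eq]
    simp only [divZ, List.mem_filter, List.mem_range, Bool.and_eq_true, beq_iff_eq]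
    exact ⟨hCle, Nat.mod_eq_zero_of_dvd hC10, Nat.mod_eq_zero_of_dvd hC5760⟩
  have hcong : ∀ χ ∈ D5.S.X, sv D5.S z χ % 5 = 1 := by
    intro χ hχ
    have hd := congr_five hxz hxo hz χ (val_invol hG χ hz) (r := D5.S.εX χ) fun j hj =>
      D5.S.value_X χ hχ _ (pow_mem hx j) (fun hh => hj (hxo ▸ orderOf_dvd_of_pow_eq_one hh)) z hzC
        (reg_two hz (by norm_num) (by norm_num))
    simp only [sv]
    rcases D5.S.sign_X χ hχ with hs | hs <;> rw [hs] at hd ⊢ <;> omega
  obtain ⟨cs, hcs, hno⟩ : ∃ cs : List ℕ, c ∈ cs ∧ noColZ l7 cs P = true := by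
    rcases hAB with ⟨rfl, rfl⟩ | ⟨rfl, rfl⟩
    · refine ⟨_, ?_, no_col_z_A⟩
      simp only [List.mem_cons, List.not_mem_nil, or_false] at hc ⊢; omega
    · refine ⟨_, ?_, no_col_z_B⟩
      simp only [List.mem_cons, List.not_mem_nil, or_false] at hc ⊢
      by_contra h16
      have hnine := pairs_B_nine _ hP
      simp only [List.any_eq_true, beq_iff_eq] at hnine
      obtain ⟨d, hd, hd9⟩ := hnine
      obtain ⟨χ, hχ, rfl⟩ := D5.exists_of_mem (by norm_num) (by norm_num) hX5 hd
      have hf : fullPart c (dg χ) = true := by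
        simp only [fullPart, parts, List.any_eq_true, Bool.and_eq_true, beq_iff_eq]
        exact ⟨(3, 9), by simp, show c % 3 = 0 by omega, hd9⟩
      rcases D5.mem_blk.1 hχ with hX | hY
      · rw [D5.fullPart_X h hpc hX] at hf
        exact Bool.false_ne_true hf
      · rw [show dg χ = D5.S.D from D5.S.degree_Y χ hY, D5.fullPart_D h hpc] at hf
        exact Bool.false_ne_true hf
  simp only [noColZ, List.all_eq_true, Bool.or_eq_true, Bool.not_eq_true'] at hno
  have hK7 := blk7_vals D7 hX7 hG hz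
  have h5m : D5.sig z X5 ∈ assignsF (optsFiveZ (blockList 2 (D7.sig z X7))) (X5.map (sd D5.S)) :=
    mem_assignsF _ _ _ X5 fun χ hχ => by
      have hχX := D5.mem_X hX5 hχ
      simp only [optsFiveZ, List.mem_filter, Bool.and_eq_true, beq_iff_eq]
      exact ⟨D5.sv_vals hG hz hCle hχX, hcong χ hχX, D5.known_of D7 rfl hK7 hχX⟩
  rcases hno _ (seven_mem D7 hX7 hG hz hCle hl7) _ hP _ h5m with hf | hf | hf
  · rw [fiveCol_mem D7 D5 hX7 hX5 hG hz] at hf
    exact absurd hf (by simp)
  · rw [List.isEmpty_iff] at hf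
    refine List.not_mem_nil (a := Nat.card (Subgroup.centralizer ({z} : Set G))) ?_
    rw [← hf, List.mem_filter]
    exact ⟨hCs, List.any_eq_true.2 ⟨c, hcs, sqTest_mem h D5 hz hX5⟩⟩
  have h11m : D11.sig z X11 ∈ assignsF (optsElevenZ (blockList 2 (D7.sig z X7))) (X11.map (sd D11.S)) :=
    mem_assignsF _ _ _ X11 fun χ hχ => by
      simp only [optsElevenZ, List.mem_filter]
      exact ⟨D11.sv_vals hG hz hCle (D11.mem_X hX11 hχ), D11.known_of D7 rfl hK7 (D11.mem_X hX11 hχ)⟩
  rcases hf _ h11m with hf2 | hf2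
  · rw [elevenCol_mem D11 D7 D5 hX7 hX5 hX11 hG hz] at hf2
    exact absurd hf2 (by simp)
  · have := hf2 _ (List.mem_filter.2 ⟨hCs, List.any_eq_true.2 ⟨c, hcs, sqTest_mem h D5 hz hX5⟩⟩)
    simp only [decide_eq_true_eq] at this
    exact absurd (sqSum_le D11 D7 D5 hX7 hX5 hX11 hG hz) (not_le.2 this)

/-- The degrees of the characters. -/
def degList : List ℕ := [1, 21, 45, 45, 55, 99, 154, 210, 231, 280, 280, 385]

theorem pairs_disjoint : ∀ pr ∈ pairsOne, ¬ pr ∈ pairsOneA := by decide +kernel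

theorem one_degs : ∀ pr ∈ pairsOne,
    (1 :: (unionDegs (blockDegs 1 pr.1) (blockDegs 2 sevenB) (blockDegs 2 pr.2) ++ [385])).Perm degList := by
  decide +kernel

/-- The character table facts: degrees and the column of involutions. -/
structure Table (D11 : PData G 11 5 1) (D7 : PData G 7 3 1) (D5 : PData G 5 4 1)
    [Fintype (IrrCharacter G)] : Prop where
  degs : (Finset.univ : Finset (IrrCharacter G)).val.map dg = ↑degList
  seven : ∃ X7 : List (IrrCharacter G), List.Perm X7 D7.S.X.toList ∧ X7.map (sd D7.S) = sevenB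
  five_eleven : ∃ X5 X11 : List (IrrCharacter G), List.Perm X5 D5.S.X.toList ∧
    List.Perm X11 D11.S.X.toList ∧ (X5.map (sd D5.S), X11.map (sd D11.S)) ∈ pairsOne
  invol : ∀ t : G, orderOf t = 2 → (∀ χ : IrrCharacter G, iv χ t = tval (dg χ)) ∧
    Nat.card (Subgroup.centralizer ({t} : Set G)) = 384

theorem exists_table (h : Nat.card G = 443520) [Fintype (IrrCharacter G)] :
    ∃ (D11 : PData G 11 5 1) (D7 : PData G 7 3 1) (D5 : PData G 5 4 1), Table D11 D7 D5 := by
  classical
  have hG := noncomm h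
  obtain ⟨D11⟩ := exists_eleven h
  obtain ⟨D7⟩ := exists_seven h
  obtain ⟨c, D5, l7, P, X7, X5, X11, hc, hAB, hX7, hX5, hX11, hl7, hP⟩ := exists_five h D11 D7
  obtain rfl := c_eq_one h D11 D7 D5 hc hAB hX7 hX5 hX11 hl7 hP
  refine ⟨D11, D7, D5, ?_⟩
  have hb5 := D5.blk_degs (by norm_num) (by norm_num) hX5
  have hb7 := D7.blk_degs (by norm_num) (by norm_num) hX7
  have hb11 := D11.blk_degs (by norm_num) (by norm_num) hX11
  obtain ⟨Q, concl, hQ, hcol, hsum⟩ : ∃ (Q : List (List ℤ × List ℤ)) (concl : List (ℕ × ℤ) → Bool),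
      (X5.map (sd D5.S), X11.map (sd D11.S)) ∈ Q ∧ colOne concl l7 Q = true ∧
      (((l7 = sevenA ∧ Q = pairsOneA ∧ concl = fun _ => false) ∨
        (l7 = sevenB ∧ Q = pairsOne ∧ concl = colConcl)) ∧
        ((unionDegs (blockDegs 1 (X5.map (sd D5.S))) (blockDegs 2 l7)
          (blockDegs 2 (X11.map (sd D11.S)))).map fun d => d * d).sum + 148225 + 1 = 443520) := by
    rw [hl7] at hb7
    have h115 := D11.sub_nd D5 rfl hb11 hb5
    have h75 := D7.sub_nd D5 rfl hb7 hb5
    rcases hAB with ⟨rfl, rfl⟩ | ⟨rfl, rfl⟩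
    · have hm := one_A _ hP h115 h75
      refine ⟨_, _, hm, col_one_A, Or.inl ⟨rfl, rfl, rfl⟩, ?_⟩
      have := one_squares _ (List.mem_append_left _ hm)
      rwa [if_pos hm] at this
    · have hm := one_B _ hP h115 h75
      refine ⟨_, _, hm, col_one_B, Or.inr ⟨rfl, rfl, rfl⟩, ?_⟩
      have := one_squares _ (List.mem_append_right _ hm)
      rwa [if_neg (pairs_disjoint _ hm)] at this
  obtain ⟨hcase, hsq⟩ := hsum
  have hun := union_degs D11 D7 D5 hX7 hX5 hX11
  rw [hl7] at hun
  obtain ⟨ψ, hψd, hψ, hall⟩ := exists_last D11 D7 D5 h rfl (by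
    rw [sum_of_map hun (fun d => d * d), List.map_cons, List.sum_cons]
    omega)
  have huniv : (Finset.univ : Finset (IrrCharacter G)) = insert ψ (unionBlk D11 D7 D5) :=
    (Finset.eq_univ_iff_forall.2 fun χ => Finset.mem_insert.2 (hall χ).symm).symm
  have hone : ∀ t : G, orderOf t = 2 →
      let U := unionList (blockList 2 (D7.sig t X7)) (blockList 1 (D5.sig t X5)) (blockList 2 (D11.sig t X11))
      concl U = true ∧ lastVal U = iv ψ t ∧ colOrder U = Nat.card (Subgroup.centralizer ({t} : Set G)) := by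
    intro t ht U
    set C := Nat.card (Subgroup.centralizer ({t} : Set G)) with hC
    have hC5760 : C ∣ 1152 * 5 := cent_dvd_5760 h D11 D7 (ne_one_two ht)
      (reg_two ht (by norm_num) (by norm_num)) (reg_two ht (by norm_num) (by norm_num))
    have hC1152 : C ∣ 1152 := Nat.Coprime.dvd_of_dvd_mul_right
      ((Nat.Prime.coprime_iff_not_dvd (by norm_num)).2
        (D5.not_dvd_cent rfl (ne_one_two ht) (reg_two ht (by norm_num) (by norm_num)))).symm hC5760
    have hB : C < 1153 := Nat.lt_succ_of_le (Nat.le_of_dvd (by norm_num) hC1152)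
    have hK7 := blk7_vals D7 hX7 hG ht
    have hK5 := blk5_vals D5 hX5 hG ht
    have hlast : lastVal U = iv ψ t ∧ (-(U.map fun q => (q.1 : ℤ) * q.2).sum) % 385 = 0 := by
      have e := sum_dg_iv (ne_one_two ht) fun χ => val_invol hG χ ht
      rw [huniv, Finset.sum_insert hψ, hψd,
        sum_union D11 D7 D5 hX7 hX5 hX11 hG ht (fun q => (q.1 : ℤ) * q.2)] at e
      change (385 : ℤ) * iv ψ t + (U.map fun q => (q.1 : ℤ) * q.2).sum = 0 at e
      rw [lastVal]
      constructor <;> omega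
    have hord : colOrder U = C := by
      have e := sum_iv_sq (g := t) fun χ => val_invol hG χ ht
      rw [huniv, Finset.sum_insert hψ, sum_union D11 D7 D5 hX7 hX5 hX11 hG ht (fun q => q.2 * q.2), ← hC] at e
      rw [colOrder, hlast.1, sqSum, add_comm, e, Int.toNat_natCast]
    refine ⟨?_, hlast.1, hord⟩
    simp only [colOne, List.all_eq_true, Bool.or_eq_true, Bool.not_eq_true'] at hcol
    have h5m : D5.sig t X5 ∈ assignsF (optsFive (blockList 2 (D7.sig t X7))) (X5.map (sd D5.S)) :=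
      mem_assignsF _ _ _ X5 fun χ hχ => by
        simp only [optsFive, List.mem_filter]
        exact ⟨D5.sv_vals hG ht hB (D5.mem_X hX5 hχ), D5.known_of D7 rfl hK7 (D5.mem_X hX5 hχ)⟩
    have hCmem : C ∈ [1, 2, 3, 4, 6, 8, 9, 12, 16, 18, 24, 32, 36, 48, 64, 72, 96, 128, 144, 192, 288, 384, 576,
        1152] := by
      rw [← divOne_eq]
      simp only [List.mem_filter, List.mem_range, beq_iff_eq]
      exact ⟨hB, Nat.mod_eq_zero_of_dvd hC1152⟩
    rcases hcol _ (seven_mem D7 hX7 hG ht hB hl7) _ hQ _ h5m with (hf | hf) | hf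
    · rw [fiveCol_mem D7 D5 hX7 hX5 hG ht, D7.sub_ndq D5 rfl hK7 hK5] at hf
      exact absurd hf (by simp)
    · exact absurd (List.any_eq_true.2 ⟨C, hCmem, sqTest_mem h D5 ht hX5⟩) (by rw [hf]; simp)
    have h11m : D11.sig t X11 ∈ assignsF (optsEleven (blockList 2 (D7.sig t X7)) (blockList 1 (D5.sig t X5)))
        (X11.map (sd D11.S)) :=
      mem_assignsF _ _ _ X11 fun χ hχ => by
        have hχX := D11.mem_X hX11 hχ
        simp only [optsEleven, List.mem_filter, Bool.and_eq_true]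
        exact ⟨D11.sv_vals hG ht hB hχX, D11.known_of D7 rfl hK7 hχX, D11.known_of D5 rfl hK5 hχX⟩
    rcases hf _ h11m with hf2 | ((hf2 | hf2) | hf2) | hf2
    · rw [elevenCol_mem D11 D7 D5 hX7 hX5 hX11 hG ht] at hf2
      exact absurd hf2 (by simp)
    · rw [beq_eq_false_iff_ne] at hf2
      exact absurd hlast.2 hf2
    · rw [beq_eq_false_iff_ne] at hf2
      exact absurd (Nat.mod_eq_zero_of_dvd (hord.symm ▸ hC1152)) hf2
    · have := sqTest_mem h D5 ht hX5
      rw [← hC, ← hord, hf2] at this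
      exact absurd this (by simp)
    · exact hf2
  rcases hcase with ⟨-, -, hcon⟩ | ⟨hl, hQB, hcon⟩
  · haveI : Fact (Nat.Prime 2) := ⟨Nat.prime_two⟩
    obtain ⟨t, ht⟩ := exists_prime_orderOf_dvd_card' (G := G) 2 (by rw [h]; norm_num)
    have := (hone t ht).1
    rw [hcon] at this
    exact absurd this (by simp)
  · refine ⟨?_, ⟨X7, hX7, hl7.trans hl⟩, ⟨X5, X11, hX5, hX11, hQB ▸ hQ⟩, fun t ht => ?_⟩
    · rw [huniv, Finset.insert_val_of_notMem hψ, Multiset.map_cons, hψd, hun, hl]
      refine Eq.trans ?_ (Multiset.coe_eq_coe.2 (one_degs _ (hQB ▸ hQ)))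
      rw [Multiset.cons_coe, Multiset.coe_eq_coe, ← List.cons_append]
      exact (List.perm_append_singleton _ _).symm
    · obtain ⟨hU, hl', ho⟩ := hone t ht
      rw [hcon] at hU
      simp only [colConcl, Bool.and_eq_true, List.all_eq_true, beq_iff_eq] at hU
      obtain ⟨⟨hvals, hv385⟩, h384⟩ := hU
      refine ⟨fun χ => ?_, ho ▸ h384⟩
      rcases hall χ with hχ | rfl
      · have hm := Multiset.mem_map_of_mem (fun χ => (dg χ, iv χ t)) (show χ ∈ (unionBlk D11 D7 D5).val from hχ)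
        rw [union_vals D11 D7 D5 hX7 hX5 hX11 ht hG, Multiset.mem_coe] at hm
        exact hvals _ hm
      · rw [← hl', hv385, hψd]
        rfl

end CfsgLib.Char.MTwentyTwoOrder
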