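import Cfsg.Agent.Lib.Perm.Small.PrimeCriterion

/-!
# Simple groups of order 443520: the finite tests on the parameters at 11, 7 and 5
-/

set_option autoImplicit false
set_option maxRecDepth 100000

namespace CfsgLib.Char.MTwentyTwoOrder

open CfsgLib.Perm.PrimeBlock

/-- The full prime parts of the order. -/
def parts : List (ℕ × ℕ) := [(2, 128), (3, 9), (5, 5), (7, 7), (11, 11)]

/-- Whether the degree has the full part of a prime dividing `c`. -/
def fullPart (c d : ℕ) : Bool := parts.any fun x => (c % x.1 == 0) && (d % x.2 == 0)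

/-- The residues of a degree for a self-centralizing Sylow 11-subgroup with automizer of order five. -/
def resEleven (d : ℕ) : Bool := decide (d % 11 ∈ [0, 1, 10, 5, 6])

/-- The admissible signed degrees. -/
def cands' (p c : ℕ) (extra : ℕ → Bool) : List ℤ :=
  ((List.range 666).flatMap fun (d : ℕ) =>
      if okAbs 443520 (443520 / p) d && extra d && !fullPart c d then [(d : ℤ), -(d : ℤ)] else []).filter
    fun s => (s % (p : ℤ) == 1) && !(decide (1 < c) && kills p s)

/-- Whether the parameters admit degrees. -/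
def possible' (p e c : ℕ) (extra : ℕ → Bool) : Bool :=
  (sums (cands' p c extra) (e - 1)).any fun s =>
    ((1 + s) % (p : ℤ) == (e : ℤ) % (p : ℤ)) && okAbs 443520 (443520 / p) (1 + s).natAbs &&
      extra (1 + s).natAbs && !fullPart c (1 + s).natAbs &&
      !(decide (1 < c) && kills p (-(((p - 1) / e : ℕ) : ℤ) * (1 + s)))

theorem eleven_n' : ∀ a < 62, ∀ b < 62, 40320 % (11 * (62 * a + b) + 1) = 0 →
    62 * a + b ∈ [0, 1, 4, 5, 13, 19, 29, 61, 229, 733] := by decide +kernel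

theorem seven_n' : ∀ a < 96, ∀ b < 96, 63360 % (7 * (96 * a + b) + 1) = 0 →
    96 * a + b ∈ [0, 1, 2, 3, 5, 9, 14, 17, 25, 41, 47, 113, 137, 201, 377, 905, 3017] := by decide +kernel

theorem five_n' : ∀ a < 134, ∀ b < 134, 88704 % (5 * (134 * a + b) + 1) = 0 →
    134 * a + b ∈ [0, 1, 2, 3, 4, 7, 11, 13, 19, 25, 35, 46, 67, 79, 115, 123, 179, 211, 277, 403, 739, 1267, 1971,
      4435] := by decide +kernel

theorem eleven_tests : ∀ j ∈ [1, 4, 5, 13, 19, 29, 61, 229, 733], ∀ e ∈ [2, 5, 10],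
    40320 % ((11 * j + 1) * e) = 0 → possible' 11 e (40320 / ((11 * j + 1) * e)) (fun _ => true) = true →
      (j = 13 ∧ e = 5) ∨ (j = 13 ∧ e = 10) ∨ (j = 733 ∧ e = 5) := by decide +kernel

theorem seven_tests : ∀ j ∈ [1, 2, 3, 5, 9, 14, 17, 25, 41, 47, 113, 137, 201, 377, 905, 3017], ∀ e ∈ [2, 3, 6],
    63360 % ((7 * j + 1) * e) = 0 → (63360 / ((7 * j + 1) * e)) % 11 ≠ 0 →
      possible' 7 e (63360 / ((7 * j + 1) * e)) resEleven = true →
        (j = 47 ∧ (e = 3 ∨ e = 6)) ∨ (j = 377 ∧ (e = 3 ∨ e = 6)) ∨ (j = 3017 ∧ e = 3) := by decide +kernel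

theorem five_tests : ∀ j ∈ [1, 2, 3, 4, 7, 11, 13, 19, 25, 35, 46, 67, 79, 115, 123, 179, 211, 277, 403, 739, 1267,
    1971, 4435], ∀ e ∈ [2, 4],
    88704 % ((5 * j + 1) * e) = 0 → (88704 / ((5 * j + 1) * e)) % 11 ≠ 0 → (88704 / ((5 * j + 1) * e)) % 7 ≠ 0 →
      possible' 5 e (88704 / ((5 * j + 1) * e)) resEleven = true →
        88704 / ((5 * j + 1) * e) ∈ [192, 96, 72, 36, 32, 16, 12, 6, 2, 1] := by decide +kernel

end CfsgLib.Char.MTwentyTwoOrder
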