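import Cfsg.Agent.Lib.Char.MTwelveOrder.Lists
import Cfsg.Agent.Lib.Char.MTwentyTwoOrder.ParamTests

/-!
# Simple groups of order 443520: the finite tests on the block lists
-/

set_option autoImplicit false
set_option maxRecDepth 100000

namespace CfsgLib.Char.MTwentyTwoOrder

open CfsgLib.Perm.PrimeBlock CfsgLib.Char.MTwelveOrder

/-- The degree and value from a signed degree and a signed value. -/
def absPair (q : ℤ × ℤ) : ℕ × ℤ := (q.1.natAbs, if 0 < q.1 then q.2 else -q.2)

/-- The degrees of a block from the signed degrees and the number of exceptional characters. -/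
def blockDegs (t : ℕ) (l : List ℤ) : List ℕ := l.map Int.natAbs ++ List.replicate t (1 + l.sum).natAbs

/-- The degrees and values of a block from the signed ones. -/
def blockList (t : ℕ) (a : List (ℤ × ℤ)) : List (ℕ × ℤ) :=
  a.map absPair ++ List.replicate t (absPair (1 + (a.map Prod.fst).sum, 1 + (a.map Prod.snd).sum))

/-- On a part, the counts of the first list are at most those of the second. -/
def subBag {α : Type*} [DecidableEq α] (P : α → Bool) (A B : List α) : Bool :=
  (A.filter P).all fun q => decide (A.count q ≤ B.count q)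

/-- Whether a degree is prime to `p`. -/
def nd (p d : ℕ) : Bool := d % p != 0

/-- Whether a degree is prime to `p`, on pairs. -/
def ndq (p : ℕ) (q : ℕ × ℤ) : Bool := q.1 % p != 0

/-! ### The degree lists -/

/-- The signed degrees at seven in the two cases. -/
def sevenA : List ℤ := [-55, 120]

/-- The signed degrees at seven in the two cases. -/
def sevenB : List ℤ := [-55, 99]

theorem cd7_eq : cands' 7 1 resEleven = [-6, 22, -55, 99, 120, -132, -160, 176, 330, -384, -440] := by
  decide +kernel

/-- The conditions on the list at seven. -/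
def sevenOK (l : List ℤ) : Bool :=
  okAbs 443520 (443520 / 7) (1 + l.sum).natAbs && resEleven (1 + l.sum).natAbs && ((1 + l.sum) % 7 == 3)

/-- Whether an involution column exists on the block at seven. -/
def sevenCol (l : List ℤ) : Bool := (assignsF (fun s => valsFor (s * s).natAbs s) l).any zeroE

theorem seven_lists : ∀ l ∈ combos [-6, 22, -55, 99, 120, -132, -160, 176, 330, -384, -440] 2,
    sevenOK l = true → sevenCol l = true → l = sevenA ∨ l = sevenB := by decide +kernel

/-- The condition on degrees at five. -/
def ext5 (f : List ℕ) (d : ℕ) : Bool := resEleven d && (d % 7 == 0 || f.contains d)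

/-- The conditions on the list at five. -/
def fiveOK (f : List ℕ) (e : ℕ) (l : List ℤ) : Bool :=
  okAbs 443520 (443520 / 5) (1 + l.sum).natAbs && ((1 + l.sum) % 5 == (e : ℤ) % 5) &&
    ext5 f (1 + l.sum).natAbs && subBag (nd 7) (blockDegs (4 / e) l) f

/-- The condition on degrees at eleven. -/
def ext11 (f : List ℕ) (d : ℕ) : Bool := d % 7 == 0 || f.contains d

/-- The conditions on the list at eleven. -/
def elevenOK (f : List ℕ) (l : List ℤ) : Bool :=
  okAbs 443520 (443520 / 11) (1 + l.sum).natAbs && ((1 + l.sum) % 11 == 5) && ext11 f (1 + l.sum).natAbs &&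
    subBag (nd 7) (blockDegs 2 l) f && subBag (nd 11) f (blockDegs 2 l)

/-- The lists at five and eleven in the first case. -/
def pairsA : List (List ℤ × List ℤ) :=
  [[66, 66, -154], [21, 66, -154], [21, 66, 66]].flatMap fun l5 =>
    [[-21, -120, 210, 210], [-21, 56, -120, -252], [-21, 56, -120, 210], [-21, 56, 56, -120],
      [-21, -21, 56, -120]].map fun l => (l5, l)

/-- The lists at five and eleven in the second case. -/
def pairsB : List (List ℤ × List ℤ) :=
  [([126, 126, -154], [-21, 45, 45, 56]), ([-99, -154, 231], [-21, 45, 45, 210]),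
    ([-99, -154, 231], [-21, 45, 45, 56]), ([-99, 126, -154], [-21, 45, 45, 56]),
    ([-99, 126, 126], [-21, 45, 45, 56]), ([21, -154, 231], [-21, 45, 45, 210]),
    ([21, -154, 231], [-21, 45, 45, 56]), ([21, -99, 231], [-21, 45, 45, 210]),
    ([21, -99, 231], [-21, 45, 45, 56]), ([21, -99, -154], [-21, 45, 45, 210]),
    ([21, -99, -154], [-21, 45, 45, 56])]

theorem cd5A_eq : cands' 5 1 (ext5 (blockDegs 2 sevenA)) = [21, 56, 66, 126, -154, 231, 336, 616] := by
  decide +kernel

theorem cd5B_eq : cands' 5 1 (ext5 (blockDegs 2 sevenB)) = [21, 56, -99, 126, -154, 231, 336, 616] := by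
  decide +kernel

theorem cd11A_eq : cands' 11 1 (ext11 (blockDegs 2 sevenA)) = [-21, 56, -120, 210, -252, -560] := by
  decide +kernel

theorem cd11B_eq : cands' 11 1 (ext11 (blockDegs 2 sevenB)) = [-21, 45, 56, 210, -252, -560] := by
  decide +kernel

theorem five_two_A : ∀ l ∈ combos [21, 56, 66, 126, -154, 231, 336, 616] 1,
    fiveOK (blockDegs 2 sevenA) 2 l = false := by decide +kernel

theorem five_two_B : ∀ l ∈ combos [21, 56, -99, 126, -154, 231, 336, 616] 1,
    fiveOK (blockDegs 2 sevenB) 2 l = false := by decide +kernel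

theorem pairs_A : ∀ l5 ∈ combos [21, 56, 66, 126, -154, 231, 336, 616] 3,
    fiveOK (blockDegs 2 sevenA) 4 l5 = true → ∀ l ∈ combos [-21, 56, -120, 210, -252, -560] 4,
      elevenOK (blockDegs 2 sevenA) l = true → subBag (nd 11) (blockDegs 1 l5) (blockDegs 2 l) = true →
        (l5, l) ∈ pairsA := by decide +kernel

theorem pairs_B : ∀ l5 ∈ combos [21, 56, -99, 126, -154, 231, 336, 616] 3,
    fiveOK (blockDegs 2 sevenB) 4 l5 = true → ∀ l ∈ combos [-21, 45, 56, 210, -252, -560] 4,
      elevenOK (blockDegs 2 sevenB) l = true → subBag (nd 11) (blockDegs 1 l5) (blockDegs 2 l) = true →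
        (l5, l) ∈ pairsB := by decide +kernel

theorem pairs_B_nine : ∀ pr ∈ pairsB, (blockDegs 1 pr.1).any (fun d => d % 9 == 0) = true := by decide +kernel

end CfsgLib.Char.MTwentyTwoOrder
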