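import Cfsg.Agent.Lib.Char.MTwentyTwoOrder.DegTests

/-!
# Simple groups of order 443520: the finite tests on the columns
-/

set_option autoImplicit false
set_option maxRecDepth 100000

namespace CfsgLib.Char.MTwentyTwoOrder

open CfsgLib.Perm.PrimeBlock CfsgLib.Char.MTwelveOrder

/-! ### The columns -/

/-- The values allowed by known values: a degree divisible by `p` or a known pair. -/
def known (p : ℕ) (K : List (ℕ × ℤ)) (q : ℤ × ℤ) : Bool := !nd p q.1.natAbs || K.contains (absPair q)

/-- The conditions on the values at five. -/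
def fiveCol (K7 : List (ℕ × ℤ)) (a : List (ℤ × ℤ)) : Bool :=
  let T : ℤ := 1 + (a.map Prod.snd).sum
  let D : ℤ := 1 + (a.map Prod.fst).sum
  decide (T.natAbs < D.natAbs) && ((T - D) % 4 == 0) && subBag (ndq 7) (blockList 1 a) K7

/-- The equation on the values at five for a centralizer order. -/
def sqTest (c : ℕ) (C : ℕ) (a : List (ℤ × ℤ)) : Bool :=
  let T : ℤ := 1 + (a.map Prod.snd).sum
  let D : ℤ := 1 + (a.map Prod.fst).sum
  let L : ℤ := 443520 * (c : ℤ) * ((fracSum a).1 * D - T * T * (fracSum a).2)
  let R : ℤ := 5 * (C : ℤ) * (C : ℤ) * ((fracSum a).2 * D)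
  (List.range (c + 1)).any fun k => L == (k : ℤ) * (k : ℤ) * R

/-- The conditions on the values at eleven. -/
def elevenCol (K7 K5 : List (ℕ × ℤ)) (a : List (ℤ × ℤ)) : Bool :=
  zeroE a && subBag (ndq 7) (blockList 2 a) K7 && subBag (ndq 11) K7 (blockList 2 a) &&
    subBag (ndq 11) K5 (blockList 2 a)

/-- The characters in the three blocks. -/
def unionList (K7 K5 K11 : List (ℕ × ℤ)) : List (ℕ × ℤ) :=
  (1, 1) :: (K11 ++ K7.filter (fun q => q.1 % 11 == 0) ++
    K5.filter (fun q => q.1 % 11 == 0 && q.1 % 7 == 0))

/-- The sum of the squares of the values. -/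
def sqSum (U : List (ℕ × ℤ)) : ℤ := (U.map fun q => q.2 * q.2).sum

/-- The orders of centralizers of involutions commuting with elements of order five. -/
def divZ : List ℕ := (List.range 5761).filter fun C => C % 10 == 0 && 5760 % C == 0

/-- The options at five for an involution commuting with an element of order five. -/
def optsFiveZ (K7 : List (ℕ × ℤ)) (s : ℤ) : List ℤ :=
  (valsFor 5761 s).filter fun S => S % 5 == 1 && known 7 K7 (s, S)

/-- The options at eleven for an involution commuting with an element of order five. -/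
def optsElevenZ (K7 : List (ℕ × ℤ)) (s : ℤ) : List ℤ := (valsFor 5761 s).filter fun S => known 7 K7 (s, S)

/-- No column of an involution commuting with an element of order five. -/
def noColZ (l7 : List ℤ) (cs : List ℕ) (P : List (List ℤ × List ℤ)) : Bool :=
  ((assignsF (valsFor 5761) l7).filter zeroE).all fun a7 =>
    let K7 := blockList 2 a7
    P.all fun pr => (assignsF (optsFiveZ K7) pr.1).all fun a5 =>
      !fiveCol K7 a5 ||
        let Cs := [10, 20, 30, 40, 60, 80, 90, 120, 160, 180, 240, 320, 360, 480, 640, 720, 960, 1440, 1920, 2880,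
          5760].filter fun C => cs.any fun c => sqTest c C a5
        Cs.isEmpty || (assignsF (optsElevenZ K7) pr.2).all fun a =>
          !elevenCol K7 (blockList 1 a5) a ||
            Cs.all fun C => decide ((C : ℤ) < sqSum (unionList K7 (blockList 1 a5) (blockList 2 a)))

theorem divZ_eq : divZ = [10, 20, 30, 40, 60, 80, 90, 120, 160, 180, 240, 320, 360, 480, 640, 720, 960, 1440, 1920,
    2880, 5760] := by decide +kernel

theorem no_col_z_A : noColZ sevenA [96, 36, 16, 6] pairsA = true := by decide +kernel

theorem no_col_z_B : noColZ sevenB [16] pairsB = true := by decide +kernel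

/-- The lists for a self-centralizing Sylow 5-subgroup. -/
def pairsOne : List (List ℤ × List ℤ) :=
  [([-99, -154, 231], [-21, 45, 45, 210]), ([21, -154, 231], [-21, 45, 45, 210]),
    ([21, -99, 231], [-21, 45, 45, 210]), ([21, -99, -154], [-21, 45, 45, 210])]

/-- The lists for a self-centralizing Sylow 5-subgroup in the first case. -/
def pairsOneA : List (List ℤ × List ℤ) :=
  [([66, 66, -154], [-21, -120, 210, 210]), ([21, 66, -154], [-21, -120, 210, 210]),
    ([21, 66, 66], [-21, -120, 210, 210])]

theorem one_A : ∀ pr ∈ pairsA, subBag (nd 5) (blockDegs 2 pr.2) (blockDegs 1 pr.1) = true →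
    subBag (nd 5) (blockDegs 2 sevenA) (blockDegs 1 pr.1) = true → pr ∈ pairsOneA := by decide +kernel

theorem one_B : ∀ pr ∈ pairsB, subBag (nd 5) (blockDegs 2 pr.2) (blockDegs 1 pr.1) = true →
    subBag (nd 5) (blockDegs 2 sevenB) (blockDegs 1 pr.1) = true → pr ∈ pairsOne := by decide +kernel

/-- The degrees in the three blocks. -/
def unionDegs (f5 f7 f11 : List ℕ) : List ℕ :=
  f11 ++ f7.filter (fun d => d % 11 == 0) ++ f5.filter (fun d => d % 11 == 0 && d % 7 == 0)

theorem one_squares : ∀ pr ∈ pairsOneA ++ pairsOne,
    ((unionDegs (blockDegs 1 pr.1) (blockDegs 2 (if pr ∈ pairsOneA then sevenA else sevenB))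
      (blockDegs 2 pr.2)).map fun d => d * d).sum + 148225 + 1 = 443520 := by decide +kernel

/-- The value of an involution on the character of given degree. -/
def tval (d : ℕ) : ℤ :=
  if d = 21 then 5 else if d = 45 then -3 else if d = 55 then 7 else if d = 99 then 3 else if d = 154 then 10
  else if d = 210 then 2 else if d = 231 then 7 else if d = 280 then -8 else 1

/-- The options at five for an involution. -/
def optsFive (K7 : List (ℕ × ℤ)) (s : ℤ) : List ℤ := (valsFor 1153 s).filter fun S => known 7 K7 (s, S)

/-- The options at eleven for an involution. -/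
def optsEleven (K7 K5 : List (ℕ × ℤ)) (s : ℤ) : List ℤ :=
  (valsFor 1153 s).filter fun S => known 7 K7 (s, S) && known 5 K5 (s, S)

/-- The value on the character of degree 385. -/
def lastVal (U : List (ℕ × ℤ)) : ℤ := -(U.map fun q => (q.1 : ℤ) * q.2).sum / 385

/-- The centralizer order from a column. -/
def colOrder (U : List (ℕ × ℤ)) : ℕ := (sqSum U + lastVal U * lastVal U).toNat

/-- The conclusion on the column. -/
def colConcl (U : List (ℕ × ℤ)) : Bool :=
  U.all (fun q => q.2 == tval q.1) && lastVal U == 1 && colOrder U == 384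

/-- Every admissible column of an involution satisfies the conclusion. -/
def colOne (concl : List (ℕ × ℤ) → Bool) (l7 : List ℤ) (P : List (List ℤ × List ℤ)) : Bool :=
  ((assignsF (valsFor 1153) l7).filter zeroE).all fun a7 =>
    let K7 := blockList 2 a7
    P.all fun pr => (assignsF (optsFive K7) pr.1).all fun a5 =>
      let K5 := blockList 1 a5
      !(fiveCol K7 a5 && subBag (ndq 5) K7 K5) ||
        !([1, 2, 3, 4, 6, 8, 9, 12, 16, 18, 24, 32, 36, 48, 64, 72, 96, 128, 144, 192, 288, 384, 576, 1152].any
            fun C => sqTest 1 C a5) ||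
        (assignsF (optsEleven K7 K5) pr.2).all fun a =>
          !elevenCol K7 K5 a ||
            let U := unionList K7 K5 (blockList 2 a)
            !((-(U.map fun q => (q.1 : ℤ) * q.2).sum) % 385 == 0) || !(1152 % colOrder U == 0) ||
              !sqTest 1 (colOrder U) a5 || concl U

theorem col_one_A : colOne (fun _ => false) sevenA pairsOneA = true := by decide +kernel

theorem col_one_B : colOne colConcl sevenB pairsOne = true := by decide +kernel

end CfsgLib.Char.MTwentyTwoOrder
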