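import Cfsg.Agent.Lib.Char.MTwentyTwoOrder.Seven
import Cfsg.Agent.Lib.Char.MTwentyTwoOrder.ColTests

/-!
# Simple groups of order 443520: the principal blocks as lists of degrees and values
-/

set_option autoImplicit false
set_option linter.all false

open Cfsg CfsgLib.Perm.PrimeBlock CfsgLib.Block Finset CfsgLib.Char.MEleven.Order CfsgLib.Char.MTwelveOrder

namespace CfsgLib.Char.MTwentyTwoOrder

universe u

/-- The counts of a map on a part of one set are at most those on another set. -/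
theorem subBag_of {ι α : Type*} [DecidableEq ι] [DecidableEq α] (f : ι → α) {A B : Finset ι} (P : α → Bool)
    (hsub : ∀ i ∈ A, P (f i) = true → i ∈ B) {la lb : List α} (ha : A.val.map f = ↑la) (hb : B.val.map f = ↑lb) :
    subBag P la lb = true := by
  simp only [subBag, List.all_eq_true, List.mem_filter, decide_eq_true_eq]
  rintro q ⟨-, hq⟩
  rw [← Multiset.coe_count, ← Multiset.coe_count, ← ha, ← hb, Multiset.count_map, Multiset.count_map,
    ← Finset.filter_val, ← Finset.filter_val]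
  refine Finset.card_le_card fun i hi => ?_
  obtain ⟨h1, h2⟩ := Finset.mem_filter.1 hi
  exact Finset.mem_filter.2 ⟨hsub i h1 (h2 ▸ hq), h2⟩

/-- The counts of a map on common parts agree. -/
theorem eqBag_of {ι α : Type*} [DecidableEq ι] [DecidableEq α] (f : ι → α) {A B : Finset ι} (P Q : α → Bool)
    (h1 : ∀ i ∈ A, P (f i) = true → i ∈ B) (h2 : ∀ i ∈ B, Q (f i) = true → i ∈ A) {la lb : List α}
    (ha : A.val.map f = ↑la) (hb : B.val.map f = ↑lb) : (subBag P la lb && subBag Q lb la) = true := by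
  rw [subBag_of f P h1 ha hb, subBag_of f Q h2 hb ha]
  rfl

theorem map_const_eq {ι α : Type*} [DecidableEq ι] (f : ι → α) (c : α) (A : Finset ι) (h : ∀ i ∈ A, f i = c) :
    A.val.map f = ↑(List.replicate A.card c) := by
  rw [Multiset.map_congr rfl h, Multiset.map_const', Multiset.coe_replicate]
  rfl

variable {G : Type u} [Group G] [Fintype G] [IsSimpleGroup G] {p e c : ℕ} [hp : Fact p.Prime] (D : PData G p e c)

/-- The non-trivial characters of the principal block. -/
noncomputable def PData.blk : Finset (IrrCharacter G) :=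
  open Classical in D.S.X ∪ D.S.Y

theorem PData.mem_blk {χ : IrrCharacter G} : χ ∈ D.blk ↔ χ ∈ D.S.X ∨ χ ∈ D.S.Y := by
  classical
  exact Finset.mem_union

theorem PData.one_notMem_blk : oneChar G ∉ D.blk := fun h =>
  (D.mem_blk.1 h).elim D.S.one_notMem_X D.S.one_notMem_Y

theorem PData.blk_ne_one {χ : IrrCharacter G} (h : χ ∈ D.blk) : χ ≠ oneChar G := fun he =>
  D.one_notMem_blk (he ▸ h)

theorem PData.blk_map {α : Type*} (f : IrrCharacter G → α) (g : ℤ → α) (c0 : α) {X' : List (IrrCharacter G)}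
    (hX' : List.Perm X' D.S.X.toList) (k : IrrCharacter G → ℤ) (hX : ∀ χ ∈ D.S.X, f χ = g (k χ))
    (hY : ∀ θ ∈ D.S.Y, f θ = c0) :
    D.blk.val.map f = ↑((X'.map k).map g ++ List.replicate ((p - 1) / e) c0) := by
  classical
  have hd : D.blk = D.S.X.disjUnion D.S.Y D.S.disjoint := by
    rw [Finset.disjUnion_eq_union, PData.blk]
  rw [hd, Finset.disjUnion_val, Multiset.map_add, ← Multiset.coe_add, map_const_eq f c0 D.S.Y hY, D.S.card_Y,
    List.map_map]
  congr 1
  rw [← Finset.coe_toList, Multiset.map_coe, Multiset.coe_eq_coe]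
  refine List.Perm.trans (List.Perm.of_eq ?_) (hX'.symm.map _)
  exact List.map_congr_left fun χ hχ => hX χ (Finset.mem_toList.1 hχ)

/-- The degrees of the block. -/
theorem PData.blk_degs (hep : e ∣ p - 1) (he : 1 ≤ e) {X' : List (IrrCharacter G)}
    (hX' : List.Perm X' D.S.X.toList) :
    D.blk.val.map dg = ↑(blockDegs ((p - 1) / e) (X'.map (sd D.S))) := by
  obtain ⟨θ, hθ⟩ := nonempty_Y D.S hep he
  have hsum : (X'.map (sd D.S)).sum = ∑ χ ∈ D.S.X, sd D.S χ := by
    rw [(hX'.map _).sum_eq, Finset.sum_map_toList]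
  refine D.blk_map dg Int.natAbs (1 + (X'.map (sd D.S)).sum).natAbs hX' (sd D.S)
    (fun χ hχ => (natAbs_sd D.S hχ).symm) fun θ' hθ' => ?_
  rw [hsum, ← rel_one D.S hθ]
  rcases D.S.sign with hs | hs <;> simpa [hs, dg] using D.S.degree_Y θ' hθ'

/-- The degrees and values of the block at a `p`-regular element with integral values. -/
theorem PData.blk_vals (hep : e ∣ p - 1) (he : 1 ≤ e) {g : G} (hgr : ¬ p ∣ orderOf g)
    (hg : ∀ χ : IrrCharacter G, (χ : G → ℂ) g = (iv χ g : ℂ)) {X' : List (IrrCharacter G)}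
    (hX' : List.Perm X' D.S.X.toList) :
    D.blk.val.map (fun χ => (dg χ, iv χ g)) =
      ↑(blockList ((p - 1) / e) (X'.map fun χ => (sd D.S χ, sv D.S g χ))) := by
  classical
  obtain ⟨θ, hθ⟩ := nonempty_Y D.S hep he
  have h1 : ((X'.map fun χ => (sd D.S χ, sv D.S g χ)).map Prod.fst).sum = ∑ χ ∈ D.S.X, sd D.S χ := by
    rw [List.map_map, (hX'.map _).sum_eq, Finset.sum_map_toList]
    rfl
  have h2 : ((X'.map fun χ => (sd D.S χ, sv D.S g χ)).map Prod.snd).sum = ∑ χ ∈ D.S.X, sv D.S g χ := by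
    rw [List.map_map, (hX'.map _).sum_eq, Finset.sum_map_toList]
    rfl
  have hX : ∀ χ ∈ D.S.X, (dg χ, iv χ g) = absPair (sd D.S χ, sv D.S g χ) := by
    intro χ hχ
    have h0 := dg_pos χ
    rcases D.S.sign_X χ hχ with hs | hs <;> simp [absPair, sd, sv, hs, h0]
  have hd : D.blk = D.S.X.disjUnion D.S.Y D.S.disjoint := by rw [Finset.disjUnion_eq_union, PData.blk]
  rw [blockList, h1, h2, ← rel_one D.S hθ, ← rel_val D.S hθ hgr hg]
  set c0 := absPair (D.S.ε * (D.S.D : ℤ), D.S.ε * iv θ g) with hc0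
  have hY : ∀ θ' ∈ D.S.Y, (dg θ', iv θ' g) = c0 := by
    intro θ' hθ'
    have hdeg : dg θ' = D.S.D := D.S.degree_Y θ' hθ'
    have hD : 0 < D.S.D := hdeg ▸ dg_pos θ'
    rw [iv_Y D.S hθ' hθ hgr hg, hdeg, hc0]
    rcases D.S.sign with hs | hs <;> simp [absPair, hs, hD]
  rw [hd, Finset.disjUnion_val, Multiset.map_add, ← Multiset.coe_add,
    map_const_eq (fun χ => (dg χ, iv χ g)) c0 D.S.Y hY, D.S.card_Y]
  congr 1
  rw [← Finset.coe_toList, Multiset.map_coe, Multiset.coe_eq_coe, List.map_map]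
  refine List.Perm.trans (List.Perm.of_eq ?_) (hX'.symm.map _)
  exact List.map_congr_left fun χ hχ => hX χ (Finset.mem_toList.1 hχ)

/-- The degrees in the block are prime to `p`. -/
theorem PData.blk_ndvd (hep : e ∣ p - 1) (he : 1 ≤ e) {χ : IrrCharacter G} (h : χ ∈ D.blk) : ¬ p ∣ dg χ := by
  intro hd
  have hdz : (p : ℤ) ∣ (dg χ : ℤ) := Int.natCast_dvd_natCast.2 hd
  have hp2 := hp.out.two_le
  rcases D.mem_blk.1 h with hX | hY
  · have h1 := Int.modEq_iff_dvd.1 (D.S.degree_X χ hX)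
    have h2 : (p : ℤ) ∣ D.S.εX χ := by
      have := dvd_add h1 hdz
      simpa [dg] using this
    have h3 := Int.natAbs_dvd_natAbs.2 h2
    rcases D.S.sign_X χ hX with hs | hs <;> rw [hs] at h3 <;> simp at h3 <;> omega
  · have h1 := Int.modEq_iff_dvd.1 D.S.congr_Y
    rw [show dg χ = D.S.D from D.S.degree_Y χ hY] at hdz
    have h2 : (p : ℤ) ∣ D.S.ε * (e : ℤ) := by
      have := dvd_add h1 hdz
      simpa using this
    have h3 := Int.natAbs_dvd_natAbs.2 h2
    have hle : e ≤ p - 1 := Nat.le_of_dvd (by omega) hep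
    rcases D.S.sign with hs | hs <;> rw [hs] at h3 <;> simp at h3 <;>
      exact absurd (Nat.le_of_dvd (by omega) h3) (by omega)

/-- A character of degree prime to `p` is in the block for a self-centralizing Sylow subgroup. -/
theorem PData.mem_blk_of (hc : c = 1) {χ : IrrCharacter G} (h1 : χ ≠ oneChar G) (hd : ¬ p ∣ dg χ) : χ ∈ D.blk := by
  by_contra hn
  rw [D.mem_blk, not_or] at hn
  exact hd (D.dvd_outside hc χ h1 hn.1 hn.2)

include D in
/-- With odd normalizer no involution inverts the Sylow subgroup. -/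
theorem PData.no_inverters (hodd : ¬ 2 ∣ e * (p * c)) {x : G} (hx : x ∈ (D.P : Subgroup G)) (hx1 : x ≠ 1) {u : G}
    (hu : orderOf u = 2) : inverters u x = ∅ := by
  classical
  refine Finset.eq_empty_of_forall_notMem fun a ha => ?_
  obtain ⟨hc, hinv⟩ := mem_inverters.1 ha
  have hz : Subgroup.zpowers x = (D.P : Subgroup G) := Subgroup.eq_of_le_of_card_ge (Subgroup.zpowers_le.2 hx) (by
    rw [Nat.card_zpowers, CfsgLib.Char.MTwelveOrder.orderOf_mem D.card_P hx hx1, D.card_P])
  have haN : a ∈ Subgroup.normalizer ((D.P : Subgroup G) : Set G) := by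
    refine Subgroup.mem_normalizer_fintype fun w hw => ?_
    have hw' : w ∈ Subgroup.zpowers x := hz.symm ▸ hw
    obtain ⟨k, rfl⟩ := Subgroup.mem_zpowers_iff.1 hw'
    rw [← conj_zpow, hinv]
    exact zpow_mem ((D.P : Subgroup G).inv_mem hx) k
  have h1 := Subgroup.orderOf_dvd_natCard _ haN
  obtain ⟨t, ht⟩ := isConj_iff.1 hc
  rw [D.norm_P, ← ht, show orderOf (t * u * t⁻¹) = orderOf u from
    orderOf_injective (MulAut.conj t).toMonoidHom (MulEquiv.injective _) u, hu] at h1
  exact hodd h1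

/-- An involution commuting with an element of order five: congruence of the values. -/
theorem congr_five {x z : G} (hxz : Commute x z) (hx : orderOf x = 5) (hz : orderOf z = 2) (χ : IrrCharacter G)
    {v r : ℤ} (hv : (χ : G → ℂ) z = (v : ℂ)) (hr : ∀ j : ℕ, ¬ 5 ∣ j → (χ : G → ℂ) (x ^ j * z) = (r : ℂ)) :
    (5 : ℤ) ∣ v - r := by
  classical
  obtain ⟨n, ρ, hρ⟩ := CfsgLib.Char.isCharacter_irr χ
  obtain ⟨b, μ, hμ, -, hpow⟩ := CfsgLib.Char.exists_eigen_data ρ (x * z)
  rw [hxz.orderOf_mul_eq_mul_orderOf_of_coprime (by rw [hx, hz]; norm_num), hx, hz] at hμ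
  have hgeo : ∀ i, ∑ j ∈ range 5, μ i ^ (2 * j + 1) = if μ i ^ 2 = 1 then 5 * μ i else 0 := by
    intro i
    rw [Finset.sum_congr rfl fun j _ => show μ i ^ (2 * j + 1) = (μ i ^ 2) ^ j * μ i by rw [pow_succ, pow_mul],
      ← Finset.sum_mul]
    split_ifs with he
    · simp [he]
    · rw [geom_sum_eq he, ← pow_mul, hμ, sub_self, zero_div, zero_mul]
  have hsign : ∀ i, ∃ e : ℤ, (if μ i ^ 2 = 1 then μ i else 0) = (e : ℂ) := by
    intro i
    split_ifs with he
    · rcases sq_eq_one_iff.1 he with e | e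
      · exact ⟨1, by simp [e]⟩
      · exact ⟨-1, by simp [e]⟩
    · exact ⟨0, by simp⟩
  choose sg hsg using hsign
  have hz2 : z ^ 2 = 1 := by rw [← hz]; exact pow_orderOf_eq_one z
  have hpw : ∀ j, (x * z) ^ (2 * j + 1) = x ^ (2 * j + 1) * z := fun j => by
    rw [hxz.mul_pow]
    congr 1
    rw [pow_succ, pow_mul, hz2, one_pow, one_mul]
  have hx5 : x ^ 5 = 1 := by rw [← hx]; exact pow_orderOf_eq_one x
  have e1 : ∑ j ∈ range 5, (χ : G → ℂ) ((x * z) ^ (2 * j + 1)) = 5 * ((∑ i, sg i : ℤ) : ℂ) := by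
    rw [← hρ]
    simp only [hpow]
    rw [Finset.sum_comm]
    push_cast
    rw [Finset.mul_sum]
    refine Finset.sum_congr rfl fun i _ => ?_
    rw [hgeo, ← hsg]
    split_ifs <;> simp
  simp only [Finset.sum_range_succ, Finset.sum_range_zero, zero_add, hpw] at e1
  rw [hr 1 (by norm_num), hr 3 (by norm_num), hr 7 (by norm_num), hr 9 (by norm_num),
    show x ^ (2 * 2 + 1) * z = z by rw [show 2 * 2 + 1 = 5 from rfl, hx5, one_mul], hv] at e1
  have e2 : (((r + r + v + r + r : ℤ)) : ℂ) = ((5 * ∑ i, sg i : ℤ) : ℂ) := by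
    push_cast at e1 ⊢
    linear_combination e1
  have e3 : r + r + v + r + r = 5 * ∑ i, sg i := by exact_mod_cast e2
  exact ⟨(∑ i, sg i) - r, by linarith⟩

end CfsgLib.Char.MTwentyTwoOrder
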