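import Cfsg.Agent.Lib.Char.MTwentyTwoOrder.Blocks

/-!
# Simple groups of order 443520: the degree lists of the three principal blocks
-/

set_option autoImplicit false
set_option linter.all false

open Cfsg CfsgLib.Perm.PrimeBlock CfsgLib.Block Finset CfsgLib.Char.MEleven.Order CfsgLib.Char.MTwelveOrder

namespace CfsgLib.Char.MTwentyTwoOrder

universe u

theorem cands'_sub (p c : ℕ) (extra : ℕ → Bool) : ∀ s ∈ cands' p c extra, s ∈ cands' p 1 extra := by
  intro s hs
  simp only [cands', List.mem_filter, List.mem_flatMap, List.mem_range, Bool.and_eq_true] at hs ⊢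
  obtain ⟨⟨d, hd, hmem⟩, hmod, -⟩ := hs
  refine ⟨⟨d, hd, ?_⟩, hmod, by simp⟩
  split_ifs at hmem with hcond
  · have h1 : fullPart 1 d = false := by simp [fullPart, parts]
    rw [if_pos ⟨hcond.1, by rw [h1]; rfl⟩]
    exact hmem
  · simp at hmem

variable {G : Type u} [Group G] [Fintype G] [IsSimpleGroup G]

section General

variable {p e c : ℕ} [hp : Fact p.Prime] (D : PData G p e c)

/-- The signed values are among the bounded ones. -/
theorem PData.sv_vals (hG : ¬ IsMulCommutative G) {u : G} (hu : orderOf u = 2) {B : ℕ}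
    (hB : Nat.card (Subgroup.centralizer ({u} : Set G)) < B) {χ : IrrCharacter G} (hχ : χ ∈ D.S.X) :
    sv D.S u χ ∈ valsFor B (sd D.S χ) := by
  have hne : χ ≠ oneChar G := fun h => D.S.one_notMem_X (h ▸ hχ)
  obtain ⟨hlt, h4⟩ := iv_bound hG χ hne hu
  have hsq := sum_iv_sq_le {χ} (g := u) (fun ψ _ => val_invol hG ψ hu)
  rw [Finset.sum_singleton] at hsq
  have hB' : (Nat.card (Subgroup.centralizer ({u} : Set G)) : ℤ) < (B : ℤ) := by exact_mod_cast hB
  refine mem_valsFor ?_ ?_ ?_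
  · simp only [sd, sv]
    rcases D.S.sign_X χ hχ with hs | hs <;> simpa [hs] using hlt
  · simp only [sv]
    rcases D.S.sign_X χ hχ with hs | hs <;> rw [hs] <;> linarith
  · simp only [sd, sv]
    rcases D.S.sign_X χ hχ with hs | hs <;> rw [hs] <;> omega

/-- The conditions on the exceptional value. -/
theorem PData.exc_val (hG : ¬ IsMulCommutative G) (hep : e ∣ p - 1) (he : 1 ≤ e) (hodd : p ≠ 2) {u : G}
    (hu : orderOf u = 2) {X' : List (IrrCharacter G)} (hX' : List.Perm X' D.S.X.toList) :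
    let a := X'.map fun χ => (sd D.S χ, sv D.S u χ)
    (1 + (a.map Prod.snd).sum).natAbs < (1 + (a.map Prod.fst).sum).natAbs ∧
      ((1 + (a.map Prod.snd).sum) - (1 + (a.map Prod.fst).sum)) % 4 = 0 := by
  classical
  intro a
  obtain ⟨θ, hθ⟩ := nonempty_Y D.S hep he
  have hur : ¬ p ∣ orderOf u := by
    rw [hu]; exact fun h => hodd ((Nat.prime_dvd_prime_iff_eq hp.out Nat.prime_two).1 h)
  have e1 : (a.map Prod.fst).sum = ∑ χ ∈ D.S.X, sd D.S χ := by
    rw [List.map_map, (hX'.map _).sum_eq, Finset.sum_map_toList]; rfl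
  have e2 : (a.map Prod.snd).sum = ∑ χ ∈ D.S.X, sv D.S u χ := by
    rw [List.map_map, (hX'.map _).sum_eq, Finset.sum_map_toList]; rfl
  rw [e1, e2, ← rel_one D.S hθ, ← rel_val D.S hθ hur fun χ => val_invol hG χ hu]
  obtain ⟨hlt, h4⟩ := iv_bound hG θ (fun h => D.S.one_notMem_Y (h ▸ hθ)) hu
  rw [show dg θ = D.S.D from D.S.degree_Y θ hθ] at hlt h4
  refine ⟨?_, ?_⟩
  · rcases D.S.sign with hs | hs <;> simpa [hs] using hlt
  · rcases D.S.sign with hs | hs <;> rw [hs] <;> omega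

/-- The class equation of an involution on the block. -/
theorem PData.sq_eq (hG : ¬ IsMulCommutative G) (hep : e ∣ p - 1) (he : 1 ≤ e) (hodd : p ≠ 2) {x : G}
    (hx : x ∈ (D.P : Subgroup G)) (hx1 : x ≠ 1) {u : G} (hu : orderOf u = 2) {X' : List (IrrCharacter G)}
    (hX' : List.Perm X' D.S.X.toList) :
    let a := X'.map fun χ => (sd D.S χ, sv D.S u χ)
    let T := 1 + (a.map Prod.snd).sum
    let E := 1 + (a.map Prod.fst).sum
    ((Nat.card G * c : ℕ) : ℤ) * ((fracSum a).1 * E - T * T * (fracSum a).2) =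
      ((∑ y ∈ regCent p (D.P : Subgroup G), CfsgLib.Char.classConst u u (x * y) : ℕ) : ℤ) *
        (Nat.card (Subgroup.centralizer ({u} : Set G)) : ℤ) *
        (Nat.card (Subgroup.centralizer ({u} : Set G)) : ℤ) * ((fracSum a).2 * E) := by
  intro a T E
  have h := (good_assign hG D.S D.hout hodd hep he hx hx1 hu hX').1
  simp only [goodAssignK, Bool.and_eq_true, decide_eq_true_eq, beq_iff_eq,
    card_regCent D.P D.card_P D.cent_P] at h
  exact h.2

/-- With odd normalizer the equation is homogeneous. -/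
theorem PData.zero_col (hG : ¬ IsMulCommutative G) (hep : e ∣ p - 1) (he : 1 ≤ e) (hodd : p ≠ 2)
    (hc : 0 < c) (hN : ¬ 2 ∣ e * (p * c)) {u : G} (hu : orderOf u = 2) {X' : List (IrrCharacter G)}
    (hX' : List.Perm X' D.S.X.toList) :
    zeroE (X'.map fun χ => (sd D.S χ, sv D.S u χ)) = true := by
  classical
  obtain ⟨x, hx, hxo⟩ := D.exists_elt
  have hx1 : x ≠ 1 := fun h => hp.out.one_lt.ne' (by rw [← hxo, h, orderOf_one])
  have hk := exists_sq hodd D.P D.card_P D.cent_P hx hx1 hu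
  rw [D.no_inverters hN hx hx1 hu, Finset.card_empty, mul_zero] at hk
  have hk0 := (Nat.mul_eq_zero.1 hk).resolve_left hp.out.pos.ne'
  obtain ⟨hlt, h4⟩ := D.exc_val hG hep he hodd hu hX'
  have h := D.sq_eq hG hep he hodd hx hx1 hu hX'
  simp only [hk0, Nat.cast_zero, zero_mul] at h
  have hne : ((Nat.card G * c : ℕ) : ℤ) ≠ 0 := by
    exact_mod_cast (Nat.mul_pos Nat.card_pos hc).ne'
  simp only [zeroE, Bool.and_eq_true, decide_eq_true_eq, beq_iff_eq]
  exact ⟨⟨hlt, h4⟩, (mul_eq_zero.1 h).resolve_left hne⟩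

/-- An element of the block from its degree list. -/
theorem PData.exists_of_mem (hep : e ∣ p - 1) (he : 1 ≤ e) {X' : List (IrrCharacter G)}
    (hX' : List.Perm X' D.S.X.toList) {d : ℕ} (hd : d ∈ blockDegs ((p - 1) / e) (X'.map (sd D.S))) :
    ∃ χ ∈ D.blk, dg χ = d := by
  have h : d ∈ (↑(blockDegs ((p - 1) / e) (X'.map (sd D.S))) : Multiset ℕ) := hd
  rw [← D.blk_degs hep he hX'] at h
  obtain ⟨χ, hχ, hd⟩ := Multiset.mem_map.1 h
  exact ⟨χ, hχ, hd⟩

theorem PData.mem_degs (hep : e ∣ p - 1) (he : 1 ≤ e) {X' : List (IrrCharacter G)}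
    (hX' : List.Perm X' D.S.X.toList) {χ : IrrCharacter G} (hχ : χ ∈ D.blk) :
    dg χ ∈ blockDegs ((p - 1) / e) (X'.map (sd D.S)) := by
  have h : dg χ ∈ (↑(blockDegs ((p - 1) / e) (X'.map (sd D.S))) : Multiset ℕ) := by
    rw [← D.blk_degs hep he hX']
    exact Multiset.mem_map_of_mem dg hχ
  exact h

end General

local instance fact_five_deg : Fact (Nat.Prime 5) := ⟨by norm_num⟩
local instance fact_seven_deg : Fact (Nat.Prime 7) := ⟨by norm_num⟩
local instance fact_eleven_deg : Fact (Nat.Prime 11) := ⟨by norm_num⟩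

/-- The two cases at seven. -/
theorem seven_case (h : Nat.card G = 443520) (D11 : PData G 11 5 1) (D : PData G 7 3 1) :
    ∃ X' : List (IrrCharacter G), List.Perm X' D.S.X.toList ∧
      (X'.map (sd D.S) = sevenA ∨ X'.map (sd D.S) = sevenB) := by
  classical
  have hG := noncomm h
  obtain ⟨X', hX', hmem⟩ := exists_ordered D.S _ fun χ hχ =>
    cd7_eq ▸ D.mem_cands' h (extra := resEleven) (by norm_num) (by norm_num) (fun ψ _ => res_all D11 ψ) hχ
  obtain ⟨θ, hθ⟩ := nonempty_Y D.S (by norm_num) (by norm_num)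
  have hsum : 1 + (X'.map (sd D.S)).sum = D.S.ε * (D.S.D : ℤ) := by
    rw [(hX'.map _).sum_eq, Finset.sum_map_toList, ← rel_one D.S hθ]
  obtain ⟨hok, hmod⟩ : okAbs 443520 (443520 / 7) (D.S.ε * (D.S.D : ℤ)).natAbs = true ∧
      (D.S.ε * (D.S.D : ℤ)) % (7 : ℤ) = ((3 : ℕ) : ℤ) % (7 : ℤ) := by
    have := D.S.okAbs_Y hG (m := 443520 / 7) (by rw [h]) (by norm_num) (by norm_num) hθ
    rwa [h] at this
  have habs : (D.S.ε * (D.S.D : ℤ)).natAbs = D.S.D := by rcases D.S.sign with hs | hs <;> simp [hs]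
  have hOK : sevenOK (X'.map (sd D.S)) = true := by
    rw [habs] at hok
    simp only [sevenOK, hsum, hok, hmod, habs, Bool.and_eq_true]
    refine ⟨⟨trivial, ?_⟩, by norm_num⟩
    rw [← D.S.degree_Y θ hθ]
    exact res_all D11 θ
  obtain ⟨u, hu⟩ : ∃ u : G, orderOf u = 2 := by
    haveI : Fact (Nat.Prime 2) := ⟨Nat.prime_two⟩
    exact exists_prime_orderOf_dvd_card' 2 (by rw [h]; norm_num)
  have hcol : sevenCol (X'.map (sd D.S)) = true := by
    refine List.any_eq_true.2 ⟨X'.map fun χ => (sd D.S χ, sv D.S u χ), mem_assignsF _ _ _ X' fun χ hχ => ?_,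
      D.zero_col hG (by norm_num) (by norm_num) (by norm_num) (by norm_num) (by norm_num) hu hX'⟩
    have hχX : χ ∈ D.S.X := Finset.mem_toList.1 (hX'.mem_iff.1 hχ)
    obtain ⟨hlt, h4⟩ := iv_bound hG χ (fun he => D.S.one_notMem_X (he ▸ hχX)) hu
    refine mem_valsFor ?_ ?_ ?_
    · simp only [sd, sv]
      rcases D.S.sign_X χ hχX with hs | hs <;> simpa [hs] using hlt
    · have h1 : (iv χ u).natAbs < (sd D.S χ).natAbs := by rw [natAbs_sd D.S hχX]; exact hlt
      rw [Int.natCast_natAbs, abs_mul_self, sv]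
      have h2 := Int.natAbs_lt_iff_mul_self_lt.1 h1
      rcases D.S.sign_X χ hχX with hs | hs <;> rw [hs] <;> simpa using h2
    · simp only [sd, sv]
      rcases D.S.sign_X χ hχX with hs | hs <;> rw [hs] <;> omega
  exact ⟨X', hX', seven_lists _ hmem hOK hcol⟩

/-- The lists at five and eleven, given the list at seven. -/
theorem five_gen (h : Nat.card G = 443520) (D11 : PData G 11 5 1) (D7 : PData G 7 3 1) {e c : ℕ}
    (D5 : PData G 5 e c) (he : e = 2 ∨ e = 4) (hc5 : ¬ 5 ∣ c) {l7 : List ℤ} {X7 : List (IrrCharacter G)}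
    (hX7 : List.Perm X7 D7.S.X.toList) (hl7 : X7.map (sd D7.S) = l7) {L5 L11 : List ℤ}
    (hL5 : cands' 5 1 (ext5 (blockDegs 2 l7)) = L5) (hL11 : cands' 11 1 (ext11 (blockDegs 2 l7)) = L11)
    (h2 : ∀ l ∈ combos L5 1, fiveOK (blockDegs 2 l7) 2 l = false) {P : List (List ℤ × List ℤ)}
    (hP : ∀ l5 ∈ combos L5 3, fiveOK (blockDegs 2 l7) 4 l5 = true → ∀ l ∈ combos L11 4,
      elevenOK (blockDegs 2 l7) l = true → subBag (nd 11) (blockDegs 1 l5) (blockDegs 2 l) = true → (l5, l) ∈ P) :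
    e = 4 ∧ ∃ X5 X11 : List (IrrCharacter G), List.Perm X5 D5.S.X.toList ∧ List.Perm X11 D11.S.X.toList ∧
      (X5.map (sd D5.S), X11.map (sd D11.S)) ∈ P := by
  classical
  have hG := noncomm h
  have hep : e ∣ 5 - 1 := by rcases he with rfl | rfl <;> norm_num
  have he1 : 1 ≤ e := by omega
  have he2 : 2 ≤ e := by omega
  have hb7 : D7.blk.val.map dg = ↑(blockDegs 2 l7) := by
    have := D7.blk_degs (by norm_num) (by norm_num) hX7
    rwa [hl7] at this
  have hseven : ∀ χ : IrrCharacter G, χ ≠ oneChar G → (dg χ % 7 == 0 || (blockDegs 2 l7).contains (dg χ)) = true := by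
    intro χ hne
    by_cases h7 : dg χ % 7 = 0
    · simp [h7]
    · have hm : dg χ ∈ (↑(blockDegs 2 l7) : Multiset ℕ) := by
        rw [← hb7]
        exact Multiset.mem_map_of_mem dg (D7.mem_blk_of rfl hne fun hd => h7 (Nat.mod_eq_zero_of_dvd hd))
      simp [List.contains_iff_mem, Multiset.mem_coe.1 hm]
  have hext5 : ∀ χ : IrrCharacter G, χ ≠ oneChar G → ext5 (blockDegs 2 l7) (dg χ) = true := fun χ hne => by
    rw [ext5, res_all D11 χ, hseven χ hne]; rfl
  obtain ⟨X5, hX5, hm5⟩ := exists_ordered D5.S L5 fun χ hχ =>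
    hL5 ▸ cands'_sub _ _ _ _ (D5.mem_cands' h (by norm_num) hc5 hext5 hχ)
  obtain ⟨X11, hX11, hm11⟩ := exists_ordered D11.S L11 fun χ hχ =>
    hL11 ▸ D11.mem_cands' h (extra := ext11 (blockDegs 2 l7)) (by norm_num) (by norm_num) hseven hχ
  obtain ⟨θ, hθ⟩ := nonempty_Y D5.S hep he1
  have hfive : fiveOK (blockDegs 2 l7) e (X5.map (sd D5.S)) = true := by
    obtain ⟨hok, hmod⟩ : okAbs 443520 (443520 / 5) (D5.S.ε * (D5.S.D : ℤ)).natAbs = true ∧
        (D5.S.ε * (D5.S.D : ℤ)) % (5 : ℤ) = (e : ℤ) % (5 : ℤ) := by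
      have := D5.S.okAbs_Y hG (m := 443520 / 5) (by rw [h]) hep he2 hθ
      rwa [h] at this
    have hsum : 1 + (X5.map (sd D5.S)).sum = D5.S.ε * (D5.S.D : ℤ) := by
      rw [(hX5.map _).sum_eq, Finset.sum_map_toList, ← rel_one D5.S hθ]
    have habs : (D5.S.ε * (D5.S.D : ℤ)).natAbs = D5.S.D := by rcases D5.S.sign with hs | hs <;> simp [hs]
    have hb5 := D5.blk_degs hep he1 hX5
    rw [habs] at hok
    simp only [fiveOK, hsum, hok, hmod, habs, Bool.and_eq_true, beq_self_eq_true, true_and]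
    refine ⟨?_, ?_⟩
    · rw [← D5.S.degree_Y θ hθ]
      exact hext5 θ fun hh => D5.S.one_notMem_Y (hh ▸ hθ)
    · exact subBag_of dg (nd 7) (fun χ hχ h7 => D7.mem_blk_of rfl (D5.blk_ne_one hχ) fun hd => by
        simp [nd, Nat.mod_eq_zero_of_dvd hd] at h7) hb5 hb7
  have he4 : e = 4 := by
    rcases he with rfl | rfl
    · rw [h2 _ hm5] at hfive
      exact absurd hfive (by simp)
    · rfl
  subst he4
  refine ⟨rfl, X5, X11, hX5, hX11, hP _ hm5 hfive _ hm11 ?_ ?_⟩
  · obtain ⟨θ', hθ'⟩ := nonempty_Y D11.S (by norm_num) (by norm_num)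
    obtain ⟨hok, hmod⟩ : okAbs 443520 (443520 / 11) (D11.S.ε * (D11.S.D : ℤ)).natAbs = true ∧
        (D11.S.ε * (D11.S.D : ℤ)) % (11 : ℤ) = ((5 : ℕ) : ℤ) % (11 : ℤ) := by
      have := D11.S.okAbs_Y hG (m := 443520 / 11) (by rw [h]) (by norm_num) (by norm_num) hθ'
      rwa [h] at this
    have hsum : 1 + (X11.map (sd D11.S)).sum = D11.S.ε * (D11.S.D : ℤ) := by
      rw [(hX11.map _).sum_eq, Finset.sum_map_toList, ← rel_one D11.S hθ']
    have habs : (D11.S.ε * (D11.S.D : ℤ)).natAbs = D11.S.D := by rcases D11.S.sign with hs | hs <;> simp [hs]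
    have hb11 := D11.blk_degs (by norm_num) (by norm_num) hX11
    rw [habs] at hok
    simp only [elevenOK, hsum, hok, hmod, habs, Bool.and_eq_true]
    refine ⟨⟨⟨⟨trivial, by norm_num⟩, ?_⟩, ?_⟩, ?_⟩
    · rw [← D11.S.degree_Y θ' hθ']
      exact hseven θ' fun hh => D11.S.one_notMem_Y (hh ▸ hθ')
    · exact subBag_of dg (nd 7) (fun χ hχ h7 => D7.mem_blk_of rfl (D11.blk_ne_one hχ) fun hd => by
        simp [nd, Nat.mod_eq_zero_of_dvd hd] at h7) hb11 hb7
    · exact subBag_of dg (nd 11) (fun χ hχ h7 => D11.mem_blk_of rfl (D7.blk_ne_one hχ) fun hd => by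
        simp [nd, Nat.mod_eq_zero_of_dvd hd] at h7) hb7 hb11
  · exact subBag_of dg (nd 11) (fun χ hχ h7 => D11.mem_blk_of rfl (D5.blk_ne_one hχ) fun hd => by
      simp [nd, Nat.mod_eq_zero_of_dvd hd] at h7) (D5.blk_degs (by norm_num) (by norm_num) hX5)
      (D11.blk_degs (by norm_num) (by norm_num) hX11)

/-- The prime five: automizer of order four and five cases for the centralizer. -/
theorem exists_five (h : Nat.card G = 443520) (D11 : PData G 11 5 1) (D7 : PData G 7 3 1) :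
    ∃ (c : ℕ) (D5 : PData G 5 4 c) (l7 : List ℤ) (P : List (List ℤ × List ℤ))
      (X7 X5 X11 : List (IrrCharacter G)),
      c ∈ [96, 36, 16, 6, 1] ∧ ((l7 = sevenA ∧ P = pairsA) ∨ (l7 = sevenB ∧ P = pairsB)) ∧
        List.Perm X7 D7.S.X.toList ∧ List.Perm X5 D5.S.X.toList ∧ List.Perm X11 D11.S.X.toList ∧
        X7.map (sd D7.S) = l7 ∧ (X5.map (sd D5.S), X11.map (sd D11.S)) ∈ P := by
  obtain ⟨n, e, c, hn, hn1, hn2, he2, hep, hpc, ⟨D⟩⟩ :=
    exists_pdata (noncomm h) 5 88704 (by norm_num) (by rw [h]) (by norm_num)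
  have hposs := D.possible'_eq h (extra := resEleven) (by norm_num) hep he2 hpc (fun χ _ => res_all D11 χ)
  have hel : e ∈ [2, 4] := by
    have := Nat.le_of_dvd (by norm_num) hep
    interval_cases e <;> simp_all
  have hn' : n = 5 * (n / 5) + 1 := by omega
  have hle := Nat.le_of_dvd (by norm_num) (⟨e * c, hn.symm⟩ : n ∣ 88704)
  obtain ⟨j, hj⟩ : ∃ j, n / 5 = j := ⟨_, rfl⟩
  rw [hj] at hn'
  subst hn'
  have hjj : j = 134 * (j / 134) + j % 134 := by omega
  have hmem := five_n' (j / 134) (by omega) (j % 134) (by omega)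
    (by rw [← hjj]; exact Nat.mod_eq_zero_of_dvd ⟨_, hn.symm⟩)
  rw [← hjj] at hmem
  have hmem' : j ∈ [1, 2, 3, 4, 7, 11, 13, 19, 25, 35, 46, 67, 79, 115, 123, 179, 211, 277, 403, 739, 1267, 1971,
      4435] := by
    simp only [List.mem_cons, List.not_mem_nil, or_false] at hmem ⊢
    omega
  have hd : (5 * j + 1) * e ∣ 88704 := ⟨c, by rw [← hn]; ring⟩
  have hc : 88704 / ((5 * j + 1) * e) = c := by
    rw [show 88704 = (5 * j + 1) * e * c by rw [← hn]; ring,
      Nat.mul_div_cancel_left _ (Nat.mul_pos (by omega) (by omega))]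
  obtain ⟨x, hx, hxo⟩ := D.exists_elt
  have hcq : ∀ q : ℕ, q.Prime → ∀ {e' : ℕ} [Fact q.Prime] (D' : PData G q e' 1), q ≠ 5 → c % q ≠ 0 := by
    intro q hq e' _ D' hq5 h0
    obtain ⟨y', hy'⟩ := exists_prime_orderOf_dvd_card'
      (G := Subgroup.centralizer ((D.P : Subgroup G) : Set G)) q (by
        rw [D.cent_P]; exact (Nat.dvd_of_mod_eq_zero h0).mul_left 5)
    have h1 := D'.cent_eq_one (x := (y' : G)) (y := x) (by rw [Subgroup.orderOf_coe, hy']) rfl
      ((Subgroup.mem_centralizer_iff.1 y'.2 x hx).symm) (by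
        rw [hxo]; exact fun hd => hq5 ((Nat.prime_dvd_prime_iff_eq hq (by norm_num)).1 hd))
    rw [h1, orderOf_one] at hxo
    norm_num at hxo
  have hlist := five_tests j hmem' e hel (Nat.mod_eq_zero_of_dvd hd)
    (by rw [hc]; exact hcq 11 (by norm_num) D11 (by norm_num))
    (by rw [hc]; exact hcq 7 (by norm_num) D7 (by norm_num)) (by rw [hc]; exact hposs)
  rw [hc] at hlist
  have he : e = 2 ∨ e = 4 := by simpa using hel
  have hfin : ∀ (he4 : e = 4), c ∈ [96, 36, 16, 6, 1] := by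
    rintro rfl
    have h1 : (5 * j + 1) * c = 22176 := by linarith
    have h2 : c % 5 = 1 := by
      have := congrArg (fun z => z % 5) h1
      simpa [Nat.mul_mod, Nat.add_mod] using this
    simp only [List.mem_cons, List.not_mem_nil, or_false] at hlist ⊢
    rcases hlist with rfl | rfl | rfl | rfl | rfl | rfl | rfl | rfl | rfl | rfl <;> omega
  obtain ⟨X7, hX7, hA | hB⟩ := seven_case h D11 D7
  · obtain ⟨rfl, X5, X11, h5, h11, hP⟩ := five_gen h D11 D7 D he hpc hX7 hA cd5A_eq cd11A_eq five_two_A pairs_A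
    exact ⟨c, D, _, _, X7, X5, X11, hfin rfl, Or.inl ⟨rfl, rfl⟩, hX7, h5, h11, hA, hP⟩
  · obtain ⟨rfl, X5, X11, h5, h11, hP⟩ := five_gen h D11 D7 D he hpc hX7 hB cd5B_eq cd11B_eq five_two_B pairs_B
    exact ⟨c, D, _, _, X7, X5, X11, hfin rfl, Or.inr ⟨rfl, rfl⟩, hX7, h5, h11, hB, hP⟩

end CfsgLib.Char.MTwentyTwoOrder
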