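import Cfsg.Agent.Lib.Char.MTwentyTwoOrder.Counting
import Cfsg.Agent.Lib.Char.MEleven.Order.Nse

/-!
# Groups with eight self-centralizing Sylow subgroups of order seven
-/

set_option autoImplicit false
set_option linter.all false

open Subgroup MulAction
open scoped Pointwise

namespace CfsgLib.Char.MTwentyTwoOrder

universe u

variable {Q : Type u} [Group Q] [Finite Q]

local instance fact_seven_eight : Fact (Nat.Prime 7) := ⟨by norm_num⟩

/-- An involution normalising a subgroup of prime order whose non-trivial elements it does not centralize inverts it. -/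
theorem inv_of_normalizes {p : ℕ} [hp : Fact p.Prime] {P : Subgroup Q} (hP : Nat.card P = p)
    (hC : ∀ y ∈ P, y ≠ 1 → centralizer ({y} : Set Q) ≤ P) {g : Q} (hg2 : g * g = 1) (hgP : g ∉ P)
    (hgN : g ∈ normalizer (P : Set Q)) {x : Q} (hx : x ∈ P) : g * x * g⁻¹ = x⁻¹ := by
  have hgx : g * x * g⁻¹ ∈ P := (mem_normalizer_iff.1 hgN x).1 hx
  haveI : IsCyclic P := isCyclic_of_prime_card hP
  have hcomm : g * x * g⁻¹ * x = x * (g * x * g⁻¹) := by
    letI : CommGroup P := IsCyclic.commGroup
    exact congrArg Subtype.val (mul_comm (⟨_, hgx⟩ : P) ⟨x, hx⟩)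
  have hinv : g⁻¹ = g := inv_eq_of_mul_eq_one_right hg2
  have hfix : g * (g * x * g⁻¹ * x) * g⁻¹ = g * x * g⁻¹ * x := by
    rw [hcomm]
    calc g * (x * (g * x * g⁻¹)) * g⁻¹ = g * x * (g * x * (g⁻¹ * g⁻¹)) := by group
      _ = g * x * (g⁻¹ * x) := by rw [hinv, hg2, mul_one, mul_assoc]
      _ = g * x * g⁻¹ * x := by group
      _ = x * (g * x * g⁻¹) := hcomm
  by_contra hne
  refine hgP (hC _ (P.mul_mem hgx hx) (fun h1 => hne (eq_inv_of_mul_eq_one_left h1)) ?_)
  exact mem_centralizer_singleton_iff.2 (mul_inv_eq_iff_eq_mul.1 hfix)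

/-- The non-trivial elements of a self-centralizing subgroup of prime order have no other centralizer. -/
theorem cent_le_of_self {p : ℕ} [hp : Fact p.Prime] {P : Subgroup Q} (hP : Nat.card P = p)
    (hC : centralizer (P : Set Q) ≤ P) : ∀ y ∈ P, y ≠ 1 → centralizer ({y} : Set Q) ≤ P := by
  intro y hy hy1 g hg
  refine hC (mem_centralizer_iff.2 fun w hw => ?_)
  haveI : IsCyclic P := isCyclic_of_prime_card hP
  have hgen : (w : Q) ∈ zpowers y := by
    have hz : zpowers y = P := eq_of_le_of_card_ge (zpowers_le.2 hy) (by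
      have h1 := Subgroup.orderOf_dvd_natCard P hy
      rw [hP] at h1
      rw [hP, Nat.card_zpowers]
      rcases (Nat.dvd_prime hp.out).1 h1 with h2 | h2
      · exact absurd (orderOf_eq_one_iff.1 h2) hy1
      · exact h2.ge)
    rw [hz]; exact hw
  obtain ⟨k, rfl⟩ := mem_zpowers_iff.1 hgen
  have hc : Commute g y := (mem_centralizer_singleton_iff.1 hg)
  exact (hc.zpow_right k).eq.symm

/-- The other seven Sylow subgroups form one orbit of each. -/
theorem orbit_others (P : Sylow 7 Q) (hP : Nat.card (P : Subgroup Q) = 7) (h8 : Nat.card (Sylow 7 Q) = 8)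
    {R R' : Sylow 7 Q} (hR : R ≠ P) (hR' : R' ≠ P) : ∃ x ∈ (P : Subgroup Q), x • R = R' := by
  classical
  have horb : (MulAction.orbit (P : Subgroup Q) R) ⊆ {P}ᶜ := by
    rintro S ⟨x, rfl⟩ hS
    have hxP : (x : Q) • P = P := Sylow.smul_eq_iff_mem_normalizer.2 (le_normalizer x.2)
    exact hR (MulAction.injective (x : Q) ((Set.mem_singleton_iff.1 hS).trans hxP.symm))
  obtain ⟨k, hk⟩ := (P.isPGroup'.card_orbit R)
  have hle : Nat.card (MulAction.orbit (P : Subgroup Q) R) ≤ 7 := by
    have h := Nat.card_mono (Set.toFinite _) horb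
    rw [Nat.card_coe_set_eq ({P}ᶜ), Set.ncard_compl, Set.ncard_singleton, h8] at h
    omega
  have hne1 : Nat.card (MulAction.orbit (P : Subgroup Q) R) ≠ 1 := by
    intro h1
    have hfix : ∀ x : (P : Subgroup Q), (x : Q) • R = R := fun x => by
      have := Nat.card_eq_one_iff_unique.1 h1
      have e := @Subsingleton.elim _ this.1 ⟨x • R, MulAction.mem_orbit R x⟩ ⟨R, MulAction.mem_orbit_self R⟩
      exact congrArg Subtype.val e
    have hle' : (P : Subgroup Q) ≤ (R : Subgroup Q) := by
      have h := IsPGroup.inf_normalizer_sylow P.isPGroup' R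
      exact (le_inf le_rfl (fun x hx => Sylow.smul_eq_iff_mem_normalizer.1 (hfix ⟨x, hx⟩))).trans
        (h.le.trans inf_le_right)
    exact hR (Sylow.ext (P.is_maximal' R.isPGroup' hle'))
  have h7 : Nat.card (MulAction.orbit (P : Subgroup Q) R) = 7 := by
    rcases k with _ | _ | k
    · exact absurd hk hne1
    · simpa using hk
    · exfalso
      rw [hk, pow_succ, pow_succ] at hle
      have := Nat.one_le_pow k 7 (by norm_num)
      nlinarith
  have heq : MulAction.orbit (P : Subgroup Q) R = {P}ᶜ := by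
    refine Set.eq_of_subset_of_ncard_le horb ?_
    rw [Set.ncard_compl, Set.ncard_singleton, h8, ← Nat.card_coe_set_eq, h7]
  obtain ⟨x, hx⟩ : R' ∈ MulAction.orbit (P : Subgroup Q) R := by rw [heq]; exact hR'
  exact ⟨x, x.2, hx⟩

/-- An involution inverting a Sylow subgroup fixes exactly one further Sylow subgroup. -/
theorem fixed_two (P : Sylow 7 Q) (hP : Nat.card (P : Subgroup Q) = 7)
    (hC : centralizer ((P : Subgroup Q) : Set Q) ≤ P) (h8 : Nat.card (Sylow 7 Q) = 8)
    {g : Q} (hg : orderOf g = 2) (hgP : g • P = P) : Nat.card {R : Sylow 7 Q // g • R = R} = 2 := by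
  classical
  haveI : Fact (Nat.Prime 2) := ⟨Nat.prime_two⟩
  have hg2 : g * g = 1 := by
    have := pow_orderOf_eq_one g
    rwa [hg, pow_two] at this
  have hgnP : g ∉ (P : Subgroup Q) := fun h => by
    have := Subgroup.orderOf_dvd_natCard _ h
    rw [hg, hP] at this
    norm_num at this
  have hinv := fun x hx => inv_of_normalizes hP (cent_le_of_self hP hC) hg2 hgnP
    (Sylow.smul_eq_iff_mem_normalizer.1 hgP) (x := x) hx
  have huniq : ∀ R R' : Sylow 7 Q, R ≠ P → R' ≠ P → g • R = R → g • R' = R' → R = R' := by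
    intro R R' hR hR' h1 h2
    obtain ⟨x, hx, rfl⟩ := orbit_others P hP h8 hR hR'
    have h3 : x⁻¹ • R = x • R := by
      rw [← hinv x hx, mul_smul, mul_smul, inv_eq_of_mul_eq_one_right hg2, h1, h2]
    have h4 : (x * x) • R = R := by rw [mul_smul, ← h3, smul_inv_smul]
    have h7 : x ^ 7 = 1 := by
      have := Subgroup.orderOf_dvd_natCard _ hx
      rw [hP] at this
      exact orderOf_dvd_iff_pow_eq_one.1 this
    have h8' : ((x * x) ^ 4) • R = R := by
      simp only [pow_succ, pow_zero, one_mul, mul_smul] at *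
      simp only [h4]
    rw [show (x * x) ^ 4 = x by rw [← sq, ← pow_mul, pow_succ, h7, one_mul]] at h8'
    exact h8'.symm
  -- the number of fixed points is even
  let act : MulAction (zpowers g) (Sylow 7 Q) := MulAction.compHom _ (zpowers g).subtype
  have hP2 : IsPGroup 2 (zpowers g) := IsPGroup.of_card (n := 1) (by rw [Nat.card_zpowers, hg, pow_one])
  have hmod := hP2.card_modEq_card_fixedPoints (Sylow 7 Q)
  have hfp : Nat.card (MulAction.fixedPoints (zpowers g) (Sylow 7 Q)) =
      Nat.card {R : Sylow 7 Q // g • R = R} := by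
    refine Nat.card_congr (Equiv.subtypeEquivRight fun R => ⟨fun h => h ⟨g, mem_zpowers g⟩, fun h => ?_⟩)
    rintro ⟨w, hw⟩
    obtain ⟨k, rfl⟩ := mem_zpowers_iff.1 hw
    show (g ^ k) • R = R
    have : g ∈ stabilizer Q R := h
    exact zpow_mem this k
  rw [hfp, h8] at hmod
  obtain ⟨n, hn⟩ : ∃ n, Nat.card {R : Sylow 7 Q // g • R = R} = n := ⟨_, rfl⟩
  rw [hn] at hmod ⊢
  have hpos : 0 < n := by
    rw [← hn]
    haveI : Nonempty {R : Sylow 7 Q // g • R = R} := ⟨⟨P, hgP⟩⟩
    exact Nat.card_pos
  have hle : n ≤ 2 := by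
    rw [← hn]
    have hinj : Function.Injective fun R : {R : Sylow 7 Q // g • R = R} => decide (R.1 = P) := by
      intro a b hab
      simp only [decide_eq_decide] at hab
      by_cases ha : a.1 = P
      · exact Subtype.ext (ha.trans (hab.1 ha).symm)
      · exact Subtype.ext (huniq _ _ ha (fun hb => ha (hab.2 hb)) a.2 b.2)
    have := Nat.card_le_card_of_injective _ hinj
    simpa using this
  unfold Nat.ModEq at hmod
  omega

/-- The sign of an involution acting on eight points, two of which it fixes. -/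
theorem sign_two_fixed {α : Type u} [Fintype α] [DecidableEq α] (σ : Equiv.Perm α) (hσ : σ ^ 2 = 1)
    (h8 : Fintype.card α = 8) :
    (Nat.card {a : α // σ a = a} = 2 → Equiv.Perm.sign σ = -1) ∧
      (Nat.card {a : α // σ a = a} = 0 → Equiv.Perm.sign σ = 1) := by
  haveI : Fact (Nat.Prime 2) := ⟨Nat.prime_two⟩
  have hc : σ.cycleType = Multiset.replicate (Multiset.card σ.cycleType) 2 :=
    Multiset.eq_replicate.2 ⟨rfl, Equiv.Perm.pow_prime_eq_one_iff.1 hσ⟩
  have hsum : σ.cycleType.sum = 2 * Multiset.card σ.cycleType := by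
    conv_lhs => rw [hc]
    rw [Multiset.sum_replicate, smul_eq_mul, mul_comm]
  have hfix := Equiv.Perm.card_fixedPoints σ
  have hle := Equiv.Perm.sum_cycleType_le σ
  rw [h8] at hfix hle
  have hn : Nat.card {a : α // σ a = a} = 8 - σ.cycleType.sum := by
    rw [← hfix, ← Nat.card_eq_fintype_card]
    rfl
  rw [Equiv.Perm.sign_of_cycleType, hsum]
  refine ⟨fun h => ?_, fun h => ?_⟩
  · have h3 : Multiset.card σ.cycleType = 3 := by omega
    rw [h3]; rfl
  · have h4 : Multiset.card σ.cycleType = 4 := by omega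
    rw [h4]; rfl

/-- In a group of order 56 with eight Sylow subgroups of order seven there is only one subgroup of order eight. -/
theorem unique_eight (hcard : Nat.card Q = 56) (hS : Nat.card (Sylow 7 Q) = 8) :
    ∃ E : Subgroup Q, Nat.card E = 8 ∧ ∀ E' : Subgroup Q, Nat.card E' = 8 → E' = E := by
  classical
  haveI : Fact (Nat.Prime 2) := ⟨Nat.prime_two⟩
  haveI := Fintype.ofFinite Q
  have hS7 : ∀ S : Sylow 7 Q, Nat.card (S : Subgroup Q) = 7 := fun S => by
    rw [S.card_eq_multiplicity, hcard, show (56 : ℕ) = 7 ^ 1 * 8 by norm_num,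
      Nat.factorization_mul (by norm_num) (by norm_num), Nat.Prime.factorization_pow (by norm_num)]
    simp [Nat.factorization_eq_zero_of_not_dvd (show ¬ 7 ∣ 8 by norm_num)]
  have h48 := CfsgLib.Char.MEleven.Order.card_order_prime hS7
  rw [hS] at h48
  set A : Finset Q := Finset.univ.filter (fun g => orderOf g ≠ 7) with hA
  have hA8 : A.card = 8 := by
    have h1 := Finset.card_filter_add_card_filter_not (s := (Finset.univ : Finset Q)) (fun g => orderOf g = 7)
    rw [← Fintype.card_subtype, ← Nat.card_eq_fintype_card, h48, Finset.card_univ, ← Nat.card_eq_fintype_card,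
      hcard] at h1
    simp only [hA, ne_eq]
    omega
  have key : ∀ E : Subgroup Q, Nat.card E = 8 → ∀ w, w ∈ E ↔ w ∈ A := by
    intro E hE
    have hsub : (Finset.univ.filter fun g : Q => g ∈ E) ⊆ A := by
      intro g hg
      simp only [Finset.mem_filter, Finset.mem_univ, true_and] at hg
      simp only [hA, Finset.mem_filter, Finset.mem_univ, true_and]
      intro h7
      have := Subgroup.orderOf_dvd_natCard E hg
      rw [hE, h7] at this
      norm_num at this
    have heq := Finset.eq_of_subset_of_card_le hsub (by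
      rw [hA8, ← hE, ← Fintype.card_subtype, ← Nat.card_eq_fintype_card])
    intro w
    rw [← heq]
    simp
  obtain ⟨E, hE⟩ := Sylow.exists_subgroup_card_pow_prime (G := Q) 2 (n := 3) (by rw [hcard]; norm_num)
  refine ⟨E, by rw [hE]; norm_num, fun E' hE' => ?_⟩
  ext w
  rw [key E' hE' w, key E (by rw [hE]; norm_num) w]

/-- A group of order 168 with a self-centralizing Sylow subgroup of order seven and no normal subgroup of order
eight is simple. -/
theorem simple_168 (hcard : Nat.card Q = 168) (P : Sylow 7 Q) (hP : Nat.card (P : Subgroup Q) = 7)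
    (hC : centralizer ((P : Subgroup Q) : Set Q) ≤ P)
    (hN : Nat.card (normalizer ((P : Subgroup Q) : Set Q)) = 21)
    (h8 : ∀ E : Subgroup Q, E.Normal → Nat.card E ≠ 8) : IsSimpleGroup Q := by
  classical
  haveI : Nontrivial Q := Finite.one_lt_card_iff_nontrivial.1 (by rw [hcard]; norm_num)
  refine ⟨fun E hE => ?_⟩
  haveI := hE
  by_cases h7 : 7 ∣ Nat.card E
  · right
    obtain ⟨R'⟩ : Nonempty (Sylow 7 E) := inferInstance
    obtain ⟨R, hR⟩ := (R'.isPGroup'.map E.subtype).exists_le_sylow
    have hR7 : Nat.card (R'.toSubgroup.map E.subtype) = 7 := by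
      rw [card_map_of_injective E.subtype_injective, R'.card_eq_multiplicity]
      have hd : Nat.card E ∣ 168 := hcard ▸ card_subgroup_dvd_card E
      obtain ⟨m, hm⟩ := h7
      rw [hm] at hd ⊢
      have hm24 : m ∣ 24 := by
        have : 7 * m ∣ 7 * 24 := by simpa using hd
        exact (Nat.mul_dvd_mul_iff_left (by norm_num)).1 this
      have hm7 : ¬ 7 ∣ m := fun h => by
        have := h.trans hm24
        norm_num at this
      rw [show 7 * m = 7 ^ 1 * m by norm_num, Nat.factorization_mul (by norm_num) (by intro h0; simp [h0] at hm24),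
        Nat.Prime.factorization_pow (by norm_num)]
      simp [Nat.factorization_eq_zero_of_not_dvd hm7]
    obtain ⟨g, hg⟩ := MulAction.exists_smul_eq Q R P
    have hPE : (P : Subgroup Q) ≤ E := by
      have hRE : (R : Subgroup Q) ≤ E := by
        have hR7' : Nat.card (R : Subgroup Q) = 7 := by
          rw [R.card_eq_multiplicity, ← P.card_eq_multiplicity, hP]
        rw [← eq_of_le_of_card_ge hR (by rw [hR7, hR7'])]
        exact map_subtype_le _
      intro x hx
      rw [← hg, Sylow.coe_subgroup_smul] at hx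
      obtain ⟨y, hy, rfl⟩ := hx
      exact hE.conj_mem y (hRE hy) g
    obtain ⟨j, hj, hEj⟩ := sylow_split P hPE
    have hd1 : Nat.card ↥(E ⊓ normalizer ((P : Subgroup Q) : Set Q)) ∣ 21 := hN ▸ card_dvd_of_le inf_le_right
    have hd2 : 7 ∣ Nat.card ↥(E ⊓ normalizer ((P : Subgroup Q) : Set Q)) := by
      have := card_dvd_of_le (le_inf hPE (le_normalizer (H := (P : Subgroup Q))))
      rwa [hP] at this
    have hd3 : Nat.card E ∣ 168 := hcard ▸ card_subgroup_dvd_card E
    obtain ⟨d, hd⟩ : ∃ d, Nat.card ↥(E ⊓ normalizer ((P : Subgroup Q) : Set Q)) = d := ⟨_, rfl⟩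
    rw [hd] at hd1 hd2 hEj
    have hd' : d = 7 ∨ d = 21 := by
      have := Nat.le_of_dvd (by norm_num) hd1
      obtain ⟨k, rfl⟩ := hd2
      have hk : k ≤ 3 := by omega
      interval_cases k <;> simp_all
    have hn8 : Nat.card (Sylow 7 Q) = 8 := by
      have h1 : Nat.card (Sylow 7 Q) = (normalizer ((P : Subgroup Q) : Set Q)).index := P.card_eq_index_normalizer
      have h2 := card_mul_index (normalizer ((P : Subgroup Q) : Set Q))
      rw [hN, hcard, ← h1] at h2
      omega
    have hj' : j = 1 ∨ j = 8 := by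
      have : j ∣ 24 := by
        have h1 : 7 * j ∣ 7 * 24 := by
          refine Dvd.dvd.trans ?_ hd3
          rw [hEj, mul_comm 7 j]
          rcases hd' with rfl | rfl
          · exact dvd_rfl
          · exact mul_dvd_mul_left j (by norm_num)
        exact (Nat.mul_dvd_mul_iff_left (by norm_num)).1 h1
      have := Nat.le_of_dvd (by norm_num) this
      interval_cases j <;> omega
    rcases hj' with rfl | rfl
    · exfalso
      have hEN : E ≤ normalizer ((P : Subgroup Q) : Set Q) :=
        inf_eq_left.1 (eq_of_le_of_card_ge inf_le_left (by rw [hd, hEj, one_mul]))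
      have hall : ∀ R : Sylow 7 Q, R = P := by
        intro R
        obtain ⟨g, rfl⟩ := MulAction.exists_smul_eq Q P R
        have hle : ((g • P : Sylow 7 Q) : Subgroup Q) ≤ normalizer ((P : Subgroup Q) : Set Q) := by
          intro x hx
          rw [Sylow.coe_subgroup_smul] at hx
          obtain ⟨y, hy, rfl⟩ := hx
          exact hEN (hE.conj_mem y (hPE hy) g)
        have h := IsPGroup.inf_normalizer_sylow (g • P).isPGroup' P
        exact Sylow.ext ((g • P).is_maximal' P.isPGroup' ((le_inf le_rfl hle).trans (h.le.trans inf_le_right))).symm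
      haveI : Subsingleton (Sylow 7 Q) := ⟨fun a b => (hall a).trans (hall b).symm⟩
      rw [Nat.card_of_subsingleton P] at hn8
      norm_num at hn8
    · rcases hd' with rfl | rfl
      · exfalso
        have hE56 : Nat.card E = 56 := by rw [hEj]
        have hS8 : Nat.card (Sylow 7 E) = 8 := by
          have h1 : Nat.card (Sylow 7 E) = (normalizer (((P.subtype hPE : Sylow 7 E) : Subgroup E) : Set E)).index :=
            (P.subtype hPE).card_eq_index_normalizer
          have h2 := card_mul_index (normalizer (((P.subtype hPE : Sylow 7 E) : Subgroup E) : Set E))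
          rw [← h1, hE56,
            show ((P.subtype hPE : Sylow 7 E) : Subgroup E) = (P : Subgroup Q).subgroupOf E from rfl,
            ← subgroupOf_normalizer_eq hPE, ← inf_subgroupOf_left,
            Nat.card_congr (subgroupOfEquivOfLe inf_le_left).toEquiv, hd] at h2
          omega
        obtain ⟨F, hF, huniq⟩ := unique_eight hE56 hS8
        refine h8 (F.map E.subtype) ⟨fun w hw g => ?_⟩
          (by rw [card_map_of_injective E.subtype_injective, hF])
        obtain ⟨v, hv, rfl⟩ := hw
        have hmap : (F.map (MulAut.conjNormal g : MulAut E).toMonoidHom) = F :=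
          huniq _ (by rw [card_map_of_injective (MulEquiv.injective _), hF])
        exact ⟨MulAut.conjNormal g v, hmap ▸ mem_map_of_mem _ hv, rfl⟩
      · exact eq_of_le_of_card_ge le_top (by rw [card_top, hcard, hEj])
  · left
    obtain ⟨x', hx'⟩ := exists_prime_orderOf_dvd_card' (G := (P : Subgroup Q)) 7 (by rw [hP])
    have hxo : orderOf (x' : Q) = 7 := by rw [Subgroup.orderOf_coe, hx']
    have hx1 : (x' : Q) ≠ 1 := fun h => by rw [h, orderOf_one] at hxo; norm_num at hxo
    have hdvd : Nat.card E ∣ 24 := by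
      have h1 : Nat.card E ∣ 7 * 24 := by simpa [hcard] using card_subgroup_dvd_card E
      exact ((Nat.Prime.coprime_iff_not_dvd (by norm_num)).2 h7).symm.dvd_of_dvd_mul_left h1
    by_cases hm : Nat.card E ≡ 1 [MOD 7]
    · have := Nat.le_of_dvd (by norm_num) hdvd
      obtain ⟨k, hk⟩ : ∃ k, Nat.card E = k := ⟨_, rfl⟩
      rw [hk] at hm hdvd this
      unfold Nat.ModEq at hm
      have : k = 1 ∨ k = 8 := by interval_cases k <;> omega
      rcases this with rfl | rfl
      · exact card_eq_one.1 hk
      · exact absurd hk (h8 E hE)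
    · exfalso
      obtain ⟨y, hy, hy1, hxy⟩ := exists_fixed hxo (X := E)
        (by rw [normalizer_eq_top_iff.2 hE]; exact mem_top _) hm
      have hyP : y ∈ (P : Subgroup Q) := cent_le_of_self hP hC _ x'.2 hx1
        (mem_centralizer_singleton_iff.2 hxy.symm.eq)
      have h1 := Subgroup.orderOf_dvd_natCard _ hy
      have h2 := Subgroup.orderOf_dvd_natCard _ hyP
      rw [hP] at h2
      rcases (Nat.dvd_prime (by norm_num)).1 h2 with h3 | h3
      · exact hy1 (orderOf_eq_one_iff.1 h3)
      · exact h7 (h3 ▸ h1)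

/-- A group of order 336 with eight self-centralizing Sylow subgroups of order seven, inverted by involutions: it
has a simple subgroup of index two outside which no involution centralizes a subgroup of order eight. -/
theorem half_336 (hcard : Nat.card Q = 336) (P : Sylow 7 Q) (hP : Nat.card (P : Subgroup Q) = 7)
    (hC : centralizer ((P : Subgroup Q) : Set Q) ≤ P)
    (hN : Nat.card (normalizer ((P : Subgroup Q) : Set Q)) = 42) :
    ∃ M : Subgroup Q, M.Normal ∧ Nat.card M = 168 ∧ IsSimpleGroup M ∧ (∀ x ∈ (P : Subgroup Q), x ∈ M) ∧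
      ∀ g : Q, g ∉ M → g * g = 1 → ∀ A : Subgroup Q, (∀ a ∈ A, Commute g a) → Nat.card A ≠ 8 := by
  classical
  haveI : Fact (Nat.Prime 2) := ⟨Nat.prime_two⟩
  haveI := Fintype.ofFinite (Sylow 7 Q)
  have hn8 : Nat.card (Sylow 7 Q) = 8 := by
    have h1 : Nat.card (Sylow 7 Q) = (normalizer ((P : Subgroup Q) : Set Q)).index := P.card_eq_index_normalizer
    have h2 := card_mul_index (normalizer ((P : Subgroup Q) : Set Q))
    rw [hN, hcard, ← h1] at h2
    omega
  set φ : Q →* Equiv.Perm (Sylow 7 Q) := MulAction.toPermHom Q (Sylow 7 Q) with hφ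
  set sg : Q →* ℤˣ := Equiv.Perm.sign.comp φ with hsg
  -- centralizers of involutions fixing a point
  have hP7 : ∀ R : Sylow 7 Q, Nat.card (R : Subgroup Q) = 7 := fun R => by
    rw [R.card_eq_multiplicity, ← P.card_eq_multiplicity, hP]
  have hCR : ∀ R : Sylow 7 Q, centralizer ((R : Subgroup Q) : Set Q) ≤ R := by
    intro R c hc
    obtain ⟨g, rfl⟩ := MulAction.exists_smul_eq Q P R
    rw [Sylow.coe_subgroup_smul] at hc ⊢
    refine ⟨g⁻¹ * c * g, hC (mem_centralizer_iff.2 fun w hw => ?_), by simp [mul_assoc]⟩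
    have h := mem_centralizer_iff.1 hc (g * w * g⁻¹) ⟨w, hw, rfl⟩
    calc w * (g⁻¹ * c * g) = g⁻¹ * ((g * w * g⁻¹) * c) * g := by group
      _ = g⁻¹ * (c * (g * w * g⁻¹)) * g := by rw [h]
      _ = g⁻¹ * c * g * w := by group
  have hNR : ∀ R : Sylow 7 Q, Nat.card (normalizer ((R : Subgroup Q) : Set Q)) = 42 := fun R => by
    have h1 : Nat.card (Sylow 7 Q) = (normalizer ((R : Subgroup Q) : Set Q)).index := R.card_eq_index_normalizer
    have h2 := card_mul_index (normalizer ((R : Subgroup Q) : Set Q))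
    rw [← h1, hn8, hcard] at h2
    omega
  have hsign : ∀ g : Q, orderOf g = 2 → (Nat.card {R : Sylow 7 Q // g • R = R} = 2 ∧ sg g = -1) ∨
      (Nat.card {R : Sylow 7 Q // g • R = R} = 0 ∧ sg g = 1) := by
    intro g hg
    have hσ : (φ g) ^ 2 = 1 := by
      rw [← map_pow, orderOf_dvd_iff_pow_eq_one.1 hg.dvd, map_one]
    have hs := sign_two_fixed (φ g) hσ (by rw [← Nat.card_eq_fintype_card, hn8])
    by_cases hfix : ∃ R : Sylow 7 Q, g • R = R
    · obtain ⟨R, hR⟩ := hfix
      have h2 := fixed_two R (hP7 R) (hCR R) hn8 hg hR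
      exact Or.inl ⟨h2, hs.1 h2⟩
    · have h0 : Nat.card {R : Sylow 7 Q // g • R = R} = 0 := by
        haveI : IsEmpty {R : Sylow 7 Q // g • R = R} := ⟨fun R => hfix ⟨R.1, R.2⟩⟩
        exact Nat.card_of_isEmpty
      exact Or.inr ⟨h0, hs.2 h0⟩
  obtain ⟨τ', hτ'⟩ := exists_prime_orderOf_dvd_card' (G := normalizer ((P : Subgroup Q) : Set Q)) 2
    (by rw [hN]; norm_num)
  have hτ : orderOf (τ' : Q) = 2 := by rw [Subgroup.orderOf_coe, hτ']
  have hτs : sg τ' = -1 := by
    rcases hsign _ hτ with ⟨-, h⟩ | ⟨h0, -⟩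
    · exact h
    · exfalso
      haveI : Nonempty {R : Sylow 7 Q // (τ' : Q) • R = R} :=
        ⟨⟨P, Sylow.smul_eq_iff_mem_normalizer.2 τ'.2⟩⟩
      exact Nat.card_pos.ne' h0
  -- no involution outside the kernel centralizes a subgroup of order eight
  have hout : ∀ g : Q, g ∉ sg.ker → g * g = 1 → ∀ A : Subgroup Q, (∀ a ∈ A, Commute g a) → Nat.card A ≠ 8 := by
    intro g hg hg2 A hA hA8
    have hg1 : g ≠ 1 := fun h => hg (h ▸ one_mem _)
    have hgo : orderOf g = 2 := orderOf_eq_prime (by rw [pow_two, hg2]) hg1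
    rcases hsign g hgo with ⟨h2, -⟩ | ⟨-, h1⟩
    swap
    · exact hg h1
    set F := {R : Sylow 7 Q // g • R = R}
    have hF : Nonempty F := (Nat.card_pos_iff.1 (by omega : 0 < Nat.card F)).1
    obtain ⟨R, hR⟩ := hF
    -- the stabilizer of a fixed point in A has order at least four
    let act : MulAction A F :=
      { smul := fun a R => ⟨(a : Q) • R.1, by rw [← mul_smul, (hA a a.2).eq, mul_smul, R.2]⟩
        one_smul := fun R => Subtype.ext (one_smul Q R.1)
        mul_smul := fun a b R => Subtype.ext (mul_smul (a : Q) (b : Q) R.1) }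
    have horb := MulAction.index_stabilizer A (⟨R, hR⟩ : F)
    have hle : (orbit A (⟨R, hR⟩ : F)).ncard ≤ 2 := by
      rw [← h2, ← Set.ncard_univ]
      exact Set.ncard_le_ncard (Set.subset_univ _)
    have hmul := card_mul_index (stabilizer A (⟨R, hR⟩ : F))
    rw [horb, hA8] at hmul
    -- the stabilizer lies in the normalizer and commutes with g
    set T := (stabilizer A (⟨R, hR⟩ : F)).map A.subtype with hT
    have hTc : Nat.card T = Nat.card (stabilizer A (⟨R, hR⟩ : F)) := card_map_of_injective A.subtype_injective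
    have hTN : T ≤ normalizer ((R : Subgroup Q) : Set Q) := by
      rintro w ⟨a, ha, rfl⟩
      exact Sylow.smul_eq_iff_mem_normalizer.1 (congrArg Subtype.val ha)
    have h42 := card_dvd_of_le hTN
    rw [hNR, hTc] at h42
    obtain ⟨k, hk⟩ : ∃ k, Nat.card (stabilizer A (⟨R, hR⟩ : F)) = k := ⟨_, rfl⟩
    rw [hk] at h42 hmul
    have h8k : k ∣ 8 := ⟨_, hmul.symm⟩
    have hk2 : k ∣ 2 := by
      have := Nat.dvd_gcd h8k h42
      norm_num at this
      exact this
    have := Nat.le_of_dvd (by norm_num) hk2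
    nlinarith
  have hidx : sg.ker.index = 2 := by
    rw [Subgroup.index_ker]
    have hr : sg.range = ⊤ := by
      rw [eq_top_iff]
      intro u _
      rcases Int.units_eq_one_or u with rfl | rfl
      · exact one_mem _
      · exact ⟨_, hτs⟩
    rw [hr, card_top]
    simp
  have hMcard : Nat.card sg.ker = 168 := by
    have := card_mul_index sg.ker
    rw [hidx, hcard] at this
    omega
  have hPM : (P : Subgroup Q) ≤ sg.ker := by
    intro x hx
    have h7 : x ^ 7 = 1 := by
      have := Subgroup.orderOf_dvd_natCard _ hx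
      rw [hP] at this
      exact orderOf_dvd_iff_pow_eq_one.1 this
    have := congrArg sg h7
    rw [map_pow, map_one] at this
    rcases Int.units_eq_one_or (sg x) with h | h
    · exact h
    · rw [h] at this; exact absurd this (by decide)
  refine ⟨sg.ker, inferInstance, hMcard, ?_, hPM, hout⟩
  refine simple_168 hMcard (P.subtype hPM) ?_ ?_ ?_ ?_
  · show Nat.card ((P : Subgroup Q).subgroupOf sg.ker) = 7
    rw [Nat.card_congr (subgroupOfEquivOfLe hPM).toEquiv, hP]
  · intro c hc
    exact hC (mem_centralizer_iff.2 fun w hw =>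
      congrArg Subtype.val (mem_centralizer_iff.1 hc ⟨w, hPM hw⟩ hw))
  · show Nat.card (normalizer (((P : Subgroup Q).subgroupOf sg.ker : Subgroup sg.ker) : Set sg.ker)) = 21
    rw [← subgroupOf_normalizer_eq hPM, ← inf_subgroupOf_left,
      Nat.card_congr (subgroupOfEquivOfLe inf_le_left).toEquiv]
    have h1 : Nat.card ↥(sg.ker ⊓ normalizer ((P : Subgroup Q) : Set Q)) ∣ 42 := hN ▸ card_dvd_of_le inf_le_right
    obtain ⟨j, hj, hjc⟩ := sylow_split P hPM
    rw [hMcard] at hjc
    obtain ⟨d, hd⟩ : ∃ d, Nat.card ↥(sg.ker ⊓ normalizer ((P : Subgroup Q) : Set Q)) = d := ⟨_, rfl⟩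
    rw [hd] at h1 hjc ⊢
    have hd42 : d ≠ 42 := fun h42 => by
      have hle : normalizer ((P : Subgroup Q) : Set Q) ≤ sg.ker :=
        inf_eq_right.1 (eq_of_le_of_card_ge inf_le_right (by rw [hd, h42, hN]))
      have := hle τ'.2
      rw [MonoidHom.mem_ker, hτs] at this
      exact absurd this (by decide)
    have := Nat.le_of_dvd (by norm_num) h1
    interval_cases d <;> omega
  · intro E hE hE8
    haveI := hE
    -- a normal subgroup of order eight of the kernel is elementary abelian and an outer involution fixes four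
    obtain ⟨x', hx'⟩ := exists_prime_orderOf_dvd_card' (G := (P : Subgroup Q)) 7 (by rw [hP])
    have hxo : orderOf (x' : Q) = 7 := by rw [Subgroup.orderOf_coe, hx']
    set E' := E.map sg.ker.subtype with hE'
    have hE'c : Nat.card E' = 8 := by rw [hE', card_map_of_injective sg.ker.subtype_injective, hE8]
    have hE'M : ∀ w ∈ E', w ∈ sg.ker := fun w hw => map_subtype_le _ hw
    have huniq : ∀ S : Subgroup Q, S ≤ sg.ker → Nat.card S = 8 → S = E' := by
      intro S hS hS8
      have hSp : IsPGroup 2 (S.subgroupOf sg.ker) := IsPGroup.of_card (n := 3) (by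
        rw [Nat.card_congr (subgroupOfEquivOfLe hS).toEquiv, hS8]; norm_num)
      have hEp : IsPGroup 2 E := IsPGroup.of_card (n := 3) (by rw [hE8]; norm_num)
      obtain ⟨T, hT⟩ := hSp.exists_le_sylow
      obtain ⟨T₀, hT₀⟩ := hEp.exists_le_sylow
      have hT8 : ∀ T : Sylow 2 sg.ker, Nat.card (T : Subgroup sg.ker) = 8 := fun T => by
        rw [T.card_eq_multiplicity, hMcard, show (168 : ℕ) = 2 ^ 3 * 21 by norm_num,
          Nat.factorization_mul (by norm_num) (by norm_num), Nat.Prime.factorization_pow (by norm_num)]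
        simp [Nat.factorization_eq_zero_of_not_dvd (show ¬ 2 ∣ 21 by norm_num)]
      have hE0 : E = (T₀ : Subgroup sg.ker) := eq_of_le_of_card_ge hT₀ (by rw [hE8, hT8])
      obtain ⟨g, hg⟩ := MulAction.exists_smul_eq sg.ker T₀ T
      have hTE : (T : Subgroup sg.ker) = E := by
        rw [← hg, Sylow.coe_subgroup_smul, ← hE0]
        exact Subgroup.Normal.conjAct hE (ConjAct.toConjAct g)
      refine eq_of_le_of_card_ge ?_ (by rw [hE'c, hS8])
      intro w hw
      exact ⟨⟨w, hS hw⟩, hTE ▸ hT hw, rfl⟩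
    have hnorm : ∀ g : Q, ∀ w ∈ E', g * w * g⁻¹ ∈ E' := by
      intro g w hw
      have hS := huniq (E'.map (MulAut.conj g).toMonoidHom) (by
          rintro v ⟨v', hv', rfl⟩
          exact (MonoidHom.normal_ker sg).conj_mem v' (hE'M v' hv') g)
        (by rw [card_map_of_injective (MulEquiv.injective _), hE'c])
      rw [← hS]
      exact ⟨w, hw, rfl⟩
    have hfree : ∀ w ∈ E', Commute (x' : Q) w → w = 1 := by
      intro w hw hc
      have hwP : w ∈ (P : Subgroup Q) := cent_le_of_self hP hC _ x'.2
        (fun h => by rw [h, orderOf_one] at hxo; norm_num at hxo) (mem_centralizer_singleton_iff.2 hc.symm.eq)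
      have h1 := Subgroup.orderOf_dvd_natCard _ hw
      have h2 := Subgroup.orderOf_dvd_natCard _ hwP
      rw [hE'c] at h1
      rw [hP] at h2
      have := Nat.dvd_gcd h1 h2
      norm_num at this
      exact this
    -- exponent two
    have hexp : ∀ w ∈ E', w * w = 1 := by
      obtain ⟨i', hi'⟩ := exists_prime_orderOf_dvd_card' (G := E') 2 (by rw [hE'c]; norm_num)
      have hi : orderOf (i' : Q) = 2 := by rw [Subgroup.orderOf_coe, hi']
      have hi2 : (i' : Q) * i' = 1 := by
        rw [← pow_two]; exact orderOf_dvd_iff_pow_eq_one.1 hi.dvd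
      let f : Fin 7 → {w : E' // w ≠ 1} := fun k => ⟨⟨(x' : Q) ^ (k : ℕ) * i' * ((x' : Q) ^ (k : ℕ))⁻¹,
        hnorm _ _ i'.2⟩, fun h => by
          have := congrArg Subtype.val h
          rw [OneMemClass.coe_one, conj_eq_one_iff] at this
          rw [this, orderOf_one] at hi
          norm_num at hi⟩
      have hinj : Function.Injective f := by
        have haux : ∀ a b : ℕ, a ≤ b → b < 7 →
            (x' : Q) ^ a * i' * ((x' : Q) ^ a)⁻¹ = (x' : Q) ^ b * i' * ((x' : Q) ^ b)⁻¹ → a = b := by
          intro a b hab hb he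
          by_contra hne
          have hc : Commute ((x' : Q) ^ (b - a)) (i' : Q) := by
            obtain ⟨k, rfl⟩ := Nat.exists_eq_add_of_le hab
            rw [Nat.add_sub_cancel_left]
            show (x' : Q) ^ k * (i' : Q) = (i' : Q) * (x' : Q) ^ k
            refine mul_inv_eq_iff_eq_mul.1 ?_
            calc (x' : Q) ^ k * (i' : Q) * ((x' : Q) ^ k)⁻¹
                = ((x' : Q) ^ a)⁻¹ * ((x' : Q) ^ (a + k) * i' * ((x' : Q) ^ (a + k))⁻¹) * (x' : Q) ^ a := by
                  rw [pow_add]; group
              _ = (i' : Q) := by rw [← he]; group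
          have hc' : Commute (x' : Q) (i' : Q) := by
            obtain ⟨m, hm⟩ : ∃ m, ((x' : Q) ^ (b - a)) ^ m = (x' : Q) := by
              refine exists_pow_eq_self_of_coprime ?_
              rw [hxo]
              exact ((Nat.Prime.coprime_iff_not_dvd (by norm_num)).2 fun hd => by
                have := Nat.le_of_dvd (by omega) hd
                omega).symm
            rw [← hm]
            exact hc.pow_left m
          have := hfree _ i'.2 hc'
          rw [this, orderOf_one] at hi
          norm_num at hi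
        intro a b hab
        have he : (x' : Q) ^ (a : ℕ) * i' * ((x' : Q) ^ (a : ℕ))⁻¹ =
            (x' : Q) ^ (b : ℕ) * i' * ((x' : Q) ^ (b : ℕ))⁻¹ :=
          congrArg (fun t : {w : E' // w ≠ 1} => ((t : E') : Q)) hab
        rcases le_total (a : ℕ) b with h | h
        · exact Fin.ext (haux _ _ h b.2 he)
        · exact Fin.ext (haux _ _ h a.2 he.symm).symm
      have hbij : Function.Bijective f := (Nat.bijective_iff_injective_and_card f).2 ⟨hinj, by
        rw [Nat.card_fin]
        haveI := Fintype.ofFinite E'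
        rw [Nat.card_eq_fintype_card, Fintype.card_subtype_compl, Fintype.card_subtype_eq,
          ← Nat.card_eq_fintype_card, hE'c]⟩
      intro w hw
      by_cases hw1 : w = 1
      · rw [hw1, one_mul]
      obtain ⟨k, hk⟩ := hbij.2 ⟨⟨w, hw⟩, fun h => hw1 (congrArg Subtype.val h)⟩
      have hk' := congrArg (fun t : {w : E' // w ≠ 1} => ((t : E') : Q)) hk
      simp only [f] at hk'
      rw [← hk']
      calc _ = (x' : Q) ^ (k : ℕ) * ((i' : Q) * i') * ((x' : Q) ^ (k : ℕ))⁻¹ := by group
        _ = 1 := by rw [hi2, mul_one, mul_inv_cancel]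
    have hcomm : ∀ a ∈ E', ∀ b ∈ E', a * b = b * a := by
      intro a ha b hb
      have hab := hexp _ (E'.mul_mem ha hb)
      calc a * b = (a * b)⁻¹ := (inv_eq_of_mul_eq_one_right hab).symm
        _ = b⁻¹ * a⁻¹ := mul_inv_rev a b
        _ = b * a := by rw [inv_eq_of_mul_eq_one_right (hexp a ha), inv_eq_of_mul_eq_one_right (hexp b hb)]
    -- the outer involution fixes at least four elements
    set t : Q := (τ' : Q) with ht
    have ht2 : t * t = 1 := by rw [← pow_two]; exact orderOf_dvd_iff_pow_eq_one.1 hτ.dvd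
    have htnk : t ∉ sg.ker := fun h => by rw [MonoidHom.mem_ker, hτs] at h; exact absurd h (by decide)
    let ψ : E' →* E' := MonoidHom.mk' (fun a => ⟨(a : Q) * (t * a * t⁻¹), E'.mul_mem a.2 (hnorm t a a.2)⟩)
      (fun a b => Subtype.ext (by
        show (a : Q) * b * (t * ((a : Q) * b) * t⁻¹) = (a : Q) * (t * a * t⁻¹) * ((b : Q) * (t * b * t⁻¹))
        calc (a : Q) * b * (t * ((a : Q) * b) * t⁻¹) = (a : Q) * (b * (t * a * t⁻¹)) * (t * b * t⁻¹) := by group
          _ = (a : Q) * ((t * a * t⁻¹) * b) * (t * b * t⁻¹) := by rw [hcomm _ b.2 _ (hnorm t a a.2)]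
          _ = _ := by group))
    set F : Subgroup Q := (E' ⊓ centralizer ({t} : Set Q)) with hF
    have hker : (ψ.ker.map E'.subtype) ≤ F := by
      rintro w ⟨a, ha, rfl⟩
      have h1 : (a : Q) * (t * a * t⁻¹) = 1 := congrArg Subtype.val ha
      refine ⟨a.2, mem_centralizer_singleton_iff.2 ?_⟩
      have h2 : t * a * t⁻¹ = (a : Q) :=
        calc t * a * t⁻¹ = (a : Q)⁻¹ * ((a : Q) * (t * a * t⁻¹)) := by group
          _ = (a : Q) := by rw [h1, mul_one, inv_eq_of_mul_eq_one_right (hexp a a.2)]
      exact (mul_inv_eq_iff_eq_mul.1 h2).symm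
    have hrange : (ψ.range.map E'.subtype) ≤ F := by
      rintro w ⟨-, ⟨a, rfl⟩, rfl⟩
      refine ⟨(ψ a).2, mem_centralizer_singleton_iff.2 ?_⟩
      have hti : t⁻¹ = t := inv_eq_of_mul_eq_one_right ht2
      show (a : Q) * (t * a * t⁻¹) * t = t * ((a : Q) * (t * a * t⁻¹))
      calc (a : Q) * (t * a * t⁻¹) * t = (t * a * t⁻¹) * a * t := by rw [hcomm _ a.2 _ (hnorm t a a.2)]
        _ = t * a * (t⁻¹ * a * t) := by group
        _ = t * a * (t * a * t⁻¹) := by rw [hti]
        _ = t * ((a : Q) * (t * a * t⁻¹)) := by group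
    have h8' : Nat.card ψ.ker * Nat.card ψ.range = 8 := by
      rw [← Subgroup.index_ker, card_mul_index, hE'c]
    have hk1 := card_le_of_le hker
    have hk2 := card_le_of_le hrange
    rw [card_map_of_injective E'.subtype_injective] at hk1 hk2
    have hFd : Nat.card F ∣ 8 := hE'c ▸ card_dvd_of_le inf_le_left
    have hF4 : 4 ≤ Nat.card F := by
      have := Nat.le_of_dvd (by norm_num) hFd
      obtain ⟨k, hk⟩ : ∃ k, Nat.card F = k := ⟨_, rfl⟩
      rw [hk] at hFd hk1 hk2 this ⊢
      have hkk : 8 ≤ k * k := h8' ▸ Nat.mul_le_mul hk1 hk2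
      interval_cases k <;> omega
    -- a subgroup of order four of F and t generate a subgroup of order eight
    obtain ⟨F0, hF0⟩ := Sylow.exists_subgroup_card_pow_prime (G := F) 2 (n := 2) (by
      have := Nat.le_of_dvd (by norm_num) hFd
      obtain ⟨k, hk⟩ : ∃ k, Nat.card F = k := ⟨_, rfl⟩
      rw [hk] at hFd hF4 this ⊢
      interval_cases k <;> first | (norm_num; done) | exact absurd hFd (by norm_num))
    set F4 := F0.map F.subtype with hF4'
    have hF4c : Nat.card F4 = 4 := by rw [hF4', card_map_of_injective F.subtype_injective, hF0]; norm_num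
    have hF4F : F4 ≤ F := map_subtype_le _
    have hct : ∀ a ∈ F, Commute t a := fun a ha => (mem_centralizer_singleton_iff.1 ha.2).symm
    have hcm : ∀ (a : F4) (b : zpowers t), Commute (a : Q) (b : Q) := fun a b => by
      obtain ⟨k, hk⟩ := mem_zpowers_iff.1 b.2
      rw [← hk]
      exact ((hct a (hF4F a.2)).zpow_left k).symm
    set ρ := MonoidHom.noncommCoprod F4.subtype (zpowers t).subtype hcm with hρ
    have hinj : Function.Injective ρ := by
      rw [injective_iff_map_eq_one]
      rintro ⟨a, b⟩ h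
      have h1 : (a : Q) * (b : Q) = 1 := h
      have hbM : (b : Q) ∈ sg.ker := by
        rw [eq_inv_of_mul_eq_one_right h1]
        exact inv_mem (hE'M _ ((inf_le_left : F ≤ E') (hF4F a.2)))
      have hb : b = 1 := by
        obtain ⟨k, hk⟩ := mem_zpowers_iff.1 b.2
        rcases Int.even_or_odd k with ⟨m, rfl⟩ | ⟨m, rfl⟩
        · refine Subtype.ext ?_
          rw [← hk, ← two_mul, zpow_mul, zpow_two, ht2, one_zpow]
          rfl
        · exfalso
          rw [← hk, zpow_add, zpow_mul, zpow_two, ht2, one_zpow, one_mul, zpow_one] at hbM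
          exact htnk hbM
      subst hb
      exact Prod.ext (Subtype.ext (by simpa using h1)) rfl
    refine hout t htnk ht2 ρ.range ?_ ?_
    · rintro w ⟨⟨a, b⟩, rfl⟩
      obtain ⟨k, hk⟩ := mem_zpowers_iff.1 b.2
      show Commute t ((a : Q) * b)
      rw [← hk]
      exact (hct a (hF4F a.2)).mul_right ((Commute.refl t).zpow_right k)
    · rw [← Nat.card_congr (MonoidHom.ofInjective hinj).toEquiv, Nat.card_prod, hF4c, Nat.card_zpowers, hτ]

end CfsgLib.Char.MTwentyTwoOrder
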