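import Cfsg.Agent.Lib.Char.MTwentyTwoOrder.Params
import Cfsg.Agent.Lib.Char.MTwentyTwoOrder.Regular
import Cfsg.Agent.Lib.Char.MEleven.Order.Nse

/-!
# Simple groups of order 443520: the Sylow 11-subgroup is self-centralizing
-/

set_option autoImplicit false
set_option linter.all false

open Cfsg Subgroup CfsgLib.Perm.PrimeBlock CfsgLib.Block CfsgLib.Char.MEleven.Order CfsgLib.Char.MTwelveOrder

namespace CfsgLib.Char.MTwentyTwoOrder

universe u

theorem dvd_144' : ∀ j < 145, 144 % j = 0 → j % 11 = 1 → j = 1 ∨ j = 12 ∨ j = 144 := by decide +kernel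

variable {G : Type u} [Group G] [Fintype G] [IsSimpleGroup G]

/-- The parameters `n = 144` are impossible. -/
theorem eleven_not_144 (h : Nat.card G = 443520) {e c : ℕ} [Fact (Nat.Prime 11)] (D : PData G 11 e c)
    (hec : (e = 5 ∧ c = 56) ∨ (e = 10 ∧ c = 28)) : False := by
  classical
  haveI : Fact (Nat.Prime 7) := ⟨by norm_num⟩
  haveI : Fact (Nat.Prime 2) := ⟨Nat.prime_two⟩
  obtain ⟨K, hK, hKc, hNK⟩ := D.exists_K
  have hN : Nat.card (normalizer ((D.P : Subgroup G) : Set G)) = 3080 := by
    rw [D.norm_P]; rcases hec with ⟨rfl, rfl⟩ | ⟨rfl, rfl⟩ <;> norm_num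
  have hpc : ¬ 11 ∣ c := by rcases hec with ⟨-, rfl⟩ | ⟨-, rfl⟩ <;> norm_num
  have key : ∀ X : Subgroup G, X ≠ ⊥ → X ≤ K →
      normalizer ((D.P : Subgroup G) : Set G) ≤ normalizer (X : Set G) →
      Nat.card (normalizer (X : Set G)) = 3080 := by
    intro X hX hXK hle
    have hne := normalizer_ne_top hX (lt_of_le_of_lt (card_le_of_le hXK) (by
      rw [hKc, h]; rcases hec with ⟨-, rfl⟩ | ⟨-, rfl⟩ <;> norm_num))
    obtain ⟨j, hj, hcard, hfac⟩ := D.above hne hle hpc
    rw [← D.norm_P, hN] at hcard
    have hmul := card_mul_index (normalizer (X : Set G))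
    rw [hcard, h] at hmul
    have h144 : j * (normalizer (X : Set G)).index = 144 := by
      have : 3080 * (j * (normalizer (X : Set G)).index) = 3080 * 144 := by linarith
      omega
    have hi1 : (normalizer (X : Set G)).index ≠ 1 := fun e1 => hne (index_eq_one.1 e1)
    rcases dvd_144' j (Nat.lt_succ_of_le (Nat.le_of_dvd (by norm_num) ⟨_, h144.symm⟩))
      (Nat.mod_eq_zero_of_dvd ⟨_, h144.symm⟩) hj with rfl | rfl | rfl
    · rw [hcard, one_mul]
    · exfalso
      have h12 : (normalizer (X : Set G)).index = 11 * 1 + 1 := by omega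
      have hc := Nat.le_of_dvd Nat.one_pos (by simpa using hfac 1 h12)
      rcases hec with ⟨-, rfl⟩ | ⟨-, rfl⟩ <;> omega
    · omega
  have h7K : Nat.card (Sylow 7 K) = 1 ∨ Nat.card (Sylow 7 K) = 8 := by
    have h1 := card_sylow_modEq_one 7 K
    obtain ⟨R⟩ : Nonempty (Sylow 7 K) := inferInstance
    have hRc : Nat.card (R : Subgroup K) = 7 := by
      rw [R.card_eq_multiplicity, hKc]
      rcases hec with ⟨-, rfl⟩ | ⟨-, rfl⟩
      · rw [show (56 : ℕ) = 7 ^ 1 * 8 by norm_num, Nat.factorization_mul (by norm_num) (by norm_num),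
          Nat.Prime.factorization_pow (by norm_num)]
        simp [Nat.factorization_eq_zero_of_not_dvd (show ¬ 7 ∣ 8 by norm_num)]
      · rw [show (28 : ℕ) = 7 ^ 1 * 4 by norm_num, Nat.factorization_mul (by norm_num) (by norm_num),
          Nat.Prime.factorization_pow (by norm_num)]
        simp [Nat.factorization_eq_zero_of_not_dvd (show ¬ 7 ∣ 4 by norm_num)]
    have h2 := R.card_dvd_index
    have h3 := card_mul_index (R : Subgroup K)
    rw [hRc, hKc] at h3
    rw [Nat.ModEq, Nat.one_mod_eq_one.2 (by norm_num)] at h1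
    have h8 : Nat.card (Sylow 7 K) ∣ 8 := by
      rcases hec with ⟨-, rfl⟩ | ⟨-, rfl⟩
      · exact h2.trans (dvd_of_eq (by omega))
      · exact (h2.trans (dvd_of_eq (by omega : (R : Subgroup K).index = 4))).trans (by norm_num)
    have := Nat.le_of_dvd (by norm_num) h8
    interval_cases hn : Nat.card (Sylow 7 K) <;> omega
  have h7G : ∀ R : Subgroup G, Nat.card R = 7 → Nat.card (normalizer (R : Set G)) ≠ 3080 := by
    intro R hR hNR
    obtain ⟨S, hS⟩ := (IsPGroup.of_card (n := 1) (by rw [hR, pow_one]) : IsPGroup 7 R).exists_le_sylow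
    have hS7 : Nat.card (S : Subgroup G) = 7 := by
      rw [S.card_eq_multiplicity, h, show (443520 : ℕ) = 7 ^ 1 * 63360 by norm_num,
        Nat.factorization_mul (by norm_num) (by norm_num), Nat.Prime.factorization_pow (by norm_num)]
      simp [Nat.factorization_eq_zero_of_not_dvd (show ¬ 7 ∣ 63360 by norm_num)]
    obtain rfl : R = (S : Subgroup G) := eq_of_le_of_card_ge hS (by rw [hS7, hR])
    have h1 := card_sylow_modEq_one 7 G
    have h2 := card_mul_index (normalizer ((S : Subgroup G) : Set G))
    rw [hNR, h, show (normalizer ((S : Subgroup G) : Set G)).index = Nat.card (Sylow 7 G) from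
      S.card_eq_index_normalizer.symm] at h2
    rw [show Nat.card (Sylow 7 G) = 144 by omega] at h1
    norm_num [Nat.ModEq] at h1
  rcases h7K with h7 | h7
  · obtain ⟨R⟩ : Nonempty (Sylow 7 K) := inferInstance
    set R' := (R : Subgroup K).map K.subtype with hR'
    have hR7 : Nat.card R' = 7 := by
      rw [hR', card_map_of_injective K.subtype_injective, R.card_eq_multiplicity, hKc]
      rcases hec with ⟨-, rfl⟩ | ⟨-, rfl⟩
      · rw [show (56 : ℕ) = 7 ^ 1 * 8 by norm_num, Nat.factorization_mul (by norm_num) (by norm_num),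
          Nat.Prime.factorization_pow (by norm_num)]
        simp [Nat.factorization_eq_zero_of_not_dvd (show ¬ 7 ∣ 8 by norm_num)]
      · rw [show (28 : ℕ) = 7 ^ 1 * 4 by norm_num, Nat.factorization_mul (by norm_num) (by norm_num),
          Nat.Prime.factorization_pow (by norm_num)]
        simp [Nat.factorization_eq_zero_of_not_dvd (show ¬ 7 ∣ 4 by norm_num)]
    have hR'K : R' ≤ K := map_subtype_le _
    refine h7G R' hR7 (key R' (fun hb => by rw [hb, card_bot] at hR7; norm_num at hR7) hR'K ?_)
    refine hNK.trans (le_normalizer_of_unique hR'K fun T hT hTc => ?_)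
    have hTp : IsPGroup 7 (T.subgroupOf K) := IsPGroup.of_card (n := 1) (by
      rw [Nat.card_congr (subgroupOfEquivOfLe hT).toEquiv, hTc, hR7, pow_one])
    obtain ⟨Q, hQ⟩ := hTp.exists_le_sylow
    haveI := (Nat.card_eq_one_iff_unique.1 h7).1
    rw [Subsingleton.elim Q R] at hQ
    refine eq_of_le_of_card_ge (fun w hw => ⟨⟨w, hT hw⟩, hQ hw, rfl⟩) (by rw [hTc])
  · have hc : c = 56 := by
      rcases hec with ⟨-, rfl⟩ | ⟨-, rfl⟩
      · rfl
      · exfalso
        obtain ⟨R⟩ : Nonempty (Sylow 7 K) := inferInstance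
        have h2 := R.card_dvd_index
        have h3 := card_mul_index (R : Subgroup K)
        have h4 : Nat.card (R : Subgroup K) = 7 := by
          rw [R.card_eq_multiplicity, hKc, show (28 : ℕ) = 7 ^ 1 * 4 by norm_num,
            Nat.factorization_mul (by norm_num) (by norm_num), Nat.Prime.factorization_pow (by norm_num)]
          simp [Nat.factorization_eq_zero_of_not_dvd (show ¬ 7 ∣ 4 by norm_num)]
        rw [h4, hKc] at h3
        rw [h7, show (R : Subgroup K).index = 4 by omega] at h2
        norm_num at h2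
    subst hc
    have hS : ∀ S : Sylow 7 K, Nat.card (S : Subgroup K) = 7 := fun S => by
      rw [S.card_eq_multiplicity, hKc, show (56 : ℕ) = 7 ^ 1 * 8 by norm_num,
        Nat.factorization_mul (by norm_num) (by norm_num), Nat.Prime.factorization_pow (by norm_num)]
      simp [Nat.factorization_eq_zero_of_not_dvd (show ¬ 7 ∣ 8 by norm_num)]
    have h48 := card_order_prime hS
    rw [h7] at h48
    haveI := Fintype.ofFinite K
    set A : Finset K := Finset.univ.filter (fun g => orderOf g ≠ 7) with hA
    have hA8 : A.card = 8 := by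
      have h1 := Finset.card_filter_add_card_filter_not (s := (Finset.univ : Finset K)) (fun g => orderOf g = 7)
      rw [← Fintype.card_subtype, ← Nat.card_eq_fintype_card, h48, Finset.card_univ, ← Nat.card_eq_fintype_card,
        hKc] at h1
      simp only [hA, ne_eq]
      omega
    obtain ⟨Y, hYc⟩ := Sylow.exists_subgroup_card_pow_prime (G := K) 2 (n := 3) (by rw [hKc]; norm_num)
    set Y' := Y.map K.subtype with hY'
    have hY8 : Nat.card Y' = 8 := by rw [hY', card_map_of_injective K.subtype_injective, hYc]; norm_num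
    have hY'K : Y' ≤ K := map_subtype_le _
    have heq : ∀ T : Subgroup G, T ≤ K → Nat.card T = 8 → ∀ w : K, w ∈ A → (w : G) ∈ T := by
      intro T hT hTc w hw
      have hsub : (Finset.univ.filter fun g : K => (g : G) ∈ T) ⊆ A := by
        intro g hg
        simp only [Finset.mem_filter, Finset.mem_univ, true_and] at hg
        simp only [hA, Finset.mem_filter, Finset.mem_univ, true_and]
        intro h7'
        have := Subgroup.orderOf_dvd_natCard T hg
        rw [hTc, orderOf_coe, h7'] at this
        norm_num at this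
      have hcard : (Finset.univ.filter fun g : K => (g : G) ∈ T).card = 8 := by
        rw [← hTc, ← Fintype.card_subtype, ← Nat.card_eq_fintype_card]
        exact Nat.card_congr
          { toFun := fun g => ⟨((g : K) : G), g.2⟩
            invFun := fun g => ⟨⟨g, hT g.2⟩, g.2⟩
            left_inv := fun g => rfl
            right_inv := fun g => rfl }
      rw [← Finset.eq_of_subset_of_card_le hsub (by rw [hcard, hA8])] at hw
      simpa using hw
    have huniq : ∀ T : Subgroup G, T ≤ K → Nat.card T = Nat.card Y' → T = Y' := by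
      intro T hT hTc
      refine eq_of_le_of_card_ge (fun w hw => ?_) hTc.ge
      refine heq Y' hY'K hY8 ⟨w, hT hw⟩ ?_
      simp only [hA, Finset.mem_filter, Finset.mem_univ, true_and]
      intro h7'
      have := Subgroup.orderOf_dvd_natCard T hw
      rw [hTc, hY8, ← Subgroup.orderOf_mk w (hT hw), h7'] at this
      norm_num at this
    have hNY := key Y' (fun hb => by rw [hb, card_bot] at hY8; norm_num at hY8) hY'K
      (hNK.trans (le_normalizer_of_unique hY'K huniq))
    obtain ⟨W, hWc, hYW⟩ := Sylow.exists_subgroup_card_pow_succ (G := G) (p := 2) (n := 3) (H := Y')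
      (by rw [h]; norm_num) (by rw [hY8]; norm_num)
    have hWN : W ≤ normalizer (Y' : Set G) := by
      haveI : (Y'.subgroupOf W).Normal := normal_of_index_eq_two (by
        have h1 := card_mul_index (Y'.subgroupOf W)
        rw [Nat.card_congr (subgroupOfEquivOfLe hYW).toEquiv, hY8, hWc] at h1
        omega)
      exact (normal_subgroupOf_iff_le_normalizer hYW).1 inferInstance
    have := card_dvd_of_le hWN
    rw [hWc, hNY] at this
    norm_num at this

/-- The data at the prime eleven. -/
theorem exists_eleven (h : Nat.card G = 443520) [Fact (Nat.Prime 11)] : Nonempty (PData G 11 5 1) := by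
  obtain ⟨n, e, c, hn, hn1, hn2, he2, hep, hpc, ⟨D⟩⟩ :=
    exists_pdata (noncomm h) 11 40320 (by norm_num) (by rw [h]) (by norm_num)
  have hposs := D.possible'_eq h (extra := fun _ => true) (by norm_num) hep he2 hpc (fun _ _ => rfl)
  have hel : e ∈ [2, 5, 10] := by
    have := Nat.le_of_dvd (by norm_num) hep
    interval_cases e <;> simp_all
  have hn' : n = 11 * (n / 11) + 1 := by omega
  have hle := Nat.le_of_dvd (by norm_num) (⟨e * c, hn.symm⟩ : n ∣ 40320)
  obtain ⟨j, hj⟩ : ∃ j, n / 11 = j := ⟨_, rfl⟩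
  rw [hj] at hn'
  subst hn'
  have hjj : j = 62 * (j / 62) + j % 62 := by omega
  have hmem := eleven_n' (j / 62) (by omega) (j % 62) (by omega)
    (by rw [← hjj]; exact Nat.mod_eq_zero_of_dvd ⟨_, hn.symm⟩)
  rw [← hjj] at hmem
  have hmem' : j ∈ [1, 4, 5, 13, 19, 29, 61, 229, 733] := by
    simp only [List.mem_cons, List.not_mem_nil, or_false] at hmem ⊢
    omega
  have hd : (11 * j + 1) * e ∣ 40320 := ⟨c, by rw [← hn]; ring⟩
  have hc : 40320 / ((11 * j + 1) * e) = c := by
    rw [show 40320 = (11 * j + 1) * e * c by rw [← hn]; ring,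
      Nat.mul_div_cancel_left _ (Nat.mul_pos (by omega) (by omega))]
  rcases eleven_tests j hmem' e hel (Nat.mod_eq_zero_of_dvd hd) (by rw [hc]; exact hposs) with
    ⟨rfl, rfl⟩ | ⟨rfl, rfl⟩ | ⟨rfl, rfl⟩
  · exact (eleven_not_144 h D (Or.inl ⟨rfl, by omega⟩)).elim
  · exact (eleven_not_144 h D (Or.inr ⟨rfl, by omega⟩)).elim
  · obtain rfl : c = 1 := by omega
    exact ⟨D⟩

end CfsgLib.Char.MTwentyTwoOrder
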