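import Cfsg.Agent.Lib.Char.MTwentyTwoOrder.Setup
import Cfsg.Agent.Lib.Char.MTwentyTwoOrder.ParamTests

/-!
# Simple groups of order 443520: the parameters pass the tests
-/

set_option autoImplicit false
set_option linter.all false

open Cfsg CfsgLib.Perm.PrimeBlock CfsgLib.Block Finset CfsgLib.Char.MEleven.Order CfsgLib.Char.MTwelveOrder

namespace CfsgLib.Char.MTwentyTwoOrder

universe u

variable {G : Type u} [Group G] [Fintype G] [IsSimpleGroup G] {p e c : ℕ} [hp : Fact p.Prime]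
  (D : PData G p e c)

theorem parts_spec : ∀ x ∈ parts, x.1.Prime ∧ ∃ a, x.2 = x.1 ^ a ∧ x.2 ∣ 443520 ∧ ¬ x.1 ^ (a + 1) ∣ 443520 := by
  intro x hx
  simp only [parts, List.mem_cons, List.not_mem_nil, or_false] at hx
  rcases hx with rfl | rfl | rfl | rfl | rfl
  · exact ⟨Nat.prime_two, 7, by norm_num, by norm_num, by norm_num⟩
  · exact ⟨Nat.prime_three, 2, by norm_num, by norm_num, by norm_num⟩
  · exact ⟨by norm_num, 1, by norm_num, by norm_num, by norm_num⟩
  · exact ⟨by norm_num, 1, by norm_num, by norm_num, by norm_num⟩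
  · exact ⟨by norm_num, 1, by norm_num, by norm_num, by norm_num⟩

theorem PData.fullPart_X (h : Nat.card G = 443520) (hpc : ¬ p ∣ c) {χ : IrrCharacter G} (hχ : χ ∈ D.S.X) :
    fullPart c (dg χ) = false := by
  refine Bool.eq_false_iff.2 fun hf => ?_
  simp only [fullPart, List.any_eq_true, Bool.and_eq_true, beq_iff_eq] at hf
  obtain ⟨x, hx, h1, h2⟩ := hf
  obtain ⟨hq, a, ha, hd, hd'⟩ := parts_spec x hx
  haveI : Fact x.1.Prime := ⟨hq⟩
  have hxc := Nat.dvd_of_mod_eq_zero h1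
  exact D.not_full_X hxc (fun he => hpc (he ▸ hxc)) (by rw [h, ← ha]; exact hd) (by rw [h]; exact hd') hχ
    (by rw [← ha]; exact Nat.dvd_of_mod_eq_zero h2)

theorem PData.fullPart_D (h : Nat.card G = 443520) (hpc : ¬ p ∣ c) : fullPart c D.S.D = false := by
  refine Bool.eq_false_iff.2 fun hf => ?_
  simp only [fullPart, List.any_eq_true, Bool.and_eq_true, beq_iff_eq] at hf
  obtain ⟨x, hx, h1, h2⟩ := hf
  obtain ⟨hq, a, ha, hd, hd'⟩ := parts_spec x hx
  haveI : Fact x.1.Prime := ⟨hq⟩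
  have hxc := Nat.dvd_of_mod_eq_zero h1
  exact D.not_full_D hxc (fun he => hpc (he ▸ hxc)) (by rw [h, ← ha]; exact hd) (by rw [h]; exact hd')
    (by rw [← ha]; exact Nat.dvd_of_mod_eq_zero h2)

/-- The exceptional family does not force a centralizer of order `p`. -/
theorem PData.no_kill (hG : ¬ IsMulCommutative G) (hep : e ∣ p - 1) (he : 2 ≤ e) (hpc : ¬ p ∣ c) (hc1 : 1 < c) :
    kills p (-(((p - 1) / e : ℕ) : ℤ) * (D.S.ε * (D.S.D : ℤ))) = false := by
  classical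
  refine Bool.eq_false_iff.2 fun hk => ?_
  simp only [kills, Bool.or_eq_true, beq_iff_eq] at hk
  obtain ⟨x, hx, hxo⟩ := D.exists_elt
  obtain ⟨y, hyC, hyr, hy1⟩ := exists_regular_ne D.cent_P hpc hc1
  obtain ⟨θ₀, hθ₀⟩ := nonempty_Y D.S hep (by omega)
  set t := (p - 1) / e with ht
  have hne : (θ₀ : G → ℂ) ≠ fun _ => 1 := fun h =>
    D.S.one_notMem_Y ((Subtype.ext h : θ₀ = oneChar G) ▸ hθ₀)
  refine hy1 (CfsgLib.Perm.PrimeBlock.eq_one_of_value θ₀ hne ?_)
  have ht0 : (t : ℂ) ≠ 0 := by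
    have : 0 < t := by rw [ht, ← D.S.card_Y]; exact Finset.card_pos.2 ⟨θ₀, hθ₀⟩
    exact_mod_cast this.ne'
  have hsumv : ∀ g : G, ¬ p ∣ orderOf g →
      (∑ θ ∈ D.S.Y, (θ : G → ℂ)) g = (t : ℂ) * (θ₀ : G → ℂ) g := fun g hgr => by
    rw [Finset.sum_apply, Finset.sum_congr rfl (fun θ hθ => D.S.regular_Y θ hθ θ₀ hθ₀ g hgr),
      Finset.sum_const, nsmul_eq_mul, D.S.card_Y]
  have h1o : ¬ p ∣ orderOf (1 : G) := by rw [orderOf_one]; exact hp.out.not_dvd_one
  have hd : (θ₀ : G → ℂ) 1 = (D.S.D : ℂ) := by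
    rw [val_one, show dg θ₀ = D.S.D from D.S.degree_Y θ₀ hθ₀]
  have key := eq_degree_of_const (CfsgLib.Char.isCharacter_sum D.S.Y (fun θ => (θ : G → ℂ))
    fun θ _ => CfsgLib.Char.isCharacter_irr θ) (lin_eq_one hG) hp.out hxo
    (Subgroup.mem_centralizer_iff.1 hyC x hx) hyr (c := -D.S.ε) (d := t * D.S.D)
    (fun j k hj => ?_) ?_ ?_
  · rw [hsumv y hyr, Nat.cast_mul] at key
    rw [hd]
    exact mul_left_cancel₀ ht0 key
  · rw [Finset.sum_apply, D.S.value_Y _ (pow_mem hx j)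
      (fun hh => hj (hxo ▸ orderOf_dvd_of_pow_eq_one hh)) _ (pow_mem hyC k)
      (fun hh => hyr (hh.trans (orderOf_pow_dvd k)))]
    push_cast; rfl
  · rw [hsumv 1 h1o, hd, Nat.cast_mul]
  · have := hp.out.two_le
    rcases D.S.sign with hs | hs <;> rw [hs] at hk ⊢ <;>
      simp only [mul_neg, neg_mul, neg_neg, one_mul, mul_one, ← Nat.cast_mul, true_and] at hk ⊢ <;>
      generalize t * D.S.D = z at hk ⊢ <;> omega

/-- A candidate for the signed degree of a block character. -/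
theorem PData.mem_cands' (h : Nat.card G = 443520) {extra : ℕ → Bool} (hpd : p ∣ 443520) (hpc : ¬ p ∣ c)
    (hx : ∀ χ : IrrCharacter G, χ ≠ oneChar G → extra (dg χ) = true) {χ : IrrCharacter G} (hχ : χ ∈ D.S.X) :
    sd D.S χ ∈ cands' p c extra := by
  have hg : Nat.card G = 443520 / p * p := by rw [h, Nat.div_mul_cancel hpd]
  have h1 := mem_cands_sd (noncomm h) D.S D.card_P hg D.cent_P hpc
    (B := 666) (by rw [h]; norm_num) hχ
  have hne : χ ≠ oneChar G := fun e => D.S.one_notMem_X (e ▸ hχ)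
  have habs := natAbs_sd D.S hχ
  rw [h] at h1
  simp only [cands, List.mem_filter, List.mem_flatMap, List.mem_range, Bool.and_eq_true] at h1
  obtain ⟨⟨d, hd, hmem⟩, ⟨hok, hmod⟩, hk⟩ := h1
  rw [habs] at hok
  have hdd : d = dg χ := by
    simp only [List.mem_cons, List.not_mem_nil, or_false] at hmem
    rcases hmem with hm | hm <;> rw [hm] at habs <;> simpa using habs
  subst hdd
  simp only [cands', List.mem_filter, List.mem_flatMap, List.mem_range, Bool.and_eq_true]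
  refine ⟨⟨_, hd, ?_⟩, hmod, hk⟩
  rw [hok, hx χ hne, D.fullPart_X h hpc hχ]
  simpa using hmem

theorem PData.possible'_eq (D : PData G p e c) (h : Nat.card G = 443520) {extra : ℕ → Bool} (hpd : p ∣ 443520)
    (hep : e ∣ p - 1) (he : 2 ≤ e) (hpc : ¬ p ∣ c)
    (hx : ∀ χ : IrrCharacter G, χ ≠ oneChar G → extra (dg χ) = true) : possible' p e c extra = true := by
  classical
  have hG := noncomm h
  have hg : Nat.card G = 443520 / p * p := by rw [h, Nat.div_mul_cancel hpd]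
  obtain ⟨θ, hθ⟩ := nonempty_Y D.S hep (by omega)
  obtain ⟨hok, hmod⟩ : okAbs 443520 (443520 / p) (D.S.ε * (D.S.D : ℤ)).natAbs = true ∧
      (D.S.ε * (D.S.D : ℤ)) % (p : ℤ) = (e : ℤ) % (p : ℤ) := by
    have := D.S.okAbs_Y hG hg hep he hθ
    rwa [h] at this
  have habs : (D.S.ε * (D.S.D : ℤ)).natAbs = D.S.D := by rcases D.S.sign with hs | hs <;> simp [hs]
  refine List.any_eq_true.2 ⟨∑ χ ∈ D.S.X, sd D.S χ, ?_, ?_⟩
  · rw [show e - 1 = D.S.X.card by have := D.S.card_X; omega]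
    exact sum_mem_sums _ _ fun χ hχ => D.mem_cands' h hpd hpc hx hχ
  · rw [← rel_one D.S hθ]
    simp only [Bool.and_eq_true, beq_iff_eq, habs, Bool.not_eq_true']
    refine ⟨⟨⟨⟨hmod, habs ▸ hok⟩, ?_⟩, D.fullPart_D h hpc⟩, ?_⟩
    · have := hx θ (fun e => D.S.one_notMem_Y (e ▸ hθ))
      rwa [show dg θ = D.S.D from D.S.degree_Y θ hθ] at this
    · rw [Bool.and_eq_false_iff]
      by_cases hc1 : 1 < c
      · exact Or.inr (D.no_kill hG hep he hpc hc1)
      · exact Or.inl (decide_eq_false hc1)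

end CfsgLib.Char.MTwentyTwoOrder
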