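import Cfsg.Agent.Lib.Char.MTwelveOrder.Pairs
import Cfsg.Agent.Lib.Char.MTwelveOrder.Cands
import Cfsg.Agent.Lib.Char.DefectZero

/-!
# Simple groups of order 443520: the data of a Sylow subgroup of prime order
-/

set_option autoImplicit false
set_option linter.all false

open Cfsg CfsgLib.Perm.PrimeBlock CfsgLib.Block Finset CfsgLib.Char.MEleven.Order CfsgLib.Char.MTwelveOrder

namespace CfsgLib.Char.MTwentyTwoOrder

universe u

variable {G : Type u} [Group G] [Finite G] [IsSimpleGroup G]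

theorem noncomm (h : Nat.card G = 443520) : ¬ IsMulCommutative G := fun hc => by
  haveI := hc
  letI : CommGroup G :=
    { (inferInstance : Group G) with mul_comm := fun a b => IsMulCommutative.is_comm.comm a b }
  have hp : (Nat.card G).Prime := IsSimpleGroup.prime_card (α := G)
  rw [h] at hp
  norm_num at hp

theorem linear_trivial (hG : ¬ IsMulCommutative G) (χ : IrrCharacter G)
    (hχ : charDegree (χ : G → ℂ) = 1) : χ = oneChar G := by
  by_contra hne
  have h3 := degree_ge_three hG χ (fun h => hne (Subtype.ext h)) (d := 1)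
    (by rw [(charDegree_eq χ).1, hχ])
  omega

variable [Fintype G]

/-- The data of a Sylow subgroup of prime order `p` with automizer `e` and centralizer `p c`. -/
structure PData (G : Type u) [Group G] [Fintype G] (p e c : ℕ) where
  P : Sylow p G
  card_P : Nat.card (P : Subgroup G) = p
  cent_P : Nat.card (Subgroup.centralizer ((P : Subgroup G) : Set G)) = p * c
  norm_P : Nat.card (Subgroup.normalizer ((P : Subgroup G) : Set G)) = e * (p * c)
  S : Shape p e (P : Subgroup G)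
  hout : ∀ χ : IrrCharacter G, χ ≠ oneChar G → χ ∉ S.X → χ ∉ S.Y → ∀ x ∈ (P : Subgroup G), x ≠ 1 →
    ∑ y ∈ regCent p (P : Subgroup G), (χ : G → ℂ) (x * y) = 0

theorem exists_pdata (hG : ¬ IsMulCommutative G) (p m : ℕ) [hp : Fact p.Prime] (hodd : p ≠ 2)
    (hg : Nat.card G = m * p) (hm : ¬ p ∣ m) :
    ∃ n e c : ℕ, n * (e * c) = m ∧ n % p = 1 ∧ 1 < n ∧ 2 ≤ e ∧ e ∣ p - 1 ∧ ¬ p ∣ c ∧
      Nonempty (PData G p e c) := by
  classical
  obtain ⟨P, n, e, c, hP, hn, hn1, hn2, -, he2, hep, hC, hN, -, -⟩ := exists_data hG p m hodd hg hm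
  have hrel : (Subgroup.centralizer ((P : Subgroup G) : Set G)).relIndex
      (Subgroup.normalizer ((P : Subgroup G) : Set G)) = e := by
    have h2 := Subgroup.card_mul_index ((Subgroup.centralizer ((P : Subgroup G) : Set G)).subgroupOf
      (Subgroup.normalizer ((P : Subgroup G) : Set G)))
    rw [Nat.card_congr (Subgroup.subgroupOfEquivOfLe (Subgroup.centralizer_le_normalizer _)).toEquiv,
      hC, hN, mul_comm e] at h2
    exact Nat.eq_of_mul_eq_mul_left (hC ▸ Nat.card_pos) h2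
  obtain ⟨S, hout⟩ := exists_shape_out (linear_trivial hG) p hodd P hP e hrel he2 hep
  exact ⟨n, e, c, hn, hn1, hn2, he2, hep,
    fun hc => hm (hn ▸ hc.trans ((dvd_mul_left c e).trans (dvd_mul_left _ n))), ⟨⟨P, hP, hC, hN, S, hout⟩⟩⟩

variable {p e c : ℕ} [hp : Fact p.Prime] (D : PData G p e c)

theorem PData.exists_elt : ∃ x ∈ (D.P : Subgroup G), orderOf x = p := by
  obtain ⟨x', hx'⟩ := exists_prime_orderOf_dvd_card' (G := (D.P : Subgroup G)) p (by rw [D.card_P])
  exact ⟨x', x'.2, by rw [Subgroup.orderOf_coe, hx']⟩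

include D in
theorem PData.cent_of_order {x : G} (hx : orderOf x = p) :
    Nat.card (Subgroup.centralizer ({x} : Set G)) = p * c := by
  rw [centralizer_of_order D.card_P hx, D.cent_P]

include D in
theorem PData.cent_eq_one {x : G} (hx : orderOf x = p) {y : G} (hc : c = 1) (hxy : Commute x y)
    (hy : ¬ p ∣ orderOf y) : y = 1 := by
  have h := Subgroup.orderOf_dvd_natCard (Subgroup.centralizer ({x} : Set G))
    (Subgroup.mem_centralizer_singleton_iff.2 hxy.symm.eq)
  rw [D.cent_of_order hx, hc, mul_one] at h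
  rcases (Nat.dvd_prime hp.out).1 h with h1 | h1
  · exact orderOf_eq_one_iff.1 h1
  · exact absurd h1.symm.dvd hy

/-- A character not vanishing on `q`-singular elements does not have the full `q`-part in its degree. -/
theorem not_full {q a : ℕ} [Fact q.Prime] (ha : q ^ a ∣ Nat.card G) (ha' : ¬ q ^ (a + 1) ∣ Nat.card G)
    (χ : IrrCharacter G) {x : G} (hx : q ∣ orderOf x) (hne : (χ : G → ℂ) x ≠ 0) : ¬ q ^ a ∣ dg χ :=
  fun hd => hne (CfsgLib.Char.char_defect_zero_vanishes χ ha ha' (val_one χ) hd hx)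

/-- An element of order `p q` in the centralizer. -/
theorem PData.exists_singular {q : ℕ} [hq : Fact q.Prime] (hqc : q ∣ c) (hpq : q ≠ p) :
    ∃ x ∈ (D.P : Subgroup G), x ≠ 1 ∧ ∃ y ∈ Subgroup.centralizer ((D.P : Subgroup G) : Set G),
      ¬ p ∣ orderOf y ∧ q ∣ orderOf (x * y) := by
  obtain ⟨x, hx, hxo⟩ := D.exists_elt
  obtain ⟨y', hy'⟩ := exists_prime_orderOf_dvd_card'
    (G := Subgroup.centralizer ((D.P : Subgroup G) : Set G)) q (by rw [D.cent_P]; exact hqc.mul_left p)
  have hyo : orderOf (y' : G) = q := by rw [Subgroup.orderOf_coe, hy']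
  have hpy : ¬ p ∣ orderOf (y' : G) := by
    rw [hyo]; exact fun h => hpq ((Nat.prime_dvd_prime_iff_eq hp.out hq.out).1 h).symm
  refine ⟨x, hx, fun e1 => hp.out.one_lt.ne' (by rw [← hxo, e1, orderOf_one]), y', y'.2, hpy, ?_⟩
  have hcm : Commute x (y' : G) := Subgroup.mem_centralizer_iff.1 y'.2 x hx
  rw [hcm.orderOf_mul_eq_mul_orderOf_of_coprime (by
    rw [hxo]; exact (Nat.Prime.coprime_iff_not_dvd hp.out).2 hpy), hyo]
  exact dvd_mul_left q _

/-- The block degrees do not have the full `q`-part for a prime `q` dividing `c`. -/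
theorem PData.not_full_X {q a : ℕ} [Fact q.Prime] (hqc : q ∣ c) (hpq : q ≠ p) (ha : q ^ a ∣ Nat.card G)
    (ha' : ¬ q ^ (a + 1) ∣ Nat.card G) {χ : IrrCharacter G} (hχ : χ ∈ D.S.X) : ¬ q ^ a ∣ dg χ := by
  obtain ⟨x, hx, hx1, y, hy, hyr, hq⟩ := D.exists_singular hqc hpq
  refine not_full ha ha' χ hq ?_
  rw [D.S.value_X χ hχ x hx hx1 y hy hyr]
  rcases D.S.sign_X χ hχ with h | h <;> rw [h] <;> norm_num

/-- The exceptional degree does not have the full `q`-part for a prime `q` dividing `c`. -/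
theorem PData.not_full_D {q a : ℕ} [Fact q.Prime] (hqc : q ∣ c) (hpq : q ≠ p) (ha : q ^ a ∣ Nat.card G)
    (ha' : ¬ q ^ (a + 1) ∣ Nat.card G) : ¬ q ^ a ∣ D.S.D := by
  classical
  obtain ⟨x, hx, hx1, y, hy, hyr, hq⟩ := D.exists_singular hqc hpq
  intro hd
  have hv := D.S.value_Y x hx hx1 y hy hyr
  rw [Finset.sum_eq_zero fun θ hθ => CfsgLib.Char.char_defect_zero_vanishes θ ha ha' (val_one θ)
    (by rwa [show dg θ = D.S.D from D.S.degree_Y θ hθ]) hq] at hv
  rcases D.S.sign with h | h <;> rw [h] at hv <;> norm_num at hv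

/-- The characters outside the principal block of a self-centralizing Sylow subgroup. -/
theorem PData.dvd_outside (hc : c = 1) (χ : IrrCharacter G) (h1 : χ ≠ oneChar G) (hX : χ ∉ D.S.X)
    (hY : χ ∉ D.S.Y) : p ∣ dg χ :=
  dvd_dg_outside D.S D.card_P (by rw [D.cent_P, hc, mul_one]) χ h1 hX hY

include D in
/-- The residues of the degrees at a self-centralizing Sylow subgroup. -/
theorem PData.residues (hc : c = 1) (χ : IrrCharacter G) :
    (p : ℤ) ∣ (dg χ : ℤ) ∨ (p : ℤ) ∣ (dg χ : ℤ) - 1 ∨ (p : ℤ) ∣ (dg χ : ℤ) + 1 ∨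
      (p : ℤ) ∣ (dg χ : ℤ) - e ∨ (p : ℤ) ∣ (dg χ : ℤ) + e := by
  by_cases h1 : χ = oneChar G
  · subst h1; right; left; rw [dg_one]; simp
  by_cases hX : χ ∈ D.S.X
  · have h := Int.modEq_iff_dvd.1 (D.S.degree_X χ hX).symm
    rcases D.S.sign_X χ hX with hs | hs <;> rw [hs] at h
    · exact Or.inr (Or.inl h)
    · exact Or.inr (Or.inr (Or.inl (by simpa [dg, sub_neg_eq_add] using h)))
  by_cases hY : χ ∈ D.S.Y
  · have h := Int.modEq_iff_dvd.1 D.S.congr_Y.symm
    rw [← D.S.degree_Y χ hY] at h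
    rcases D.S.sign with hs | hs <;> rw [hs] at h
    · exact Or.inr (Or.inr (Or.inr (Or.inl (by simpa [dg] using h))))
    · exact Or.inr (Or.inr (Or.inr (Or.inr (by simpa [dg, sub_neg_eq_add] using h))))
  exact Or.inl (Int.natCast_dvd_natCast.2 (D.dvd_outside hc χ h1 hX hY))

end CfsgLib.Char.MTwentyTwoOrder
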