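import Cfsg.Agent.Lib.Char.MTwentyTwoOrder.SevenGroup

/-!
# Simple groups of order 443520: a bound on the centralizer of an involution inverting elements of order seven
-/

set_option autoImplicit false
set_option linter.all false

open Cfsg CfsgLib.Perm.PrimeBlock CfsgLib.Block Finset CfsgLib.Char.MEleven.Order CfsgLib.Char.MTwelveOrder

namespace CfsgLib.Char.MTwentyTwoOrder

universe u

set_option maxRecDepth 100000 in
theorem cands_seven_large : ∀ s ∈ cands' 7 4 resEleven, 15 ≤ s.natAbs := by decide +kernel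

set_option maxRecDepth 100000 in
theorem exc_seven_large : ∀ d : ℕ, d < 15 → ∀ s ∈ [(d : ℤ), -(d : ℤ)],
    (okAbs 443520 (443520 / 7) d && resEleven d && (s % 7 == 6) && !kills 7 (-1 * s)) = false := by decide +kernel

theorem res_all {G : Type u} [Group G] [Fintype G] [IsSimpleGroup G] [Fact (Nat.Prime 11)] (D : PData G 11 5 1)
    (χ : IrrCharacter G) : resEleven (dg χ) = true := by
  have h := D.residues rfl χ
  simp only [resEleven, decide_eq_true_eq, List.mem_cons, List.not_mem_nil, or_false]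
  push_cast at h
  omega

variable {G : Type u} [Group G] [Fintype G] [IsSimpleGroup G]

/-- An involution with at least 21 conjugates inverting an element of order seven does not have centralizer of
order 2016 or 6720 (parameters e = 6, c = 4). -/
theorem seven_bound [Fact (Nat.Prime 7)] [Fact (Nat.Prime 11)] (h : Nat.card G = 443520) (D11 : PData G 11 5 1)
    (D : PData G 7 6 4) {x : G} (hx : x ∈ (D.P : Subgroup G)) (hx1 : x ≠ 1) {z : G} (hz : orderOf z = 2)
    (hC : Nat.card (Subgroup.centralizer ({z} : Set G)) = 2016 ∨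
      Nat.card (Subgroup.centralizer ({z} : Set G)) = 6720)
    (hinv : 21 ≤ (inverters z x).card) : False := by
  classical
  have hG := noncomm h
  obtain ⟨θ, hθ⟩ := nonempty_Y D.S (by norm_num) (by norm_num)
  obtain ⟨k, hk⟩ : ∃ k, (∑ y ∈ regCent 7 (D.P : Subgroup G), CfsgLib.Char.classConst z z (x * y)) = k := ⟨_, rfl⟩
  have hk63 : 63 ≤ k := by
    have h1 := exists_sq (by norm_num) D.P D.card_P D.cent_P hx hx1 hz
    rw [hk] at h1
    have h2 : 21 * 21 ≤ (inverters z x).card * (inverters z x).card := Nat.mul_le_mul hinv hinv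
    omega
  have hbig : ∀ χ ∈ D.S.X, (15 : ℝ) ≤ |(sd D.S χ : ℝ)| := fun χ hχ => by
    have h1 := cands_seven_large _
      (D.mem_cands' h (by norm_num) (by norm_num) (fun ψ _ => res_all D11 ψ) hχ)
    rw [← Int.cast_abs, ← Int.natCast_natAbs]
    exact_mod_cast h1
  have hDbig : 15 ≤ D.S.D := by
    by_contra hlt
    push Not at hlt
    obtain ⟨hok, hmod⟩ : okAbs 443520 (443520 / 7) (D.S.ε * (D.S.D : ℤ)).natAbs = true ∧
        (D.S.ε * (D.S.D : ℤ)) % (7 : ℤ) = ((6 : ℕ) : ℤ) % (7 : ℤ) := by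
      have := D.S.okAbs_Y hG (m := 443520 / 7) (by rw [h]) (by norm_num) (by norm_num) hθ
      rwa [h] at this
    have hres : resEleven D.S.D = true := by rw [← D.S.degree_Y θ hθ]; exact res_all D11 θ
    have hkill := D.no_kill hG (by norm_num) (by norm_num) (by norm_num) (by norm_num)
    have habs : (D.S.ε * (D.S.D : ℤ)).natAbs = D.S.D := by rcases D.S.sign with hs | hs <;> simp [hs]
    have hmem : D.S.ε * (D.S.D : ℤ) ∈ [(D.S.D : ℤ), -(D.S.D : ℤ)] := by
      rcases D.S.sign with hs | hs <;> simp [hs]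
    have htab := exc_seven_large _ hlt _ hmem
    rw [habs] at hok
    simp only [hok, hres, hmod, Bool.and_eq_false_iff, Bool.not_eq_false', beq_eq_false_iff_ne] at htab
    norm_num at htab hkill
    rw [htab] at hkill
    exact Bool.noConfusion hkill
  have hcol : 1 + ∑ χ ∈ D.S.X, sv D.S z χ * sv D.S z χ + (D.S.ε * iv θ z) * (D.S.ε * iv θ z) ≤
      (Nat.card (Subgroup.centralizer ({z} : Set G)) : ℤ) := by
    have hb := sum_iv_sq_le (({oneChar G} : Finset _) ∪ D.S.X ∪ {θ}) (g := z) (fun χ _ => val_invol hG χ hz)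
    rw [Finset.sum_union (Finset.disjoint_singleton_right.2 (fun hm => by
        rcases Finset.mem_union.1 hm with h1 | h1
        · exact D.S.one_notMem_Y (Finset.mem_singleton.1 h1 ▸ hθ)
        · exact Finset.disjoint_left.1 D.S.disjoint h1 hθ)),
      Finset.sum_union (Finset.disjoint_singleton_left.2 D.S.one_notMem_X), Finset.sum_singleton,
      Finset.sum_singleton, iv_oneChar,
      Finset.sum_congr rfl (s₁ := D.S.X) (g := fun χ => sv D.S z χ * sv D.S z χ) (fun χ hχ => by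
        simp only [sv]; rcases D.S.sign_X χ hχ with hs | hs <;> rw [hs] <;> ring)] at hb
    have he : (D.S.ε * iv θ z) * (D.S.ε * iv θ z) = iv θ z * iv θ z := by
      rcases D.S.sign with hs | hs <;> rw [hs] <;> ring
    rw [he]
    linarith
  have hmain := section_eq hG D.S D.hout (by norm_num) (by norm_num) (by norm_num) hx hx1 hz hθ
  rw [hk, h, card_regCent D.P D.card_P D.cent_P] at hmain
  set C := Nat.card (Subgroup.centralizer ({z} : Set G)) with hCdef
  set T : ℤ := D.S.ε * iv θ z with hT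
  set E : ℤ := D.S.ε * (D.S.D : ℤ) with hE
  have hreal : (k : ℝ) * C * C = 443520 * 4 *
      (1 + ∑ χ ∈ D.S.X, (sv D.S z χ : ℝ) ^ 2 / (sd D.S χ : ℝ) - (T : ℝ) ^ 2 / (E : ℝ)) := by
    apply Complex.ofReal_injective
    push_cast at hmain ⊢
    exact hmain
  have hE15 : (15 : ℝ) ≤ |(E : ℝ)| := by
    have : |(E : ℝ)| = (D.S.D : ℝ) := by rw [hE]; rcases D.S.sign with hs | hs <;> simp [hs]
    rw [this]
    exact_mod_cast hDbig
  have hterm : ∀ a b : ℝ, 15 ≤ |b| → a ^ 2 / b ≤ a ^ 2 / 15 ∧ -(a ^ 2 / 15) ≤ a ^ 2 / b := by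
    intro a b hb
    have h1 : |a ^ 2 / b| ≤ a ^ 2 / 15 := by
      rw [abs_div, abs_of_nonneg (sq_nonneg a)]
      exact div_le_div_of_nonneg_left (sq_nonneg a) (by norm_num) hb
    exact ⟨(abs_le.1 h1).2, (abs_le.1 h1).1⟩
  have hsum : ∑ χ ∈ D.S.X, (sv D.S z χ : ℝ) ^ 2 / (sd D.S χ : ℝ) ≤
      (∑ χ ∈ D.S.X, (sv D.S z χ : ℝ) ^ 2) / 15 := by
    rw [Finset.sum_div]
    exact Finset.sum_le_sum fun χ hχ => (hterm _ _ (hbig χ hχ)).1
  have hT15 := (hterm (T : ℝ) (E : ℝ) hE15).2
  have hcol' : 1 + ∑ χ ∈ D.S.X, (sv D.S z χ : ℝ) ^ 2 + (T : ℝ) ^ 2 ≤ (C : ℝ) := by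
    have h1 : ((1 + ∑ χ ∈ D.S.X, sv D.S z χ * sv D.S z χ + T * T : ℤ) : ℝ) ≤ ((C : ℤ) : ℝ) := by
      exact_mod_cast hcol
    push_cast at h1
    simpa [sq] using h1
  have hk' : (63 : ℝ) ≤ (k : ℝ) := by exact_mod_cast hk63
  rcases hC with hC | hC <;> rw [hC] at hreal hcol' <;> push_cast at hreal hcol' <;> nlinarith

end CfsgLib.Char.MTwentyTwoOrder
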