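import Cfsg.Agent.Lib.Char.MTwentyTwoOrder.Eight
import Cfsg.Agent.Lib.Char.MTwentyTwoOrder.Eleven

/-!
# Simple groups of order 443520: group lemmas for the prime seven
-/

set_option autoImplicit false
set_option linter.all false

open Cfsg Subgroup MulAction CfsgLib.Perm.PrimeBlock CfsgLib.Char.MEleven.Order CfsgLib.Char.MTwelveOrder
open scoped Pointwise

namespace CfsgLib.Char.MTwentyTwoOrder

universe u

set_option maxRecDepth 100000 in
theorem no_big_table : ∀ m < 46, 45 % m = 0 → ∀ d ∈ [56, 168, 448, 1344], 896 * m % d = 0 →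
    (896 * m / d) % 7 ≠ 1 := by decide +kernel

set_option maxRecDepth 100000 in
theorem j_table : ∀ j < 2641, (2640 % j = 0 ∧ j % 7 = 1 ∧ j % 11 ≠ 0 ∧ j % 2 = 0) → (j = 8 ∨ j = 120) := by
  decide +kernel

section General

variable {G : Type u} [Group G] [Finite G]

local instance fact_seven_group : Fact (Nat.Prime 7) := ⟨by norm_num⟩

/-- An element of `g` of order two normalizing a subgroup of prime order but not centralizing it inverts it. -/
theorem inv_of_not_cent {p : ℕ} [hp : Fact p.Prime] {P : Subgroup G} (hP : Nat.card P = p) {g : G}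
    (hg2 : g * g = 1) (hgN : g ∈ normalizer (P : Set G)) (hgC : g ∉ centralizer (P : Set G)) {x : G} (hx : x ∈ P) :
    g * x * g⁻¹ = x⁻¹ := by
  have hgx : g * x * g⁻¹ ∈ P := (mem_normalizer_iff.1 hgN x).1 hx
  haveI : IsCyclic P := isCyclic_of_prime_card hP
  have hPc : ∀ a ∈ P, ∀ b ∈ P, a * b = b * a := fun a ha b hb => by
    letI : CommGroup P := IsCyclic.commGroup
    exact congrArg Subtype.val (mul_comm (⟨a, ha⟩ : P) ⟨b, hb⟩)
  have hinv : g⁻¹ = g := inv_eq_of_mul_eq_one_right hg2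
  set w := g * x * g⁻¹ * x with hw
  have hfix : g * w = w * g := by
    refine mul_inv_eq_iff_eq_mul.1 ?_
    calc g * w * g⁻¹ = (g * g) * x * (g⁻¹ * x * g⁻¹) := by rw [hw]; group
      _ = x * (g * x * g⁻¹) := by rw [hg2, one_mul]; congr 1; rw [hinv]
      _ = w := hPc _ hx _ hgx
  by_contra hne
  have hw1 : w ≠ 1 := fun h1 => hne (eq_inv_of_mul_eq_one_left h1)
  have hwP : w ∈ P := P.mul_mem hgx hx
  have hz : zpowers w = P := eq_of_le_of_card_ge (zpowers_le.2 hwP) (by
    have h1 := Subgroup.orderOf_dvd_natCard P hwP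
    rw [hP] at h1
    rw [hP, Nat.card_zpowers]
    rcases (Nat.dvd_prime hp.out).1 h1 with h2 | h2
    · exact absurd (orderOf_eq_one_iff.1 h2) hw1
    · exact h2.ge)
  refine hgC (mem_centralizer_iff.2 fun a ha => ?_)
  rw [← hz] at ha
  obtain ⟨k, rfl⟩ := mem_zpowers_iff.1 ha
  exact ((Commute.zpow_right hfix k).eq).symm

/-- An element commuting with a subgroup of order four, outside it, and of order two, gives a subgroup of order
eight in its centralizer. -/
theorem exists_eight_cent {g : G} (hg2 : g * g = 1) (hg1 : g ≠ 1) {A : Subgroup G} (hA : Nat.card A = 4)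
    (hgA : g ∉ A) (hc : ∀ a ∈ A, Commute g a) :
    ∃ B : Subgroup G, (∀ b ∈ B, Commute g b) ∧ Nat.card B = 8 := by
  have hgo : orderOf g = 2 := orderOf_eq_prime (by rw [pow_two, hg2]) hg1
  have hz : ∀ k : ℤ, g ^ k = 1 ∨ g ^ k = g := fun k => by
    rcases Int.even_or_odd k with ⟨m, rfl⟩ | ⟨m, rfl⟩
    · left; rw [← two_mul, zpow_mul, zpow_two, hg2, one_zpow]
    · right; rw [zpow_add, zpow_mul, zpow_two, hg2, one_zpow, one_mul, zpow_one]
  have hcm : ∀ (a : A) (b : zpowers g), Commute (a : G) (b : G) := fun a b => by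
    obtain ⟨k, hk⟩ := mem_zpowers_iff.1 b.2
    rw [← hk]
    exact ((hc a a.2).zpow_left k).symm
  set ρ := MonoidHom.noncommCoprod A.subtype (zpowers g).subtype hcm with hρ
  have hinj : Function.Injective ρ := by
    rw [injective_iff_map_eq_one]
    rintro ⟨a, b⟩ h
    have h1 : (a : G) * (b : G) = 1 := h
    obtain ⟨k, hk⟩ := mem_zpowers_iff.1 b.2
    rcases hz k with h0 | h0
    · rw [h0] at hk
      rw [← hk, mul_one] at h1
      exact Prod.ext (Subtype.ext h1) (Subtype.ext hk.symm)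
    · exfalso
      refine hgA ?_
      rw [← h0, hk, eq_inv_of_mul_eq_one_right h1]
      exact A.inv_mem a.2
  refine ⟨ρ.range, ?_, by
    rw [← Nat.card_congr (MonoidHom.ofInjective hinj).toEquiv, Nat.card_prod, hA, Nat.card_zpowers, hgo]⟩
  rintro w ⟨⟨a, b⟩, rfl⟩
  obtain ⟨k, hk⟩ := mem_zpowers_iff.1 b.2
  show Commute g ((a : G) * b)
  rw [← hk]
  exact (hc a a.2).mul_right ((Commute.refl g).zpow_right k)

/-- An element of the centralizer of `P` of order prime to seven fixing all eight Sylow subgroups: so do its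
conjugates. -/
theorem eight_centralizer (P : Sylow 7 G) (hP : Nat.card (P : Subgroup G) = 7) (h8 : Nat.card (Sylow 7 G) = 8)
    {k : G} (hk : k ∈ centralizer ((P : Subgroup G) : Set G)) (hk7 : ¬ 7 ∣ orderOf k) (g : G) :
    g * k * g⁻¹ ∈ centralizer ((P : Subgroup G) : Set G) := by
  have hfree : ∀ (a : G) (R : Sylow 7 G), a ∈ (P : Subgroup G) → R ≠ P → a • R = R → a = 1 := by
    intro a R ha hR haR
    by_contra ha1
    have hle : (P : Subgroup G) ≤ normalizer ((R : Subgroup G) : Set G) := by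
      have hz : zpowers a = (P : Subgroup G) := eq_of_le_of_card_ge (zpowers_le.2 ha) (by
        have h1 := Subgroup.orderOf_dvd_natCard _ ha
        rw [hP] at h1
        rw [hP, Nat.card_zpowers]
        rcases (Nat.dvd_prime (by norm_num)).1 h1 with h2 | h2
        · exact absurd (orderOf_eq_one_iff.1 h2) ha1
        · exact h2.ge)
      rw [← hz]
      exact zpowers_le.2 (Sylow.smul_eq_iff_mem_normalizer.1 haR)
    have h := IsPGroup.inf_normalizer_sylow P.isPGroup' R
    exact hR (Sylow.ext (P.is_maximal' R.isPGroup' ((le_inf le_rfl hle).trans (h.le.trans inf_le_right))))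
  have hall : ∀ R : Sylow 7 G, k • R = R := by
    intro R
    by_cases hR : R = P
    · subst hR
      exact Sylow.smul_eq_iff_mem_normalizer.2 (centralizer_le_normalizer _ hk)
    have hkR : k • R ≠ P := fun h => hR (MulAction.injective k (h.trans
      (Sylow.smul_eq_iff_mem_normalizer.2 (centralizer_le_normalizer _ hk)).symm))
    obtain ⟨x, hx, hxR⟩ := orbit_others P hP h8 hR hkR
    have hcm : Commute x⁻¹ k := (show Commute x k from (mem_centralizer_iff.1 hk x hx)).inv_left
    have hfix : x⁻¹ * k ∈ stabilizer G R := by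
      rw [mem_stabilizer_iff, mul_smul, ← hxR, inv_smul_smul]
    have hpow := pow_mem hfix (orderOf k)
    rw [hcm.mul_pow, pow_orderOf_eq_one, mul_one] at hpow
    have h1 := hfree _ R (pow_mem ((P : Subgroup G).inv_mem hx) _) hR hpow
    have h7 : orderOf x⁻¹ ∣ 7 := hP ▸ Subgroup.orderOf_dvd_natCard _ ((P : Subgroup G).inv_mem hx)
    have hd : orderOf x⁻¹ ∣ orderOf k := orderOf_dvd_iff_pow_eq_one.2 h1
    rcases (Nat.dvd_prime (by norm_num)).1 h7 with h | h
    · have hx1 : x⁻¹ = 1 := orderOf_eq_one_iff.1 h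
      rw [inv_eq_one.1 hx1, one_smul] at hxR
      exact hxR.symm
    · exact absurd (h ▸ hd) hk7
  have hall' : ∀ R : Sylow 7 G, (g * k * g⁻¹) • R = R := fun R => by
    rw [mul_smul, mul_smul, hall, smul_inv_smul]
  refine mem_centralizer_iff.2 fun a ha => ?_
  set r := g * k * g⁻¹ with hr
  obtain ⟨R, hR⟩ : ∃ R : Sylow 7 G, R ≠ P := by
    haveI : Nontrivial (Sylow 7 G) := Finite.one_lt_card_iff_nontrivial.1 (by rw [h8]; norm_num)
    exact exists_ne P
  have hrN : r ∈ normalizer ((P : Subgroup G) : Set G) := Sylow.smul_eq_iff_mem_normalizer.1 (hall' P)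
  have h1 := hfree (r * a * r⁻¹ * a⁻¹) R
    ((P : Subgroup G).mul_mem ((mem_normalizer_iff.1 hrN a).1 ha) ((P : Subgroup G).inv_mem ha)) hR (by
      have ha' := hall' (a⁻¹ • R)
      have hri : r⁻¹ • (a⁻¹ • R) = a⁻¹ • R := inv_smul_eq_iff.2 ha'.symm
      rw [mul_smul, mul_smul, mul_smul, hri, smul_inv_smul, hall' R])
  exact (mul_inv_eq_iff_eq_mul.1 (mul_inv_eq_one.1 h1)).symm

/-- A subgroup of index two of a subgroup normalized by an element and the intersection with its conjugate. -/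
theorem inter_conj {W U K : Subgroup G} (hUW : U ≤ W) (hidx : Nat.card W = 2 * Nat.card U)
    (hKU : U ≤ normalizer (K : Set G)) {s : G} (hs : s ∈ W) (hsU : s ∉ U) :
    W ≤ normalizer ((K ⊓ K.map (MulAut.conj s).toMonoidHom : Subgroup G) : Set G) ∧
      (∀ u ∈ U, s * u * s⁻¹ ∈ U ∧ s⁻¹ * u * s ∈ U) ∧ U ≤ normalizer ((K.map (MulAut.conj s).toMonoidHom : Subgroup G) : Set G) ∧
      s * s ∈ U := by
  have hi2 : (U.subgroupOf W).index = 2 := by
    have h1 := card_mul_index (U.subgroupOf W)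
    rw [Nat.card_congr (subgroupOfEquivOfLe hUW).toEquiv, hidx, mul_comm 2] at h1
    exact Nat.eq_of_mul_eq_mul_left Nat.card_pos h1
  haveI : (U.subgroupOf W).Normal := normal_of_index_eq_two hi2
  have hUN : W ≤ normalizer (U : Set G) := (normal_subgroupOf_iff_le_normalizer hUW).1 inferInstance
  have hconj : ∀ u ∈ U, s * u * s⁻¹ ∈ U ∧ s⁻¹ * u * s ∈ U := fun u hu =>
    ⟨(mem_normalizer_iff.1 (hUN hs) u).1 hu, by
      simpa using (mem_normalizer_iff.1 (hUN (W.inv_mem hs)) u).1 hu⟩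
  have hss : s * s ∈ U := by
    have := mul_self_mem_of_index_two hi2 ⟨s, hs⟩
    simpa [mem_subgroupOf] using this
  have hmem : ∀ w, w ∈ K.map (MulAut.conj s).toMonoidHom ↔ s⁻¹ * w * s ∈ K := by
    intro w
    constructor
    · rintro ⟨k, hk, rfl⟩
      simpa [mul_assoc] using hk
    · intro hw
      exact ⟨_, hw, by simp [mul_assoc]⟩
  have hUN' : U ≤ normalizer ((K.map (MulAut.conj s).toMonoidHom : Subgroup G) : Set G) := by
    intro u hu
    rw [mem_normalizer_iff]
    intro w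
    rw [hmem, hmem, mem_normalizer_iff.1 (hKU (hconj u hu).2) (s⁻¹ * w * s)]
    simp [mul_assoc]
  refine ⟨?_, hconj, hUN', hss⟩
  have hUL : U ≤ normalizer ((K ⊓ K.map (MulAut.conj s).toMonoidHom : Subgroup G) : Set G) := by
    intro u hu
    rw [mem_normalizer_iff]
    intro w
    simp only [mem_inf]
    rw [mem_normalizer_iff.1 (hKU hu) w, mem_normalizer_iff.1 (hUN' hu) w]
  have hsL : s ∈ normalizer ((K ⊓ K.map (MulAut.conj s).toMonoidHom : Subgroup G) : Set G) := by
    rw [mem_normalizer_iff]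
    intro w
    simp only [mem_inf, hmem]
    constructor
    · rintro ⟨h1, h2⟩
      refine ⟨?_, by simpa [mul_assoc] using h1⟩
      have := (mem_normalizer_iff.1 (hKU hss) (s⁻¹ * w * s)).1 h2
      simpa [mul_assoc] using this
    · rintro ⟨h1, h2⟩
      refine ⟨by simpa [mul_assoc] using h2, ?_⟩
      have := (mem_normalizer_iff.1 (hKU (U.inv_mem hss)) (s * w * s⁻¹)).1 h1
      simpa [mul_assoc] using this
  intro w hw
  by_cases hwU : w ∈ U
  · exact hUL hwU
  have h' : s⁻¹ * w ∈ U := by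
    have h2 := (mul_mem_iff_of_index_two hi2 (a := (⟨s, hs⟩ : W)⁻¹) (b := ⟨w, hw⟩)).2
      ⟨fun h => absurd (by simpa [mem_subgroupOf] using h) hsU, fun h => absurd (by simpa [mem_subgroupOf] using h) hwU⟩
    simpa [mem_subgroupOf] using h2
  have := mul_mem hsL (hUL h')
  rwa [mul_inv_cancel_left] at this

/-- Fusion in the centralizer of a Sylow subgroup is controlled by its normalizer. -/
theorem fuse_cent {p : ℕ} [Fact p.Prime] (P : Sylow p G) {a b g : G}
    (ha : a ∈ centralizer ((P : Subgroup G) : Set G)) (hb : b ∈ centralizer ((P : Subgroup G) : Set G))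
    (hg : g * a * g⁻¹ = b) : ∃ n ∈ normalizer ((P : Subgroup G) : Set G), n * a * n⁻¹ = b := by
  set C := centralizer ({b} : Set G) with hC
  have h1 : (P : Subgroup G) ≤ C := fun x hx =>
    mem_centralizer_singleton_iff.2 (mem_centralizer_iff.1 hb x hx)
  have h2 : ((g • P : Sylow p G) : Subgroup G) ≤ C := by
    intro w hw
    rw [Sylow.coe_subgroup_smul] at hw
    obtain ⟨x, hx, rfl⟩ := hw
    refine mem_centralizer_singleton_iff.2 ?_
    show g * x * g⁻¹ * b = b * (g * x * g⁻¹)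
    rw [← hg]
    calc g * x * g⁻¹ * (g * a * g⁻¹) = g * (x * a) * g⁻¹ := by group
      _ = g * (a * x) * g⁻¹ := by rw [mem_centralizer_iff.1 ha x hx]
      _ = _ := by group
  obtain ⟨h, hh⟩ := MulAction.exists_smul_eq C ((g • P).subtype h2) (P.subtype h1)
  have h3 : (h : G) • (g • P) = P := by
    have hle : (((h : G) • (g • P) : Sylow p G) : Subgroup G) ≤ C := by
      intro w hw
      rw [Sylow.coe_subgroup_smul] at hw
      obtain ⟨x, hx, rfl⟩ := hw
      exact C.mul_mem (C.mul_mem h.2 (h2 hx)) (C.inv_mem h.2)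
    refine Sylow.subtype_injective (hP := hle) (hQ := h1) ?_
    rw [← hh, Sylow.smul_subtype]
    rfl
  refine ⟨h * g, Sylow.smul_eq_iff_mem_normalizer.1 (by rw [mul_smul]; exact h3), ?_⟩
  calc (h : G) * g * a * ((h : G) * g)⁻¹ = (h : G) * (g * a * g⁻¹) * (h : G)⁻¹ := by group
    _ = b := by rw [hg, mul_inv_eq_iff_eq_mul]; exact mem_centralizer_singleton_iff.1 h.2

end General

theorem dihedral_four_facts : ∃ z : DihedralGroup 4, z ≠ 1 ∧ z * z = 1 ∧ (∀ g, z * g = g * z) ∧
    (∀ g, (∀ h, g * h = h * g) → g = 1 ∨ g = z) ∧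
    (Finset.univ.filter fun g : DihedralGroup 4 => g * g = 1 ∧ g ≠ 1 ∧ g ≠ z).card = 4 :=
  ⟨DihedralGroup.r 2, by decide, by decide, by decide, by decide, by decide⟩

/-- The involutions of a dihedral group of order eight. -/
theorem dihedral_facts {D : Type u} [Group D] (e : D ≃* DihedralGroup 4) :
    ∃ z : D, z ≠ 1 ∧ z * z = 1 ∧ (∀ g, z * g = g * z) ∧ (∀ g, (∀ h, g * h = h * g) → g = 1 ∨ g = z) ∧
      Nat.card {g : D // g * g = 1 ∧ g ≠ 1 ∧ g ≠ z} = 4 := by
  obtain ⟨z, h1, h2, h3, h4, h5⟩ := dihedral_four_facts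
  refine ⟨e.symm z, fun h => h1 ?_, ?_, fun g => e.injective ?_, fun g hg => ?_, ?_⟩
  · simpa using congrArg e h
  · rw [← map_mul, h2, map_one]
  · simp [h3]
  · rcases h4 (e g) (fun h => by simpa using congrArg e (hg (e.symm h))) with h | h
    · exact Or.inl (e.map_eq_one_iff.1 h)
    · exact Or.inr (by rw [← h, MulEquiv.symm_apply_apply])
  · rw [← Fintype.card_subtype, ← Nat.card_eq_fintype_card] at h5
    refine (Nat.card_congr (e.toEquiv.subtypeEquiv fun g => ?_)).trans h5
    show _ ↔ e g * e g = 1 ∧ e g ≠ 1 ∧ e g ≠ z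
    rw [← map_mul, e.map_eq_one_iff, ne_eq (e g), e.map_eq_one_iff, ne_eq (e g), ← e.eq_symm_apply]

variable {G : Type u} [Group G] [Fintype G] [IsSimpleGroup G]

/-- A non-trivial 2-subgroup has normalizer of order prime to eleven. -/
theorem two_norm_eleven [Fact (Nat.Prime 11)] (D : PData G 11 5 1) {X : Subgroup G} (hX : X ≠ ⊥)
    (hX2 : Nat.card X ∣ 128) : ¬ 11 ∣ Nat.card (normalizer (X : Set G)) := by
  intro hd
  obtain ⟨g', hg'⟩ := exists_prime_orderOf_dvd_card' (G := normalizer (X : Set G)) 11 hd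
  have hgo : orderOf (g' : G) = 11 := by rw [Subgroup.orderOf_coe, hg']
  have hne : Nat.card X ≠ 1 := fun h => hX (card_eq_one.1 h)
  obtain ⟨y, hy, hy1, hgy⟩ := exists_fixed hgo (X := X) g'.2 (by
    intro hm
    obtain ⟨k, hk, hc⟩ := (Nat.dvd_prime_pow Nat.prime_two).1 (show Nat.card X ∣ 2 ^ 7 by simpa using hX2)
    rw [hc] at hm hne
    unfold Nat.ModEq at hm
    interval_cases k <;> first | exact hne rfl | (revert hm; norm_num))
  refine hy1 (D.cent_eq_one hgo rfl hgy fun h11 => ?_)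
  have := (h11.trans (Subgroup.orderOf_dvd_natCard X hy)).trans hX2
  norm_num at this

/-- No non-trivial 2-subgroup normalized by `P` and enough of its normalizer has normalizer with a full 2-part. -/
theorem no_big [Fact (Nat.Prime 11)] [Fact (Nat.Prime 7)] (h : Nat.card G = 443520) (D11 : PData G 11 5 1)
    {e c : ℕ} (D : PData G 7 e c) {q : ℕ} (hNq : (e * (7 * c) = 1344 ∧ q = 448) ∨ (e * (7 * c) = 168 ∧ q = 56))
    {X : Subgroup G} (hX : X ≠ ⊥) (hX2 : Nat.card X ∣ 128) (hPX : (D.P : Subgroup G) ≤ normalizer (X : Set G))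
    {W : Subgroup G} (hW : Nat.card W = 128) (hWX : W ≤ normalizer (X : Set G))
    (hq : q ∣ Nat.card ↥(normalizer (X : Set G) ⊓ normalizer ((D.P : Subgroup G) : Set G))) : False := by
  obtain ⟨j, hj, hcard⟩ := sylow_split D.P hPX
  have hdvd : Nat.card (normalizer (X : Set G)) ∣ 443520 := h ▸ card_subgroup_dvd_card _
  have h128 : 128 ∣ Nat.card (normalizer (X : Set G)) := hW ▸ card_dvd_of_le hWX
  have h7 : 7 ∣ Nat.card (normalizer (X : Set G)) := D.card_P ▸ card_dvd_of_le hPX
  have h11 := two_norm_eleven D11 hX hX2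
  obtain ⟨m, hm⟩ : 896 ∣ Nat.card (normalizer (X : Set G)) := by
    have := Nat.Coprime.mul_dvd_of_dvd_of_dvd (by norm_num : Nat.Coprime 128 7) h128 h7
    simpa using this
  rw [hm] at hdvd hcard h11
  have hm495 : m ∣ 495 := (Nat.mul_dvd_mul_iff_left (by norm_num : 0 < 896)).1 (by simpa using hdvd)
  have hm45 : m ∣ 45 := by
    have hc : Nat.Coprime m 11 := (((Nat.Prime.coprime_iff_not_dvd (by norm_num)).2 fun h =>
      h11 (h.mul_left 896))).symm
    exact hc.dvd_of_dvd_mul_right (by simpa using hm495)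
  have hd1 : Nat.card ↥(normalizer (X : Set G) ⊓ normalizer ((D.P : Subgroup G) : Set G)) ∣ e * (7 * c) :=
    D.norm_P ▸ card_dvd_of_le inf_le_right
  obtain ⟨d, hd⟩ : ∃ d, Nat.card ↥(normalizer (X : Set G) ⊓ normalizer ((D.P : Subgroup G) : Set G)) = d := ⟨_, rfl⟩
  rw [hd] at hd1 hq hcard
  obtain ⟨k, rfl⟩ := hq
  have hk : q * k = 56 ∨ q * k = 168 ∨ q * k = 448 ∨ q * k = 1344 := by
    rcases hNq with ⟨hN, rfl⟩ | ⟨hN, rfl⟩ <;> rw [hN] at hd1
    · have h3 : k ∣ 3 := (Nat.mul_dvd_mul_iff_left (by norm_num : 0 < 448)).1 hd1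
      rcases (Nat.dvd_prime Nat.prime_three).1 h3 with rfl | rfl <;> simp
    · have h3 : k ∣ 3 := (Nat.mul_dvd_mul_iff_left (by norm_num : 0 < 56)).1 hd1
      rcases (Nat.dvd_prime Nat.prime_three).1 h3 with rfl | rfl <;> simp
  have hm46 := Nat.le_of_dvd (by norm_num) hm45
  have hd0 : 0 < q * k := by omega
  have hjd : 896 * m / (q * k) = j := by rw [hcard, Nat.mul_div_cancel _ hd0]
  refine no_big_table m (by omega) (Nat.mod_eq_zero_of_dvd hm45) (q * k) (by
    simp only [List.mem_cons, List.not_mem_nil, or_false]; exact hk)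
    (Nat.mod_eq_zero_of_dvd ⟨j, by rw [hcard]; ring⟩) ?_
  rw [hjd]; exact hj

/-- Subgroups above the normalizer with order divisible by sixteen. -/
theorem card_above [Fact (Nat.Prime 7)] (h : Nat.card G = 443520) {e c : ℕ} (D : PData G 7 e c)
    (hN : e * (7 * c) = 168) (hc : c = 8 ∨ c = 4) {M : Subgroup G} (hM : M ≠ ⊤)
    (hNM : normalizer ((D.P : Subgroup G) : Set G) ≤ M) (h11 : ¬ 11 ∣ Nat.card M) (h16 : 16 ∣ Nat.card M) :
    Nat.card M = 1344 := by
  obtain ⟨j, hj, hcard, hfac⟩ := D.above hM hNM (by rcases hc with rfl | rfl <;> norm_num)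
  rw [hN] at hcard
  have hmul := card_mul_index M
  rw [hcard, h] at hmul
  have hji : j * M.index = 2640 := by
    have : 168 * (j * M.index) = 168 * 2640 := by linarith
    omega
  rw [hcard] at h11 h16 ⊢
  rcases j_table j (Nat.lt_succ_of_le (Nat.le_of_dvd (by norm_num) ⟨_, hji.symm⟩))
    ⟨Nat.mod_eq_zero_of_dvd ⟨_, hji.symm⟩, hj, fun he => h11 ((Nat.dvd_of_mod_eq_zero he).mul_right _),
      by omega⟩ with rfl | rfl
  · norm_num
  · exfalso
    have hi : M.index = 7 * 3 + 1 := by omega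
    have := Nat.le_of_dvd (by norm_num) (hfac 3 hi)
    rcases hc with rfl | rfl
    · norm_num [Nat.factorial] at this
    · have h4 := hfac 3 hi
      norm_num [Nat.factorial] at h4

end CfsgLib.Char.MTwentyTwoOrder
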