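import Cfsg.Agent.Lib.Char.MTwentyTwoOrder.Column
import Cfsg.Agent.Lib.Char.Counting
import Cfsg.Agent.Lib.BSW.CharTools

/-!
# Simple groups of order 443520: the column of an element of order three
-/

set_option autoImplicit false
set_option linter.all false
set_option maxRecDepth 100000

open Cfsg CfsgLib.Perm.PrimeBlock CfsgLib.Block Finset CfsgLib.Char.MEleven.Order CfsgLib.Char.MTwelveOrder

namespace CfsgLib.Char.MTwentyTwoOrder

universe u

/-- The signed value from a function on the degrees. -/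
def sgnv (v : ℕ → ℤ) (s : ℤ) : ℤ := if 0 < s then v s.natAbs else -v s.natAbs

theorem degList_counts : ∀ d ∈ degList, d = 45 ∨ d = 280 ∨ degList.count d = 1 := by decide +kernel

/-- The three columns. -/
def threeCols : List (List ℤ) :=
  [[1, -3, 0, 0, 1, 0, 1, -3, 3, 1, 1, -2], [1, 0, 0, 0, 1, 0, 1, 0, 0, 1, 1, -2],
    [1, 3, 0, 0, 1, 0, 1, 3, -3, 1, 1, -2]]

/-- The column from its values at the degrees 21 and 231. -/
def threeCol (a w : ℤ) : List ℤ :=
  [1, a, 0, 0, 1, 0, 1 + a + w, 2 * a + w, w, 1 + a + w, 1 + a + w, -3 * a - 3 * w - 2]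

/-- The sum of the squares of a column. -/
def colNorm (a w : ℤ) : ℕ := ((threeCol a w).map fun x => x * x).sum.toNat

theorem three_search_all : ((List.range 23).all fun i : ℕ => (List.range 23).all fun j : ℕ =>
    !(1152 % colNorm (3 * (i : ℤ) - 33) (3 * (j : ℤ) - 33) == 0) ||
      !(colNorm (3 * (i : ℤ) - 33) (3 * (j : ℤ) - 33) % 3 == 0) ||
      threeCols.contains (threeCol (3 * (i : ℤ) - 33) (3 * (j : ℤ) - 33))) = true := by decide +kernel

theorem three_search (i : ℕ) (hi : i < 23) (j : ℕ) (hj : j < 23)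
    (h1 : 1152 % colNorm (3 * (i : ℤ) - 33) (3 * (j : ℤ) - 33) = 0)
    (h2 : colNorm (3 * (i : ℤ) - 33) (3 * (j : ℤ) - 33) % 3 = 0) :
    threeCol (3 * (i : ℤ) - 33) (3 * (j : ℤ) - 33) ∈ threeCols := by
  have h := List.all_eq_true.1 (List.all_eq_true.1 three_search_all i (List.mem_range.2 hi)) j (List.mem_range.2 hj)
  simpa [h1, h2] using h

theorem three_inner : ∀ l ∈ threeCols, ∀ l' ∈ threeCols, (List.zipWith (· * ·) l l').sum ≠ 0 := by decide +kernel

theorem three_norm : ∀ l ∈ threeCols, (l.map fun x => x * x).sum = 36 ∨ (l.map fun x => x * x).sum = 9 := by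
  decide +kernel

variable {G : Type u} [Group G] [Fintype G] [IsSimpleGroup G] [Fintype (IrrCharacter G)]
  {D11 : PData G 11 5 1} {D7 : PData G 7 3 1} {D5 : PData G 5 4 1}

local instance fact_three_thr : Fact (Nat.Prime 3) := ⟨by norm_num⟩
local instance fact_five_thr : Fact (Nat.Prime 5) := ⟨by norm_num⟩
local instance fact_seven_thr : Fact (Nat.Prime 7) := ⟨by norm_num⟩
local instance fact_eleven_thr : Fact (Nat.Prime 11) := ⟨by norm_num⟩

theorem Table.dg_mem (T : Table D11 D7 D5) (χ : IrrCharacter G) : dg χ ∈ degList := by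
  have := Multiset.mem_map_of_mem dg (show χ ∈ (Finset.univ : Finset (IrrCharacter G)).val from Finset.mem_univ χ)
  rwa [T.degs, Multiset.mem_coe] at this

theorem Table.exists_deg (T : Table D11 D7 D5) {d : ℕ} (hd : d ∈ degList) : ∃ χ : IrrCharacter G, dg χ = d := by
  have hd' : d ∈ (↑degList : Multiset ℕ) := hd
  rw [← T.degs] at hd'
  obtain ⟨χ, -, h⟩ := Multiset.mem_map.1 hd'
  exact ⟨χ, h⟩

/-- An exceptional character from a degree missing among the others. -/
theorem PData.mem_Y_of {p e : ℕ} [Fact p.Prime] (D : PData G p e 1) {X' : List (IrrCharacter G)}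
    (hX' : List.Perm X' D.S.X.toList) {χ : IrrCharacter G} (h1 : χ ≠ oneChar G) (hd : ¬ p ∣ dg χ)
    (hn : dg χ ∉ (X'.map (sd D.S)).map Int.natAbs) : χ ∈ D.S.Y := by
  refine (D.mem_blk.1 (D.mem_blk_of rfl h1 hd)).resolve_left fun hX => hn ?_
  rw [List.mem_map]
  exact ⟨sd D.S χ, List.mem_map.2 ⟨χ, hX'.mem_iff.2 (Finset.mem_toList.2 hX), rfl⟩, natAbs_sd D.S hX⟩

theorem pairsOne_snd : ∀ pr ∈ pairsOne, pr.2.map Int.natAbs = [21, 45, 45, 210] := by decide +kernel

theorem ne_one_dg {χ : IrrCharacter G} (h : dg χ ≠ 1) : χ ≠ oneChar G := fun he => h (by rw [he, dg_one])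

/-- Characters of equal degree agree at the elements of order prime to 77. -/
theorem Table.same_deg (T : Table D11 D7 D5) {χ χ' : IrrCharacter G} (h : dg χ = dg χ') {g : G}
    (h7 : ¬ 7 ∣ orderOf g) (h11 : ¬ 11 ∣ orderOf g) : (χ : G → ℂ) g = (χ' : G → ℂ) g := by
  classical
  rcases degList_counts _ (T.dg_mem χ) with h45 | h280 | h1
  · obtain ⟨X7, hX7, hl⟩ := T.seven
    have hY : ∀ ψ : IrrCharacter G, dg ψ = 45 → ψ ∈ D7.S.Y := fun ψ hψ =>
      D7.mem_Y_of hX7 (ne_one_dg (by omega)) (by rw [hψ]; norm_num) (by rw [hψ, hl]; decide)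
    exact D7.S.regular_Y χ (hY χ h45) χ' (hY χ' (h ▸ h45)) g h7
  · obtain ⟨X5, X11, hX5, hX11, hP⟩ := T.five_eleven
    have hs := pairsOne_snd _ hP
    simp only at hs
    have hY : ∀ ψ : IrrCharacter G, dg ψ = 280 → ψ ∈ D11.S.Y := fun ψ hψ =>
      D11.mem_Y_of hX11 (ne_one_dg (by omega)) (by rw [hψ]; norm_num) (by rw [hψ, hs]; decide)
    exact D11.S.regular_Y χ (hY χ h280) χ' (hY χ' (h ▸ h280)) g h11
  · have hc : ((Finset.univ : Finset (IrrCharacter G)).filter (fun ψ => dg χ = dg ψ)).card = 1 := by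
      rw [← h1, ← Multiset.coe_count, ← T.degs, Multiset.count_map]
      rfl
    obtain ⟨ψ, hψ⟩ := Finset.card_eq_one.1 hc
    have e1 : χ = ψ := Finset.mem_singleton.1 (hψ ▸ Finset.mem_filter.2 ⟨Finset.mem_univ χ, rfl⟩)
    have e2 : χ' = ψ := Finset.mem_singleton.1 (hψ ▸ Finset.mem_filter.2 ⟨Finset.mem_univ χ', h⟩)
    rw [e1, e2]

theorem reg_three {g : G} (hg : orderOf g = 3) {p : ℕ} (hp : p.Prime) (hp3 : p ≠ 3) : ¬ p ∣ orderOf g := by
  rw [hg]; exact fun hd => hp3 ((Nat.prime_dvd_prime_iff_eq hp Nat.prime_three).1 hd)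

theorem ne_one_three {g : G} (hg : orderOf g = 3) : g ≠ 1 := fun h => by rw [h, orderOf_one] at hg; omega

/-- The values at an element of order three are integers. -/
theorem Table.val_three (T : Table D11 D7 D5) {g : G} (hg : orderOf g = 3) (χ : IrrCharacter G) :
    (χ : G → ℂ) g = (iv χ g : ℂ) := by
  refine iv_spec (CfsgLib.BSW.exists_int_value χ fun m hm => ?_)
  have h3 : ¬ 3 ∣ m := fun hd => by
    have := Nat.eq_one_of_dvd_coprimes hm hd (hg ▸ orderOf_dvd_natCard g)
    omega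
  have hinv : (χ : G → ℂ) g⁻¹ = (χ : G → ℂ) g :=
    T.same_deg (χ := ⟨_, CfsgLib.Char.irr_inv_isIrr χ⟩) (χ' := χ)
      (by simp [dg, charDegree]) (reg_three hg (by norm_num) (by norm_num))
      (reg_three hg (by norm_num) (by norm_num))
  rw [← pow_mod_orderOf, hg]
  rcases (by omega : m % 3 = 1 ∨ m % 3 = 2) with e | e <;> rw [e]
  · rw [pow_one]
  · rw [show g ^ 2 = g⁻¹ from eq_inv_of_mul_eq_one_left (by
      rw [← pow_succ, show 2 + 1 = orderOf g by omega, pow_orderOf_eq_one]), hinv]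

/-- The value on the characters of given degree. -/
noncomputable def degVal (g : G) (d : ℕ) : ℤ :=
  open Classical in if h : ∃ χ : IrrCharacter G, dg χ = d then iv h.choose g else 0

theorem Table.iv_eq_degVal (T : Table D11 D7 D5) {g : G} (hg : orderOf g = 3) (χ : IrrCharacter G) :
    iv χ g = degVal g (dg χ) := by
  have h : ∃ ψ : IrrCharacter G, dg ψ = dg χ := ⟨χ, rfl⟩
  rw [degVal, dif_pos h]
  exact iv_eq (by rw [T.same_deg h.choose_spec.symm (reg_three hg (by norm_num) (by norm_num))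
    (reg_three hg (by norm_num) (by norm_num)), T.val_three hg])

theorem Table.sum_deg (T : Table D11 D7 D5) (φ : ℕ → ℤ) :
    ∑ χ : IrrCharacter G, φ (dg χ) = (degList.map φ).sum := sum_of_map T.degs φ

/-- The relation of a block at an element with values depending only on the degree. -/
theorem PData.rel_sgnv {p e c : ℕ} [Fact p.Prime] (D : PData G p e c) (hep : e ∣ p - 1) (he : 1 ≤ e)
    {X' : List (IrrCharacter G)} (hX' : List.Perm X' D.S.X.toList) {g : G} (hgr : ¬ p ∣ orderOf g)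
    (hg : ∀ χ : IrrCharacter G, (χ : G → ℂ) g = (iv χ g : ℂ)) {v : ℕ → ℤ}
    (hv : ∀ χ : IrrCharacter G, iv χ g = v (dg χ)) {l : List ℤ} (hl : X'.map (sd D.S) = l) :
    sgnv v (1 + l.sum) = 1 + (l.map (sgnv v)).sum := by
  classical
  obtain ⟨θ, hθ⟩ := nonempty_Y D.S hep he
  subst hl
  rw [(hX'.map _).sum_eq, Finset.sum_map_toList, ← rel_one D.S hθ, List.map_map, (hX'.map _).sum_eq,
    Finset.sum_map_toList, Finset.sum_congr rfl fun χ hχ => show (sgnv v ∘ sd D.S) χ = sv D.S g χ from ?_,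
    ← rel_val D.S hθ hgr hg]
  · have h0 : 0 < D.S.D := D.S.degree_Y θ hθ ▸ dg_pos θ
    rw [hv θ, show dg θ = D.S.D from D.S.degree_Y θ hθ]
    rcases D.S.sign with hs | hs <;> simp [sgnv, hs, h0]
  · have h0 := dg_pos χ
    simp only [Function.comp_apply, sv, sd, hv χ]
    rcases D.S.sign_X χ hχ with hs | hs <;> simp [sgnv, hs, h0]

theorem rel_five_eq (v : ℕ → ℤ) : ∀ pr ∈ pairsOne, sgnv v (1 + pr.1.sum) = 1 + (pr.1.map (sgnv v)).sum →
    1 + v 21 - v 99 - v 154 + v 231 = 0 := by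
  intro pr hpr h
  simp only [pairsOne, List.mem_cons, List.not_mem_nil, or_false] at hpr
  rcases hpr with rfl | rfl | rfl | rfl <;> simp [sgnv] at h <;> linarith

theorem rel_eleven_eq (v : ℕ → ℤ) : ∀ pr ∈ pairsOne, sgnv v (1 + pr.2.sum) = 1 + (pr.2.map (sgnv v)).sum →
    v 280 = 1 - v 21 + 2 * v 45 + v 210 := by
  intro pr hpr h
  simp only [pairsOne, List.mem_cons, List.not_mem_nil, or_false] at hpr
  rcases hpr with rfl | rfl | rfl | rfl <;> simp [sgnv] at h <;> linarith

/-- The column of an element of order three. -/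
theorem Table.col_three (T : Table D11 D7 D5) (h : Nat.card G = 443520) {g : G} (hg : orderOf g = 3) :
    degList.map (degVal g) ∈ threeCols ∧
      (Nat.card (Subgroup.centralizer ({g} : Set G)) : ℤ) = ((degList.map (degVal g)).map fun x => x * x).sum := by
  classical
  obtain ⟨v, hvdef⟩ : ∃ v : ℕ → ℤ, v = degVal g := ⟨_, rfl⟩
  have hv : ∀ χ : IrrCharacter G, iv χ g = v (dg χ) := fun χ => hvdef ▸ T.iv_eq_degVal hg χ
  rw [← hvdef]
  have hval := T.val_three hg
  have hg1 := ne_one_three hg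
  have r7 := reg_three hg (p := 7) (by norm_num) (by norm_num)
  have r5 := reg_three hg (p := 5) (by norm_num) (by norm_num)
  have r11 := reg_three hg (p := 11) (by norm_num) (by norm_num)
  set C := Nat.card (Subgroup.centralizer ({g} : Set G)) with hC
  have hone : v 1 = 1 := by
    have := hv (oneChar G)
    rw [dg_one, iv_oneChar] at this
    exact this.symm
  have hsq : ((degList.map v).map fun x => x * x).sum = (C : ℤ) := by
    rw [List.map_map, hC, ← sum_iv_sq hval]
    rw [← T.sum_deg]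
    exact Finset.sum_congr rfl fun χ _ => by simp [hv χ]
  refine ⟨?_, hsq.symm⟩
  have h9 : ∀ d ∈ degList, 9 ∣ d → v d = 0 := fun d hd h9 => by
    obtain ⟨χ, rfl⟩ := T.exists_deg hd
    rw [← hv χ]
    refine iv_eq ?_
    rw [Int.cast_zero]
    by_contra hne
    exact not_full (q := 3) (a := 2) (by rw [h]; norm_num) (by rw [h]; norm_num) χ
      (by rw [hg]) hne h9
  have h3 : ∀ d ∈ degList, d % 3 = 0 → v d % 3 = 0 := fun d hd hd3 => by
    obtain ⟨χ, rfl⟩ := T.exists_deg hd
    have h1 : (χ : G → ℂ) (g ^ 3) = ((dg χ : ℤ) : ℂ) := by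
      rw [← hg, pow_orderOf_eq_one, val_one]; simp
    have := CfsgLib.BSW.value_pow_prime χ Nat.prime_three (hval χ) h1
    rw [hv χ] at this
    omega
  obtain ⟨X7, hX7, hl7⟩ := T.seven
  obtain ⟨X5, X11, hX5, hX11, hP⟩ := T.five_eleven
  have e7 := D7.rel_sgnv (by norm_num) (by norm_num) hX7 r7 hval hv hl7
  have e5 := rel_five_eq v _ hP (D5.rel_sgnv (by norm_num) (by norm_num) hX5 r5 hval hv rfl)
  have e11 := rel_eleven_eq v _ hP (D11.rel_sgnv (by norm_num) (by norm_num) hX11 r11 hval hv rfl)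
  have ed : (degList.map fun d : ℕ => (d : ℤ) * v d).sum = 0 := by
    rw [← T.sum_deg, ← sum_dg_iv hg1 hval]
    exact Finset.sum_congr rfl fun χ _ => by rw [hv χ]
  haveI : Fact (Nat.Prime 2) := ⟨Nat.prime_two⟩
  obtain ⟨t, ht⟩ := exists_prime_orderOf_dvd_card' (G := G) 2 (by rw [h]; norm_num)
  have et : (degList.map fun d => tval d * v d).sum = 0 := by
    rw [← T.sum_deg, ← sum_iv_mul (g := t) (h := g) (fun hc => by
      obtain ⟨c, hc⟩ := isConj_iff.1 hc
      rw [← hc, show orderOf (c * t * c⁻¹) = orderOf t from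
        orderOf_injective (MulAut.conj c).toMonoidHom (MulEquiv.injective _) t, ht] at hg
      omega) (fun χ => val_invol (noncomm h) χ ht) hval]
    exact Finset.sum_congr rfl fun χ _ => by rw [hv χ, (T.invol t ht).1 χ]
  have h45 : v 45 = 0 := h9 45 (by simp [degList]) (by norm_num)
  have h99 : v 99 = 0 := h9 99 (by simp [degList]) (by norm_num)
  simp [sgnv, sevenB] at e7
  simp [degList, tval, hone, h45, h99] at ed et
  have h55 : v 55 = 1 := by linarith
  have hshape : degList.map v = threeCol (v 21) (v 231) := by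
    simp only [degList, List.map_cons, List.map_nil, threeCol, hone, h45, h55, h99, List.cons.injEq, and_true,
      true_and]
    refine ⟨?_, ?_, ?_, ?_, ?_⟩ <;> linarith
  have ha := h3 21 (by simp [degList]) (by norm_num)
  have hw := h3 231 (by simp [degList]) (by norm_num)
  rw [hshape] at hsq ⊢
  have hC1152 : C ∣ 1152 := Nat.Coprime.dvd_of_dvd_mul_right
    ((Nat.Prime.coprime_iff_not_dvd (by norm_num)).2 (D5.not_dvd_cent rfl hg1 r5)).symm
    (show C ∣ 1152 * 5 from cent_dvd_5760 h D11 D7 hg1 r7 r11)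
  have hC3 : 3 ∣ C := hg ▸ Subgroup.orderOf_dvd_natCard _ (Subgroup.mem_centralizer_singleton_iff.2 rfl)
  have hbd : v 21 * v 21 + v 231 * v 231 ≤ 1152 := by
    have hCle : (C : ℤ) ≤ 1152 := by exact_mod_cast Nat.le_of_dvd (by norm_num) hC1152
    simp [threeCol] at hsq
    nlinarith [mul_self_nonneg (1 + v 21 + v 231), mul_self_nonneg (2 * v 21 + v 231),
      mul_self_nonneg (-3 * v 21 - 3 * v 231 - 2)]
  have hb1 : -34 < v 21 ∧ v 21 < 34 := by constructor <;> nlinarith [mul_self_nonneg (v 231)]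
  have hb2 : -34 < v 231 ∧ v 231 < 34 := by constructor <;> nlinarith [mul_self_nonneg (v 21)]
  obtain ⟨i, hi, hi'⟩ : ∃ i : ℕ, i < 23 ∧ v 21 = 3 * (i : ℤ) - 33 :=
    ⟨((v 21 + 33) / 3).toNat, by omega, by omega⟩
  obtain ⟨j, hj, hj'⟩ : ∃ j : ℕ, j < 23 ∧ v 231 = 3 * (j : ℤ) - 33 :=
    ⟨((v 231 + 33) / 3).toNat, by omega, by omega⟩
  rw [hi', hj'] at hsq ⊢
  refine three_search i hi j hj ?_ ?_
  · rw [colNorm, hsq, Int.toNat_natCast]; exact Nat.mod_eq_zero_of_dvd hC1152
  · rw [colNorm, hsq, Int.toNat_natCast]; exact Nat.mod_eq_zero_of_dvd hC3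

/-- The elements of order three form one class. -/
theorem Table.three_conj (T : Table D11 D7 D5) (h : Nat.card G = 443520) {a b : G} (ha : orderOf a = 3)
    (hb : orderOf b = 3) : IsConj a b := by
  classical
  by_contra hn
  refine three_inner _ (T.col_three h ha).1 _ (T.col_three h hb).1 ?_
  rw [List.zipWith_map, List.zipWith_self, ← T.sum_deg, ← sum_iv_mul hn (T.val_three ha) (T.val_three hb)]
  exact Finset.sum_congr rfl fun χ _ => by rw [T.iv_eq_degVal ha χ, T.iv_eq_degVal hb χ]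

/-- The centralizer order of an element of order three. -/
theorem Table.cent_three (T : Table D11 D7 D5) (h : Nat.card G = 443520) {a : G} (ha : orderOf a = 3) :
    Nat.card (Subgroup.centralizer ({a} : Set G)) = 36 := by
  classical
  obtain ⟨hm, hc⟩ := T.col_three h ha
  rcases three_norm _ hm with h36 | h9
  · omega
  exfalso
  haveI : Fact (Nat.Prime 2) := ⟨Nat.prime_two⟩
  obtain ⟨t, ht⟩ := exists_prime_orderOf_dvd_card' (G := G) 2 (by rw [h]; norm_num)
  obtain ⟨b', hb'⟩ := exists_prime_orderOf_dvd_card' (G := Subgroup.centralizer ({t} : Set G)) 3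
    (by rw [(T.invol t ht).2]; norm_num)
  have hb : orderOf (b' : G) = 3 := by rw [Subgroup.orderOf_coe, hb']
  obtain ⟨c, hc'⟩ := isConj_iff.1 (T.three_conj h hb ha)
  have h2 : 2 ∣ Nat.card (Subgroup.centralizer ({a} : Set G)) := by
    rw [← ht, show orderOf t = orderOf (c * t * c⁻¹) from
      (orderOf_injective (MulAut.conj c).toMonoidHom (MulEquiv.injective _) t).symm]
    refine Subgroup.orderOf_dvd_natCard _ (Subgroup.mem_centralizer_singleton_iff.2 ?_)
    have hcm := Subgroup.mem_centralizer_singleton_iff.1 b'.2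
    rw [← hc']
    calc c * t * c⁻¹ * (c * (b' : G) * c⁻¹) = c * (t * (b' : G)) * c⁻¹ := by group
      _ = c * ((b' : G) * t) * c⁻¹ := by rw [hcm]
      _ = _ := by group
  omega

end CfsgLib.Char.MTwentyTwoOrder
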