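import Cfsg.Agent.Lib.Char.MTwentyTwoOrder.Degrees

/-!
# Simple groups of order 443520: the characters of the three principal blocks together
-/

set_option autoImplicit false
set_option linter.all false

open Cfsg CfsgLib.Perm.PrimeBlock CfsgLib.Block Finset CfsgLib.Char.MEleven.Order CfsgLib.Char.MTwelveOrder

namespace CfsgLib.Char.MTwentyTwoOrder

universe u

local instance fact_five_union : Fact (Nat.Prime 5) := ⟨by norm_num⟩
local instance fact_seven_union : Fact (Nat.Prime 7) := ⟨by norm_num⟩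
local instance fact_eleven_union : Fact (Nat.Prime 11) := ⟨by norm_num⟩

variable {G : Type u} [Group G] [Fintype G] [IsSimpleGroup G]
  (D11 : PData G 11 5 1) (D7 : PData G 7 3 1) {c : ℕ} (D5 : PData G 5 4 c)

/-- The characters of the three blocks. -/
noncomputable def unionBlk : Finset (IrrCharacter G) :=
  open Classical in
  insert (oneChar G) (D11.blk ∪ D7.blk.filter (fun χ => dg χ % 11 = 0) ∪
    D5.blk.filter (fun χ => dg χ % 11 = 0 ∧ dg χ % 7 = 0))

theorem union_map {α : Type*} (f : IrrCharacter G → α) (key : α → ℕ) (hkey : ∀ χ, key (f χ) = dg χ)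
    {l11 l7 l5 : List α} (h11 : D11.blk.val.map f = ↑l11) (h7 : D7.blk.val.map f = ↑l7)
    (h5 : D5.blk.val.map f = ↑l5) :
    (unionBlk D11 D7 D5).val.map f = ↑(f (oneChar G) :: (l11 ++ l7.filter (fun q => key q % 11 == 0) ++
      l5.filter (fun q => key q % 11 == 0 && key q % 7 == 0))) := by
  classical
  have hn11 : ∀ χ ∈ D11.blk, ¬ 11 ∣ dg χ := fun χ hχ => D11.blk_ndvd (by norm_num) (by norm_num) hχ
  have hn7 : ∀ χ ∈ D7.blk, ¬ 7 ∣ dg χ := fun χ hχ => D7.blk_ndvd (by norm_num) (by norm_num) hχ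
  have hnot : oneChar G ∉ D11.blk ∪ D7.blk.filter (fun χ => dg χ % 11 = 0) ∪
      D5.blk.filter (fun χ => dg χ % 11 = 0 ∧ dg χ % 7 = 0) := by
    simp only [Finset.mem_union, Finset.mem_filter, not_or]
    exact ⟨⟨D11.one_notMem_blk, fun h => D7.one_notMem_blk h.1⟩, fun h => D5.one_notMem_blk h.1⟩
  have hd1 : Disjoint D11.blk (D7.blk.filter (fun χ => dg χ % 11 = 0)) := Finset.disjoint_left.2 fun χ h h' =>
    hn11 χ h (Nat.dvd_of_mod_eq_zero (Finset.mem_filter.1 h').2)
  have hd2 : Disjoint (D11.blk.disjUnion _ hd1) (D5.blk.filter (fun χ => dg χ % 11 = 0 ∧ dg χ % 7 = 0)) :=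
    Finset.disjoint_left.2 fun χ h h' => by
      rcases Finset.mem_disjUnion.1 h with h1 | h1
      · exact hn11 χ h1 (Nat.dvd_of_mod_eq_zero (Finset.mem_filter.1 h').2.1)
      · exact hn7 χ (Finset.mem_filter.1 h1).1 (Nat.dvd_of_mod_eq_zero (Finset.mem_filter.1 h').2.2)
  have e7 : (D7.blk.filter (fun χ => dg χ % 11 = 0)).val.map f = ↑(l7.filter (fun q => key q % 11 == 0)) := by
    rw [Finset.filter_val, show (↑(l7.filter (fun q => key q % 11 == 0)) : Multiset α) =
      Multiset.filter (fun q => key q % 11 = 0) (↑l7 : Multiset α) by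
        rw [Multiset.filter_coe]; rfl, ← h7, Multiset.filter_map]
    congr 1
    refine Multiset.filter_congr fun χ _ => ?_
    simp [hkey]
  have e5 : (D5.blk.filter (fun χ => dg χ % 11 = 0 ∧ dg χ % 7 = 0)).val.map f =
      ↑(l5.filter (fun q => key q % 11 == 0 && key q % 7 == 0)) := by
    rw [Finset.filter_val, show (↑(l5.filter (fun q => key q % 11 == 0 && key q % 7 == 0)) : Multiset α) =
      Multiset.filter (fun q => key q % 11 = 0 ∧ key q % 7 = 0) (↑l5 : Multiset α) by
        rw [Multiset.filter_coe]; congr 1; exact List.filter_congr fun q _ => (Bool.decide_and _ _).symm, ← h5, Multiset.filter_map]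
    congr 1
    refine Multiset.filter_congr fun χ _ => ?_
    simp [hkey]
  rw [unionBlk, Finset.insert_val_of_notMem hnot, Multiset.map_cons, ← Finset.disjUnion_eq_union _ _ hd1,
    ← Finset.disjUnion_eq_union _ _ hd2, Finset.disjUnion_val, Finset.disjUnion_val, Multiset.map_add,
    Multiset.map_add, h11, e7, e5, Multiset.coe_add, Multiset.coe_add, Multiset.cons_coe]

theorem union_vals {X7 X5 X11 : List (IrrCharacter G)} (hX7 : List.Perm X7 D7.S.X.toList)
    (hX5 : List.Perm X5 D5.S.X.toList) (hX11 : List.Perm X11 D11.S.X.toList) {u : G} (hu : orderOf u = 2)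
    (hG : ¬ IsMulCommutative G) :
    (unionBlk D11 D7 D5).val.map (fun χ => (dg χ, iv χ u)) =
      ↑(unionList (blockList 2 (X7.map fun χ => (sd D7.S χ, sv D7.S u χ)))
        (blockList 1 (X5.map fun χ => (sd D5.S χ, sv D5.S u χ)))
        (blockList 2 (X11.map fun χ => (sd D11.S χ, sv D11.S u χ)))) := by
  have hval := fun χ : IrrCharacter G => val_invol hG χ hu
  have hreg : ∀ p : ℕ, p.Prime → p ≠ 2 → ¬ p ∣ orderOf u := fun p hp hp2 => by
    rw [hu]; exact fun h => hp2 ((Nat.prime_dvd_prime_iff_eq hp Nat.prime_two).1 h)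
  rw [union_map D11 D7 D5 (fun χ => (dg χ, iv χ u)) Prod.fst (fun χ => rfl)
    (D11.blk_vals (by norm_num) (by norm_num) (hreg 11 (by norm_num) (by norm_num)) hval hX11)
    (D7.blk_vals (by norm_num) (by norm_num) (hreg 7 (by norm_num) (by norm_num)) hval hX7)
    (D5.blk_vals (by norm_num) (by norm_num) (hreg 5 (by norm_num) (by norm_num)) hval hX5)]
  rw [unionList]
  congr 1
  rw [dg_one, iv_oneChar]

theorem union_degs {X7 X5 X11 : List (IrrCharacter G)} (hX7 : List.Perm X7 D7.S.X.toList)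
    (hX5 : List.Perm X5 D5.S.X.toList) (hX11 : List.Perm X11 D11.S.X.toList) :
    (unionBlk D11 D7 D5).val.map dg = ↑(1 :: unionDegs (blockDegs 1 (X5.map (sd D5.S)))
      (blockDegs 2 (X7.map (sd D7.S))) (blockDegs 2 (X11.map (sd D11.S)))) := by
  rw [union_map D11 D7 D5 dg id (fun χ => rfl) (D11.blk_degs (by norm_num) (by norm_num) hX11)
    (D7.blk_degs (by norm_num) (by norm_num) hX7) (D5.blk_degs (by norm_num) (by norm_num) hX5), dg_one]
  rfl

/-- The sum of a function of `f` over the union. -/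
theorem sum_of_map {ι α β : Type*} [AddCommMonoid β] {A : Finset ι} {f : ι → α} {l : List α}
    (h : A.val.map f = ↑l) (φ : α → β) : ∑ i ∈ A, φ (f i) = (l.map φ).sum := by
  rw [Finset.sum_eq_multiset_sum, show A.val.map (fun i => φ (f i)) = (A.val.map f).map φ from
    (Multiset.map_map φ f A.val).symm, h, Multiset.map_coe, Multiset.sum_coe]

theorem mem_union_of (hc : c = 1) {χ : IrrCharacter G} (h : ¬ 385 ∣ dg χ) : χ ∈ unionBlk D11 D7 D5 := by
  classical
  by_cases h1 : χ = oneChar G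
  · simp [unionBlk, h1]
  simp only [unionBlk, Finset.mem_insert, Finset.mem_union, Finset.mem_filter]
  right
  by_cases h11 : 11 ∣ dg χ
  · by_cases h7 : 7 ∣ dg χ
    · refine Or.inr ⟨D5.mem_blk_of hc h1 fun h5 => h ?_, Nat.mod_eq_zero_of_dvd h11, Nat.mod_eq_zero_of_dvd h7⟩
      have := Nat.Coprime.mul_dvd_of_dvd_of_dvd (by norm_num : Nat.Coprime 35 11)
        (Nat.Coprime.mul_dvd_of_dvd_of_dvd (by norm_num : Nat.Coprime 5 7) h5 h7) h11
      simpa using this
    · exact Or.inl (Or.inr ⟨D7.mem_blk_of rfl h1 h7, Nat.mod_eq_zero_of_dvd h11⟩)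
  · exact Or.inl (Or.inl (D11.mem_blk_of rfl h1 h11))

/-- Exactly one further character, of degree 385. -/
theorem exists_last (h : Nat.card G = 443520) [Fintype (IrrCharacter G)] (hc : c = 1)
    (hsum : ∑ χ ∈ unionBlk D11 D7 D5, dg χ * dg χ + 148225 = 443520) :
    ∃ ψ : IrrCharacter G, dg ψ = 385 ∧ ψ ∉ unionBlk D11 D7 D5 ∧
      ∀ χ : IrrCharacter G, χ ∈ unionBlk D11 D7 D5 ∨ χ = ψ := by
  classical
  have htot : ∑ χ : IrrCharacter G, dg χ * dg χ = 443520 := by
    rw [← h, ← sum_dg_sq]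
    exact Finset.sum_congr rfl fun χ _ => by ring
  rw [← Finset.sum_sdiff (Finset.subset_univ (unionBlk D11 D7 D5))] at htot
  set O := (Finset.univ : Finset (IrrCharacter G)) \ unionBlk D11 D7 D5 with hO
  have hdvd : ∀ χ ∈ O, 385 ∣ dg χ ∧ 0 < dg χ := fun χ hχ => ⟨by
    by_contra hn
    exact (Finset.mem_sdiff.1 hχ).2 (mem_union_of D11 D7 D5 hc hn), dg_pos χ⟩
  have hO' : ∑ χ ∈ O, dg χ * dg χ = 148225 := by omega
  obtain ⟨ψ, hψ⟩ : O.Nonempty := Finset.nonempty_iff_ne_empty.2 fun he => by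
    rw [he, Finset.sum_empty] at hO'
    norm_num at hO'
  have hle : ∀ χ ∈ O, 148225 ≤ dg χ * dg χ := fun χ hχ => by
    obtain ⟨h1, h2⟩ := hdvd χ hχ
    have h3 := Nat.le_of_dvd h2 h1
    exact Nat.mul_le_mul h3 h3
  have hone : ∀ χ ∈ O, χ = ψ := by
    intro χ hχ
    by_contra hne
    have := Finset.sum_le_sum_of_subset (f := fun χ => dg χ * dg χ)
      (show {χ, ψ} ⊆ O from fun a ha => by
        simp only [Finset.mem_insert, Finset.mem_singleton] at ha
        rcases ha with rfl | rfl <;> assumption)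
    rw [Finset.sum_pair hne, hO'] at this
    have := hle χ hχ
    have := hle ψ hψ
    omega
  have hψd : dg ψ = 385 := by
    rw [show O = {ψ} from Finset.eq_singleton_iff_unique_mem.2 ⟨hψ, hone⟩, Finset.sum_singleton] at hO'
    exact Nat.mul_self_inj.1 (hO'.trans (by norm_num))
  refine ⟨ψ, hψd, (Finset.mem_sdiff.1 hψ).2, fun χ => ?_⟩
  by_cases hm : χ ∈ unionBlk D11 D7 D5
  · exact Or.inl hm
  · exact Or.inr (hone χ (Finset.mem_sdiff.2 ⟨Finset.mem_univ _, hm⟩))

end CfsgLib.Char.MTwentyTwoOrder
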